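import Mathlib

/-!
Conjugacy and centralisers of non-scalar 2 x 2 matrices over a finite field, through the
binary form `qf M v = det [v | M v]`.
-/

namespace CfsgLib.SL2Table

open Matrix

variable {F : Type*} [Field F]

/-- The binary form `det [v | M v]`. -/
def qf (M : Matrix (Fin 2) (Fin 2) F) (v : Fin 2 → F) : F :=
  M 1 0 * v 0 * v 0 + (M 1 1 - M 0 0) * v 0 * v 1 - M 0 1 * v 1 * v 1

/-- The matrix `[v | M v]`. -/
def cyc (M : Matrix (Fin 2) (Fin 2) F) (v : Fin 2 → F) : Matrix (Fin 2) (Fin 2) F :=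
  !![v 0, M 0 0 * v 0 + M 0 1 * v 1; v 1, M 1 0 * v 0 + M 1 1 * v 1]

/-- The companion matrix of `X^2 - t X + d`. -/
def comp (t d : F) : Matrix (Fin 2) (Fin 2) F := !![0, -d; 1, t]

/-- `M` is not a scalar matrix. -/
def NonScalar (M : Matrix (Fin 2) (Fin 2) F) : Prop := ¬ ∃ a : F, M = a • (1 : Matrix (Fin 2) (Fin 2) F)

theorem det_cyc (M : Matrix (Fin 2) (Fin 2) F) (v : Fin 2 → F) : (cyc M v).det = qf M v := by
  simp [cyc, qf, det_fin_two]
  ring

theorem mul_cyc (M : Matrix (Fin 2) (Fin 2) F) (v : Fin 2 → F) :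
    M * cyc M v = cyc M v * comp M.trace M.det := by
  ext i j
  fin_cases i <;> fin_cases j <;>
    simp [cyc, comp, Matrix.mul_apply, Fin.sum_univ_two, det_fin_two, trace_fin_two] <;> ring

theorem scalar_iff (M : Matrix (Fin 2) (Fin 2) F) :
    (∃ a : F, M = a • (1 : Matrix (Fin 2) (Fin 2) F)) ↔ M 0 1 = 0 ∧ M 1 0 = 0 ∧ M 0 0 = M 1 1 := by
  constructor
  · rintro ⟨a, rfl⟩
    simp
  · rintro ⟨h1, h2, h3⟩
    refine ⟨M 0 0, ?_⟩
    ext i j
    fin_cases i <;> fin_cases j <;> simp [h1, h2, h3]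

theorem nonScalar_iff (M : Matrix (Fin 2) (Fin 2) F) :
    NonScalar M ↔ ¬ (M 0 1 = 0 ∧ M 1 0 = 0 ∧ M 0 0 = M 1 1) :=
  (scalar_iff M).not

theorem exists_qf_ne_zero {M : Matrix (Fin 2) (Fin 2) F} (h : NonScalar M) :
    ∃ v : Fin 2 → F, qf M v ≠ 0 := by
  by_contra hc
  push Not at hc
  have h1 := hc ![1, 0]
  have h2 := hc ![0, 1]
  have h3 := hc ![1, 1]
  simp [qf] at h1 h2 h3
  rw [nonScalar_iff] at h
  exact h ⟨h2, h1, by linear_combination -h3 + h1 - h2⟩

theorem qf_smul (M : Matrix (Fin 2) (Fin 2) F) (c : F) (v : Fin 2 → F) :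
    qf M (c • v) = c * c * qf M v := by
  simp [qf]
  ring

theorem cyc_conj {N M M' : Matrix (Fin 2) (Fin 2) F} (h : N * M = M' * N) (v : Fin 2 → F) :
    cyc M' (N *ᵥ v) = N * cyc M v := by
  have e := fun i j => congrFun (congrFun h i) j
  simp only [Matrix.mul_apply, Fin.sum_univ_two] at e
  ext i j
  fin_cases i <;> fin_cases j <;>
    simp [cyc, Matrix.mul_apply, Fin.sum_univ_two, mulVec, dotProduct]
  · linear_combination -(v 0) * e 0 0 - (v 1) * e 0 1
  · linear_combination -(v 0) * e 1 0 - (v 1) * e 1 1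

theorem qf_conj {N M M' : Matrix (Fin 2) (Fin 2) F} (h : N * M = M' * N) (v : Fin 2 → F) :
    qf M' (N *ᵥ v) = N.det * qf M v := by
  rw [← det_cyc, ← det_cyc, cyc_conj h v, det_mul]

theorem cyc_ne_zero {M : Matrix (Fin 2) (Fin 2) F} {v : Fin 2 → F} (h : qf M v ≠ 0) :
    (cyc M v).det ≠ 0 := by rwa [det_cyc]

/-- Two non-scalar matrices with equal trace and determinant are intertwined by a matrix of
prescribed ratio of form values. -/
theorem exists_intertwine (M M' : Matrix (Fin 2) (Fin 2) F) (ht : M.trace = M'.trace)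
    (hd : M.det = M'.det) {v w : Fin 2 → F} (hv : qf M v ≠ 0) :
    ∃ N : Matrix (Fin 2) (Fin 2) F, N * M = M' * N ∧ N.det = qf M' w * (qf M v)⁻¹ := by
  have hu : IsUnit (cyc M v).det := (cyc_ne_zero hv).isUnit
  refine ⟨cyc M' w * (cyc M v)⁻¹, ?_, ?_⟩
  · have h1 : (cyc M v)⁻¹ * M = comp M.trace M.det * (cyc M v)⁻¹ := by
      calc (cyc M v)⁻¹ * M = (cyc M v)⁻¹ * (M * cyc M v) * (cyc M v)⁻¹ := by
            rw [Matrix.mul_assoc, Matrix.mul_assoc M, Matrix.mul_nonsing_inv _ hu, Matrix.mul_one]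
        _ = comp M.trace M.det * (cyc M v)⁻¹ := by
            rw [mul_cyc, ← Matrix.mul_assoc, Matrix.nonsing_inv_mul _ hu, Matrix.one_mul]
    rw [Matrix.mul_assoc, h1, ← Matrix.mul_assoc, ← Matrix.mul_assoc, ht, hd, ← mul_cyc]
  · rw [det_mul, det_cyc, det_nonsing_inv, det_cyc, Ring.inverse_eq_inv]

theorem gl_isConj (g h : GL (Fin 2) F) (hg : NonScalar (g : Matrix (Fin 2) (Fin 2) F))
    (hh : NonScalar (h : Matrix (Fin 2) (Fin 2) F))
    (ht : (g : Matrix (Fin 2) (Fin 2) F).trace = (h : Matrix (Fin 2) (Fin 2) F).trace)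
    (hd : (g : Matrix (Fin 2) (Fin 2) F).det = (h : Matrix (Fin 2) (Fin 2) F).det) : IsConj g h := by
  obtain ⟨v, hv⟩ := exists_qf_ne_zero hg
  obtain ⟨w, hw⟩ := exists_qf_ne_zero hh
  obtain ⟨N, hN, hdet⟩ := exists_intertwine _ _ ht hd (w := w) hv
  have hN0 : N.det ≠ 0 := by rw [hdet]; exact mul_ne_zero hw (inv_ne_zero hv)
  refine isConj_iff.2 ⟨Matrix.GeneralLinearGroup.mkOfDetNeZero N hN0, ?_⟩
  rw [mul_inv_eq_iff_eq_mul]
  apply Units.ext
  simpa using hN

theorem sl_isConj (g h : Matrix.SpecialLinearGroup (Fin 2) F)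
    (ht : (g : Matrix (Fin 2) (Fin 2) F).trace = (h : Matrix (Fin 2) (Fin 2) F).trace)
    {v w : Fin 2 → F} (hv : qf (g : Matrix (Fin 2) (Fin 2) F) v ≠ 0)
    (hvw : qf (h : Matrix (Fin 2) (Fin 2) F) w = qf (g : Matrix (Fin 2) (Fin 2) F) v) : IsConj g h := by
  obtain ⟨N, hN, hdet⟩ := exists_intertwine _ _ ht (by rw [g.2, h.2]) (w := w) hv
  rw [hvw, mul_inv_cancel₀ hv] at hdet
  obtain ⟨c, rfl⟩ : ∃ c : Matrix.SpecialLinearGroup (Fin 2) F, (c : Matrix (Fin 2) (Fin 2) F) = N :=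
    ⟨⟨N, hdet⟩, rfl⟩
  refine isConj_iff.2 ⟨c, ?_⟩
  rw [mul_inv_eq_iff_eq_mul]
  apply Subtype.ext
  simpa using hN

theorem trace_eq_of_isConj {g h : Matrix.SpecialLinearGroup (Fin 2) F} (hc : IsConj g h) :
    (h : Matrix (Fin 2) (Fin 2) F).trace = (g : Matrix (Fin 2) (Fin 2) F).trace := by
  obtain ⟨c, rfl⟩ := isConj_iff.1 hc
  rw [Matrix.SpecialLinearGroup.coe_mul, trace_mul_comm, ← Matrix.SpecialLinearGroup.coe_mul,
    ← mul_assoc, inv_mul_cancel, one_mul]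

theorem qf_of_isConj {g h : Matrix.SpecialLinearGroup (Fin 2) F} (hc : IsConj g h) (v : Fin 2 → F) :
    ∃ w : Fin 2 → F, qf (h : Matrix (Fin 2) (Fin 2) F) w = qf (g : Matrix (Fin 2) (Fin 2) F) v := by
  obtain ⟨c, rfl⟩ := isConj_iff.1 hc
  refine ⟨(c : Matrix (Fin 2) (Fin 2) F) *ᵥ v, ?_⟩
  have h := qf_conj (N := (c : Matrix (Fin 2) (Fin 2) F)) (M := (g : Matrix (Fin 2) (Fin 2) F))
    (M' := ((c * g * c⁻¹ : Matrix.SpecialLinearGroup (Fin 2) F) : Matrix (Fin 2) (Fin 2) F))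
    (by rw [← Matrix.SpecialLinearGroup.coe_mul, ← Matrix.SpecialLinearGroup.coe_mul,
      inv_mul_cancel_right]) v
  rw [h, c.2, one_mul]

/-- A non-degenerate binary form takes every non-zero value. -/
theorem exists_qf_eq [Fintype F] (h2 : (2 : F) ≠ 0) {M : Matrix (Fin 2) (Fin 2) F}
    (hd : M.trace * M.trace - 4 * M.det ≠ 0) (c : F) : ∃ v : Fin 2 → F, qf M v = c := by
  rw [trace_fin_two, det_fin_two] at hd
  by_cases h10 : M 1 0 = 0
  · have hne : M 1 1 - M 0 0 ≠ 0 := by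
      intro h
      apply hd
      linear_combination (M 1 1 - M 0 0) * h + 4 * (M 0 1) * h10
    refine ⟨![(c + M 0 1) / (M 1 1 - M 0 0), 1], ?_⟩
    simp [qf, h10]
    rw [mul_div_cancel₀ _ hne]
    ring
  · obtain ⟨δ, hδ⟩ : ∃ δ : F, δ = (M 0 0 + M 1 1) * (M 0 0 + M 1 1) - 4 * (M 0 0 * M 1 1 - M 0 1 * M 1 0) :=
      ⟨_, rfl⟩
    rw [← hδ] at hd
    have hodd : Fintype.card F % 2 = 1 := FiniteField.odd_card_of_char_ne_two fun h => h2 (by
      have := ringChar.Nat.cast_ringChar (R := F)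
      rw [h] at this
      exact_mod_cast this)
    obtain ⟨a, b, hab⟩ := FiniteField.exists_root_sum_quadratic
      (f := (Polynomial.X ^ 2 : Polynomial F))
      (g := Polynomial.C (-δ) * Polynomial.X ^ 2 + Polynomial.C (-(4 * M 1 0 * c)))
      (Polynomial.degree_X_pow 2)
      (by
        rw [Polynomial.degree_add_eq_left_of_degree_lt]
        · exact Polynomial.degree_C_mul_X_pow 2 (neg_ne_zero.2 hd)
        · rw [Polynomial.degree_C_mul_X_pow 2 (neg_ne_zero.2 hd)]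
          exact lt_of_le_of_lt Polynomial.degree_C_le (by decide))
      hodd
    simp at hab
    refine ⟨![(a - (M 1 1 - M 0 0) * b) / (2 * M 1 0), b], ?_⟩
    simp [qf]
    field_simp
    linear_combination hab + b ^ 2 * hδ

/-- In the degenerate case the values of the form lie in one square class. -/
theorem isSquare_mul_qf {M : Matrix (Fin 2) (Fin 2) F} (h2 : (2 : F) ≠ 0)
    (hd : M.trace * M.trace - 4 * M.det = 0) (v w : Fin 2 → F) :
    IsSquare (qf M v * qf M w) := by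
  rw [trace_fin_two, det_fin_two] at hd
  by_cases h10 : M 1 0 = 0
  · have hne : M 1 1 - M 0 0 = 0 := by
      have : (M 1 1 - M 0 0) * (M 1 1 - M 0 0) = 0 := by linear_combination hd - 4 * (M 0 1) * h10
      exact mul_self_eq_zero.1 this
    exact ⟨M 0 1 * v 1 * w 1, by simp [qf, h10, hne]; ring⟩
  · refine ⟨(2 * M 1 0 * v 0 + (M 1 1 - M 0 0) * v 1) * (2 * M 1 0 * w 0 + (M 1 1 - M 0 0) * w 1) / (4 * M 1 0), ?_⟩
    have h4 : (4 : F) * M 1 0 ≠ 0 := mul_ne_zero (by rw [show (4 : F) = 2 * 2 by norm_num]; exact mul_ne_zero h2 h2) h10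
    have e : ∀ u : Fin 2 → F, 4 * M 1 0 * qf M u = (2 * M 1 0 * u 0 + (M 1 1 - M 0 0) * u 1) * (2 * M 1 0 * u 0 + (M 1 1 - M 0 0) * u 1) := by
      intro u
      simp [qf]
      linear_combination -(u 1 * u 1) * hd
    rw [eq_comm, div_mul_div_comm, div_eq_iff (mul_ne_zero h4 h4)]
    linear_combination -(4 * M 1 0 * qf M w) * e v - (2 * M 1 0 * v 0 + (M 1 1 - M 0 0) * v 1) * (2 * M 1 0 * v 0 + (M 1 1 - M 0 0) * v 1) * e w

/-- The centraliser of a non-scalar matrix consists of the polynomials in it. -/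
theorem exists_eq_add_of_comm {M X : Matrix (Fin 2) (Fin 2) F} (hM : NonScalar M)
    (h : X * M = M * X) : ∃ a b : F, X = a • (1 : Matrix (Fin 2) (Fin 2) F) + b • M := by
  obtain ⟨v, hv⟩ := exists_qf_ne_zero hM
  have hu : IsUnit (cyc M v).det := (cyc_ne_zero hv).isUnit
  set w := (cyc M v)⁻¹ *ᵥ (X *ᵥ v) with hw
  refine ⟨w 0, w 1, ?_⟩
  set Y := w 0 • (1 : Matrix (Fin 2) (Fin 2) F) + w 1 • M with hY
  have h1 : X *ᵥ v = cyc M v *ᵥ w := by rw [hw, mulVec_mulVec, Matrix.mul_nonsing_inv _ hu, one_mulVec]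
  have h2 : cyc M v *ᵥ w = Y *ᵥ v := by
    funext i
    fin_cases i <;> simp [hY, cyc, mulVec, dotProduct, Fin.sum_univ_two] <;> ring
  have hYM : Y * M = M * Y := by
    rw [hY]; simp [add_mul, mul_add]
  have hXY : X * cyc M v = Y * cyc M v := by
    rw [← cyc_conj h v, ← cyc_conj hYM v, h1, h2]
  have := congrArg (· * (cyc M v)⁻¹) hXY
  simpa [Matrix.mul_assoc, Matrix.mul_nonsing_inv _ hu] using this

theorem add_smul_injective {M : Matrix (Fin 2) (Fin 2) F} (hM : NonScalar M) :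
    Function.Injective (fun p : F × F => p.1 • (1 : Matrix (Fin 2) (Fin 2) F) + p.2 • M) := by
  rintro ⟨a, b⟩ ⟨a', b'⟩ h
  simp only at h
  by_cases hb : b = b'
  · subst hb
    have := congrFun (congrFun h 0) 0
    simp at this
    rw [this]
  · exfalso
    refine hM ⟨(a - a') / (b' - b), ?_⟩
    have hne : b' - b ≠ 0 := sub_ne_zero.2 (Ne.symm hb)
    ext i j
    have := congrFun (congrFun h i) j
    simp only [Matrix.add_apply, Matrix.smul_apply, smul_eq_mul] at this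
    simp only [Matrix.smul_apply, smul_eq_mul]
    field_simp
    linear_combination -this

theorem det_add_smul (M : Matrix (Fin 2) (Fin 2) F) (a b : F) :
    (a • (1 : Matrix (Fin 2) (Fin 2) F) + b • M).det = a * a + M.trace * a * b + M.det * b * b := by
  simp [det_fin_two, trace_fin_two]
  ring

end CfsgLib.SL2Table
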