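import Mathlib
import Cfsg.Agent.Lib.SL2Table.Classes
import Cfsg.Agent.Lib.Spectrum.SL2

/-!
Products of two conjugacy classes in `PSL(2, F)`.
-/

namespace CfsgLib.SL2Table

open Matrix

variable {F : Type*} [Field F]

local notation "S" => Matrix.SpecialLinearGroup (Fin 2) F
local notation "P" => Matrix.ProjectiveSpecialLinearGroup (Fin 2) F

/-- The projection to `PSL`. -/
def toP : S →* P := QuotientGroup.mk' (Subgroup.center S)

theorem toP_surj : Function.Surjective (toP (F := F)) := QuotientGroup.mk'_surjective _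

theorem central_iff (g : S) : g ∈ Subgroup.center S ↔
    ∃ r : F, r * r = 1 ∧ (g : Matrix (Fin 2) (Fin 2) F) = r • (1 : Matrix (Fin 2) (Fin 2) F) := by
  rw [Matrix.SpecialLinearGroup.mem_center_iff]
  constructor
  · rintro ⟨r, hr, h⟩
    refine ⟨r, by simpa [pow_two] using hr, ?_⟩
    rw [← h]
    ext i j
    fin_cases i <;> fin_cases j <;> simp
  · rintro ⟨r, hr, h⟩
    refine ⟨r, by simpa [pow_two] using hr, ?_⟩
    rw [h]
    ext i j
    fin_cases i <;> fin_cases j <;> simp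

theorem toP_eq_one_iff (g : S) : toP g = 1 ↔ g ∈ Subgroup.center S :=
  QuotientGroup.eq_one_iff g

theorem central_of_scalar (g : S) (h : ¬ NonScalar (g : Matrix (Fin 2) (Fin 2) F)) : toP g = 1 := by
  obtain ⟨a, ha⟩ := not_not.1 h
  refine (toP_eq_one_iff g).2 ((central_iff g).2 ⟨a, ?_, ha⟩)
  have h1 := g.2
  rw [ha, det_fin_two] at h1
  simp at h1
  exact h1

theorem eq_mul_of_toP_eq (g h : S) (e : toP g = toP h) :
    ∃ r : F, r * r = 1 ∧ (g : Matrix (Fin 2) (Fin 2) F) = r • (h : Matrix (Fin 2) (Fin 2) F) := by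
  have : toP (g * h⁻¹) = 1 := by rw [map_mul, e, map_inv, mul_inv_cancel]
  obtain ⟨r, hr, hg⟩ := (central_iff _).1 ((toP_eq_one_iff _).1 this)
  refine ⟨r, hr, ?_⟩
  have h2 : (g : Matrix (Fin 2) (Fin 2) F) = ((g * h⁻¹ : S) : Matrix (Fin 2) (Fin 2) F) * (h : Matrix (Fin 2) (Fin 2) F) := by
    rw [← Matrix.SpecialLinearGroup.coe_mul, inv_mul_cancel_right]
  rw [h2, hg, smul_mul_assoc, one_mul]

theorem coe_conj (c g : S) : ((c * g * c⁻¹ : S) : Matrix (Fin 2) (Fin 2) F) =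
    (c : Matrix (Fin 2) (Fin 2) F) * g * (c : Matrix (Fin 2) (Fin 2) F).adjugate := by
  rw [Matrix.SpecialLinearGroup.coe_mul, Matrix.SpecialLinearGroup.coe_mul, Matrix.SpecialLinearGroup.coe_inv]

theorem exists_elt (a b c d : F) (h : a * d - b * c = 1) :
    ∃ g : S, (g : Matrix (Fin 2) (Fin 2) F) = !![a, b; c, d] :=
  ⟨⟨!![a, b; c, d], by simpa [det_fin_two] using h⟩, rfl⟩

/-- The class product trace along a root subgroup is a quadratic polynomial. -/
theorem exists_conj_lower_ne_zero (g : S) (h : NonScalar (g : Matrix (Fin 2) (Fin 2) F)) :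
    ∃ c : S, ((c * g * c⁻¹ : S) : Matrix (Fin 2) (Fin 2) F) 1 0 ≠ 0 := by
  rw [nonScalar_iff] at h
  by_cases h10 : (g : Matrix (Fin 2) (Fin 2) F) 1 0 = 0
  · by_cases h01 : (g : Matrix (Fin 2) (Fin 2) F) 0 1 = 0
    · have hne : (g : Matrix (Fin 2) (Fin 2) F) 0 0 ≠ (g : Matrix (Fin 2) (Fin 2) F) 1 1 :=
        fun e => h ⟨h01, h10, e⟩
      obtain ⟨k, hk⟩ := exists_elt (1 : F) 0 1 1 (by ring)
      refine ⟨k, ?_⟩
      simp [coe_conj, hk, adjugate_fin_two, Matrix.mul_apply, Fin.sum_univ_two, Matrix.vecMul, dotProduct, h10, h01]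
      exact fun e => hne (by linear_combination e)
    · obtain ⟨k, hk⟩ := exists_elt (0 : F) 1 (-1) 0 (by ring)
      refine ⟨k, ?_⟩
      simp [coe_conj, hk, adjugate_fin_two, Matrix.mul_apply, Fin.sum_univ_two, Matrix.vecMul, dotProduct]
      exact h01
  · exact ⟨1, by simpa using h10⟩

theorem ncard_quad_le {a b c : F} (ha : a ≠ 0) : {s : F | a * s * s + b * s + c = 0}.ncard ≤ 2 := by
  by_cases h : {s : F | a * s * s + b * s + c = 0} = ∅
  · rw [h]; simp
  · obtain ⟨s, hs⟩ := Set.nonempty_iff_ne_empty.2 h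
    refine le_trans (Set.ncard_le_ncard (t := {s, -b / a - s}) ?_ (Set.toFinite _)) ?_
    · intro u hu
      simp only [Set.mem_ofPred_eq] at hu hs
      by_cases hus : u = s
      · exact Or.inl hus
      · right
        have h0 : (a * (u + s) + b) * (u - s) = 0 := by linear_combination hu - hs
        have := (mul_eq_zero.1 h0).resolve_right (sub_ne_zero.2 hus)
        simp only [Set.mem_singleton_iff]
        field_simp
        linear_combination this
    · exact le_trans (Set.ncard_insert_le _ _) (by simp)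

theorem product_not_class [Fintype F] (h4 : 4 ≤ Fintype.card F) (a b : P) (ha : a ≠ 1) (hb : b ≠ 1) (c : P) :
    {g : P | ∃ u v : P, g = (u * a * u⁻¹) * (v * b * v⁻¹)} ≠ {g | IsConj c g} := by
  intro hset
  obtain ⟨A, rfl⟩ := toP_surj a
  obtain ⟨B, rfl⟩ := toP_surj b
  obtain ⟨C₀, rfl⟩ := toP_surj c
  have hA : NonScalar (A : Matrix (Fin 2) (Fin 2) F) := fun h => ha (central_of_scalar A (not_not.2 h))
  have hB : NonScalar (B : Matrix (Fin 2) (Fin 2) F) := fun h => hb (central_of_scalar B (not_not.2 h))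
  obtain ⟨x, hx⟩ := exists_conj_lower_ne_zero A hA
  obtain ⟨y, hy⟩ := exists_conj_lower_ne_zero B hB
  set A' := x * A * x⁻¹ with hA'
  set B' := y * B * y⁻¹ with hB'
  set t₀ := (C₀ : Matrix (Fin 2) (Fin 2) F).trace with ht₀
  choose u hu using fun s : F => exists_elt (1 : F) s 0 1 (by ring)
  have key : ∀ s : F, ((A' * (u s * B' * (u s)⁻¹) : S) : Matrix (Fin 2) (Fin 2) F).trace = t₀ ∨
      ((A' * (u s * B' * (u s)⁻¹) : S) : Matrix (Fin 2) (Fin 2) F).trace = -t₀ := by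
    intro s
    have hm : toP (A' * (u s * B' * (u s)⁻¹)) ∈ {g : P | ∃ u v : P, g = (u * toP A * u⁻¹) * (v * toP B * v⁻¹)} :=
      ⟨toP x, toP (u s * y), by simp only [hA', hB', map_mul, map_inv, _root_.mul_inv_rev, mul_assoc]⟩
    rw [hset] at hm
    obtain ⟨d, hd⟩ := isConj_iff.1 hm
    obtain ⟨D, rfl⟩ := toP_surj d
    rw [← map_inv, ← map_mul, ← map_mul] at hd
    obtain ⟨r, hr, hg⟩ := eq_mul_of_toP_eq _ _ hd.symm
    rw [hg, trace_smul, smul_eq_mul, trace_eq_of_isConj (isConj_iff.2 ⟨D, rfl⟩)]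
    rcases mul_self_eq_one_iff.1 hr with rfl | rfl
    · exact Or.inl (one_mul _)
    · exact Or.inr (by rw [neg_one_mul])
  obtain ⟨α, β, γ, hα, hf⟩ : ∃ α β γ : F, α ≠ 0 ∧ ∀ s : F,
      ((A' * (u s * B' * (u s)⁻¹) : S) : Matrix (Fin 2) (Fin 2) F).trace = α * s * s + β * s + γ := by
    refine ⟨-((A' : Matrix (Fin 2) (Fin 2) F) 1 0 * (B' : Matrix (Fin 2) (Fin 2) F) 1 0),
      (A' : Matrix (Fin 2) (Fin 2) F) 0 0 * (B' : Matrix (Fin 2) (Fin 2) F) 1 0 +
        (A' : Matrix (Fin 2) (Fin 2) F) 1 0 * ((B' : Matrix (Fin 2) (Fin 2) F) 1 1 - (B' : Matrix (Fin 2) (Fin 2) F) 0 0) -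
        (A' : Matrix (Fin 2) (Fin 2) F) 1 1 * (B' : Matrix (Fin 2) (Fin 2) F) 1 0,
      (A' : Matrix (Fin 2) (Fin 2) F) 0 0 * (B' : Matrix (Fin 2) (Fin 2) F) 0 0 +
        (A' : Matrix (Fin 2) (Fin 2) F) 0 1 * (B' : Matrix (Fin 2) (Fin 2) F) 1 0 +
        (A' : Matrix (Fin 2) (Fin 2) F) 1 0 * (B' : Matrix (Fin 2) (Fin 2) F) 0 1 +
        (A' : Matrix (Fin 2) (Fin 2) F) 1 1 * (B' : Matrix (Fin 2) (Fin 2) F) 1 1,
      neg_ne_zero.2 (mul_ne_zero hx hy), fun s => ?_⟩
    rw [Matrix.SpecialLinearGroup.coe_mul, coe_conj]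
    simp [hu, adjugate_fin_two, Matrix.mul_apply, Fin.sum_univ_two, Matrix.vecMul, dotProduct, trace_fin_two]
    ring
  have hsub : (Set.univ : Set F) ⊆
      {s : F | α * s * s + β * s + (γ - t₀) = 0} ∪ {s : F | α * s * s + β * s + (γ + t₀) = 0} := by
    intro s _
    rcases key s with e | e <;> rw [hf] at e
    · left; simp only [Set.mem_ofPred_eq]; linear_combination e
    · right; simp only [Set.mem_ofPred_eq]; linear_combination e
  have hle := Set.ncard_le_ncard hsub (Set.toFinite _)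
  rw [Set.ncard_univ, Nat.card_eq_fintype_card] at hle
  by_cases h2 : (2 : F) = 0
  · have : γ + t₀ = γ - t₀ := by linear_combination t₀ * h2
    rw [this, Set.union_self] at hle
    have := ncard_quad_le (b := β) (c := γ - t₀) hα
    omega
  · have h1 := Set.ncard_union_le {s : F | α * s * s + β * s + (γ - t₀) = 0} {s : F | α * s * s + β * s + (γ + t₀) = 0}
    have := ncard_quad_le (b := β) (c := γ - t₀) hα
    have := ncard_quad_le (b := β) (c := γ + t₀) hα
    have hodd : Fintype.card F % 2 = 1 := FiniteField.odd_card_of_char_ne_two fun h => h2 (by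
      have hc := ringChar.Nat.cast_ringChar (R := F)
      rw [h] at hc
      exact_mod_cast hc)
    omega

/-- Every element with trace different from `r` is a product of two elements of trace `b`. -/
theorem exists_factor_companion [Fintype F] (b t : F)
    (hsol : ∃ z w : F, z * z + z * (b - t * w) + (w * w - b * w + 1) = 0) :
    ∃ X : S, (X : Matrix (Fin 2) (Fin 2) F).trace = b ∧ ((X : Matrix (Fin 2) (Fin 2) F) * comp t 1).trace = b := by
  obtain ⟨z, w, h⟩ := hsol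
  refine ⟨⟨!![b - w, b + z - t * w; z, w], ?_⟩, ?_, ?_⟩
  · simp [det_fin_two]
    linear_combination -h
  · simp [trace_fin_two]
  · simp [comp, trace_fin_two, Matrix.mul_apply, Fin.sum_univ_two]
    ring

theorem trace_inv (X : S) : ((X⁻¹ : S) : Matrix (Fin 2) (Fin 2) F).trace = (X : Matrix (Fin 2) (Fin 2) F).trace := by
  simp [Matrix.SpecialLinearGroup.coe_inv, adjugate_fin_two, trace_fin_two, add_comm]

/-- A group element of trace `t` is a product of two elements of trace `b`. -/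
theorem exists_factor [Fintype F] (b : F) (G : S) (hG : NonScalar (G : Matrix (Fin 2) (Fin 2) F))
    (hsol : ∃ z w : F, z * z + z * (b - (G : Matrix (Fin 2) (Fin 2) F).trace * w) + (w * w - b * w + 1) = 0) :
    ∃ X₁ X₂ : S, G = X₁ * X₂ ∧ (X₁ : Matrix (Fin 2) (Fin 2) F).trace = b ∧
      (X₂ : Matrix (Fin 2) (Fin 2) F).trace = b := by
  obtain ⟨X, hX, hXC⟩ := exists_factor_companion b _ hsol
  obtain ⟨v, hv⟩ := exists_qf_ne_zero hG
  have hu : IsUnit (cyc (G : Matrix (Fin 2) (Fin 2) F) v).det := (cyc_ne_zero hv).isUnit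
  set K := cyc (G : Matrix (Fin 2) (Fin 2) F) v with hK
  obtain ⟨Y, hY⟩ : ∃ Y : S, (Y : Matrix (Fin 2) (Fin 2) F) = K * X * K⁻¹ := by
    refine ⟨⟨K * X * K⁻¹, ?_⟩, rfl⟩
    rw [det_mul, det_mul, X.2, det_nonsing_inv, Ring.inverse_eq_inv, mul_one, mul_inv_cancel₀ hu.ne_zero]
  refine ⟨Y⁻¹, Y * G, by group, ?_, ?_⟩
  · rw [trace_inv, hY, trace_mul_comm, ← Matrix.mul_assoc, Matrix.nonsing_inv_mul _ hu, Matrix.one_mul, hX]
  · have hm := mul_cyc (G : Matrix (Fin 2) (Fin 2) F) v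
    rw [G.2, ← hK] at hm
    rw [Matrix.SpecialLinearGroup.coe_mul, hY]
    calc (K * (X : Matrix (Fin 2) (Fin 2) F) * K⁻¹ * (G : Matrix (Fin 2) (Fin 2) F)).trace
        = (K⁻¹ * ((G : Matrix (Fin 2) (Fin 2) F) * K) * X).trace := by
          rw [show K * (X : Matrix (Fin 2) (Fin 2) F) * K⁻¹ * G = (K * X) * (K⁻¹ * G) from Matrix.mul_assoc _ _ _,
            trace_mul_comm]
          simp only [Matrix.mul_assoc]
      _ = b := by
          rw [hm, ← Matrix.mul_assoc, Matrix.nonsing_inv_mul _ hu, Matrix.one_mul, trace_mul_comm, hXC]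

theorem nonScalar_of_ne_one {g : S} (h : toP g ≠ 1) : NonScalar (g : Matrix (Fin 2) (Fin 2) F) :=
  fun e => h (central_of_scalar g (not_not.2 e))

theorem square_covers [Fintype F] (X : S) (g : P) (hg : g ≠ 1)
    (hclass : ∀ Y : S, (Y : Matrix (Fin 2) (Fin 2) F).trace = (X : Matrix (Fin 2) (Fin 2) F).trace → IsConj X Y)
    (hsol : ∀ G : S, toP G = g → ∃ G' : S, toP G' = g ∧ ∃ z w : F,
      z * z + z * ((X : Matrix (Fin 2) (Fin 2) F).trace - (G' : Matrix (Fin 2) (Fin 2) F).trace * w) +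
        (w * w - (X : Matrix (Fin 2) (Fin 2) F).trace * w + 1) = 0) :
    ∃ u v : P, g = (u * toP X * u⁻¹) * (v * toP X * v⁻¹) := by
  obtain ⟨G, hG⟩ := toP_surj g
  obtain ⟨G', hG', hs⟩ := hsol G hG
  obtain ⟨X₁, X₂, hprod, h1, h2⟩ := exists_factor _ G' (nonScalar_of_ne_one (hG' ▸ hg)) hs
  obtain ⟨c₁, rfl⟩ := isConj_iff.1 (hclass X₁ h1)
  obtain ⟨c₂, rfl⟩ := isConj_iff.1 (hclass X₂ h2)
  exact ⟨toP c₁, toP c₂, by rw [← hG', hprod]; simp only [map_mul, map_inv]⟩

theorem two_lt_orderOf_trace {X : S} (h : 2 < orderOf (toP X)) :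
    (X : Matrix (Fin 2) (Fin 2) F).trace ≠ 0 := by
  intro ht
  have hsq : toP X ^ 2 = 1 := by
    rw [← map_pow, toP_eq_one_iff, central_iff]
    refine ⟨-1, by ring, ?_⟩
    rw [Matrix.SpecialLinearGroup.coe_pow, pow_two, Spectrum.sl2_mul_self, ht]
    simp
  have := Nat.le_of_dvd two_pos (orderOf_dvd_of_pow_eq_one hsq)
  omega

end CfsgLib.SL2Table
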