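import Mathlib
import Cfsg.Agent.Lib.SL2Table.Classes

/-!
Conjugacy classes and centralisers in `GL(2, F)`.
-/

namespace CfsgLib.SL2Table

open Matrix

variable {F : Type*} [Field F]

local notation "G2" => GL (Fin 2) F

theorem gl_det_ne_zero (g : G2) : (g : Matrix (Fin 2) (Fin 2) F).det ≠ 0 :=
  ((Matrix.isUnit_iff_isUnit_det _).1 g.isUnit).ne_zero

theorem gl_trace_conj (c g : G2) :
    ((c * g * c⁻¹ : G2) : Matrix (Fin 2) (Fin 2) F).trace = (g : Matrix (Fin 2) (Fin 2) F).trace ∧
      ((c * g * c⁻¹ : G2) : Matrix (Fin 2) (Fin 2) F).det = (g : Matrix (Fin 2) (Fin 2) F).det := by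
  constructor
  · rw [GeneralLinearGroup.coe_mul, trace_mul_comm, ← GeneralLinearGroup.coe_mul, ← mul_assoc,
      inv_mul_cancel, one_mul]
  · simp only [GeneralLinearGroup.coe_mul, det_mul]
    rw [mul_right_comm, ← det_mul, ← GeneralLinearGroup.coe_mul, mul_inv_cancel]
    simp

theorem nonScalar_conj (c g : G2) :
    NonScalar ((c * g * c⁻¹ : G2) : Matrix (Fin 2) (Fin 2) F) ↔ NonScalar (g : Matrix (Fin 2) (Fin 2) F) := by
  have key : ∀ (c g : G2), (∃ a : F, (g : Matrix (Fin 2) (Fin 2) F) = a • (1 : Matrix (Fin 2) (Fin 2) F)) →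
      ∃ a : F, ((c * g * c⁻¹ : G2) : Matrix (Fin 2) (Fin 2) F) = a • (1 : Matrix (Fin 2) (Fin 2) F) := by
    rintro c g ⟨a, ha⟩
    refine ⟨a, ?_⟩
    rw [GeneralLinearGroup.coe_mul, GeneralLinearGroup.coe_mul, ha, mul_smul_comm, mul_one, smul_mul_assoc,
      ← GeneralLinearGroup.coe_mul, mul_inv_cancel]
    simp
  refine not_congr ⟨fun h => ?_, key c g⟩
  have := key c⁻¹ _ h
  simpa [mul_assoc] using this

/-- The invariant separating the conjugacy classes of `GL(2, F)`. -/
theorem gl_isConj_iff (g h : G2) : IsConj g h ↔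
    ((g : Matrix (Fin 2) (Fin 2) F) = (h : Matrix (Fin 2) (Fin 2) F) ∨
      (NonScalar (g : Matrix (Fin 2) (Fin 2) F) ∧ NonScalar (h : Matrix (Fin 2) (Fin 2) F) ∧
        (g : Matrix (Fin 2) (Fin 2) F).trace = (h : Matrix (Fin 2) (Fin 2) F).trace ∧
        (g : Matrix (Fin 2) (Fin 2) F).det = (h : Matrix (Fin 2) (Fin 2) F).det)) := by
  constructor
  · intro hc
    obtain ⟨c, rfl⟩ := isConj_iff.1 hc
    by_cases hg : NonScalar (g : Matrix (Fin 2) (Fin 2) F)
    · exact Or.inr ⟨hg, (nonScalar_conj c g).2 hg, (gl_trace_conj c g).1.symm, (gl_trace_conj c g).2.symm⟩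
    · left
      obtain ⟨a, ha⟩ := not_not.1 hg
      rw [GeneralLinearGroup.coe_mul, GeneralLinearGroup.coe_mul, ha, mul_smul_comm, mul_one, smul_mul_assoc,
        ← GeneralLinearGroup.coe_mul, mul_inv_cancel]
      simp
  · rintro (h' | ⟨h1, h2, h3, h4⟩)
    · rw [Units.ext h']
    · exact gl_isConj g h h1 h2 h3 h4

theorem card_conjClasses_gl [Fintype F] :
    Nat.card (ConjClasses G2) = Fintype.card F ^ 2 - 1 := by
  classical
  let scal : Fˣ → G2 := fun a => GeneralLinearGroup.mkOfDetNeZero ((a : F) • (1 : Matrix (Fin 2) (Fin 2) F))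
    (by simp)
  let cmp : F × Fˣ → G2 := fun p => GeneralLinearGroup.mkOfDetNeZero (comp p.1 (p.2 : F))
    (by simp [comp, det_fin_two])
  have hcmp : ∀ p, NonScalar ((cmp p : G2) : Matrix (Fin 2) (Fin 2) F) ∧
      ((cmp p : G2) : Matrix (Fin 2) (Fin 2) F).trace = p.1 ∧
      ((cmp p : G2) : Matrix (Fin 2) (Fin 2) F).det = (p.2 : F) := by
    intro p
    simp [cmp, comp, nonScalar_iff, trace_fin_two, det_fin_two]
  have hscal : ∀ a, ¬ NonScalar ((scal a : G2) : Matrix (Fin 2) (Fin 2) F) :=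
    fun a => not_not.2 ⟨(a : F), by simp [scal]⟩
  have hbij : Function.Bijective (fun p : Fˣ ⊕ (F × Fˣ) => ConjClasses.mk (Sum.elim scal cmp p)) := by
    constructor
    · rintro (a | p) (b | p') h <;> simp only [Sum.elim_inl, Sum.elim_inr] at h <;>
        rw [ConjClasses.mk_eq_mk_iff_isConj, gl_isConj_iff] at h
      · rcases h with h | h
        · have := congrFun (congrFun h 0) 0
          simp [scal] at this
          rw [Units.ext this]
        · exact absurd h.1 (hscal a)
      · rcases h with h | h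
        · exact absurd (h ▸ (hcmp p').1) (hscal a)
        · exact absurd h.1 (hscal a)
      · rcases h with h | h
        · exact absurd (h ▸ (hcmp p).1) (hscal b)
        · exact absurd h.2.1 (hscal b)
      · obtain ⟨h1, h2⟩ : p.1 = p'.1 ∧ (p.2 : F) = p'.2 := by
          rcases h with h | h
          · exact ⟨by rw [← (hcmp p).2.1, h, (hcmp p').2.1], by rw [← (hcmp p).2.2, h, (hcmp p').2.2]⟩
          · exact ⟨(hcmp p).2.1.symm.trans (h.2.2.1.trans (hcmp p').2.1),
              (hcmp p).2.2.symm.trans (h.2.2.2.trans (hcmp p').2.2)⟩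
        rw [Prod.ext h1 (Units.ext h2)]
    · intro C
      obtain ⟨g, rfl⟩ := ConjClasses.mk_surjective C
      by_cases hg : NonScalar (g : Matrix (Fin 2) (Fin 2) F)
      · refine ⟨Sum.inr ((g : Matrix (Fin 2) (Fin 2) F).trace, Units.mk0 _ (gl_det_ne_zero g)), ?_⟩
        simp only [Sum.elim_inr, ConjClasses.mk_eq_mk_iff_isConj, gl_isConj_iff]
        exact Or.inr ⟨(hcmp _).1, hg, (hcmp _).2.1, (hcmp _).2.2⟩
      · obtain ⟨a, ha⟩ := not_not.1 hg
        have ha0 : a ≠ 0 := by
          rintro rfl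
          apply gl_det_ne_zero g
          rw [ha]; simp
        refine ⟨Sum.inl (Units.mk0 a ha0), ?_⟩
        simp only [Sum.elim_inl, ConjClasses.mk_eq_mk_iff_isConj, gl_isConj_iff]
        exact Or.inl (by simp [scal, ha])
  rw [← Nat.card_congr (Equiv.ofBijective _ hbij), Nat.card_sum, Nat.card_prod, Nat.card_units,
    Nat.card_eq_fintype_card, pow_two]
  obtain ⟨k, hk⟩ : ∃ k, Fintype.card F = k + 1 := ⟨Fintype.card F - 1, by have := Fintype.card_pos (α := F); omega⟩
  rw [hk]
  simp only [Nat.add_sub_cancel]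
  have : (k + 1) * (k + 1) = k + (k + 1) * k + 1 := by ring
  omega

theorem mem_centralizer_gl_iff {g x : G2} :
    x ∈ Subgroup.centralizer ({g} : Set G2) ↔
      (x : Matrix (Fin 2) (Fin 2) F) * g = (g : Matrix (Fin 2) (Fin 2) F) * x := by
  rw [Subgroup.mem_centralizer_singleton_iff, ← GeneralLinearGroup.coe_mul, ← GeneralLinearGroup.coe_mul]
  exact ⟨fun h => congrArg Units.val h, fun h => Units.ext h⟩

/-- The centraliser of a non-scalar element is the unit group of the algebra it generates. -/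
noncomputable def centralizerEquiv (g : G2) (hg : NonScalar (g : Matrix (Fin 2) (Fin 2) F)) :
    {p : F × F // (p.1 • (1 : Matrix (Fin 2) (Fin 2) F) + p.2 • (g : Matrix (Fin 2) (Fin 2) F)).det ≠ 0} ≃
      Subgroup.centralizer ({g} : Set G2) :=
  Equiv.ofBijective
    (fun p => ⟨GeneralLinearGroup.mkOfDetNeZero _ p.2, mem_centralizer_gl_iff.2 (by simp [add_mul, mul_add])⟩)
    (by
      constructor
      · rintro ⟨p, hp⟩ ⟨p', hp'⟩ h
        have h' := congrArg (fun x : Subgroup.centralizer ({g} : Set G2) => ((x : G2) : Matrix (Fin 2) (Fin 2) F)) h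
        simp at h'
        exact Subtype.ext (add_smul_injective hg h')
      · rintro ⟨x, hx⟩
        obtain ⟨a, b, hab⟩ := exists_eq_add_of_comm hg (mem_centralizer_gl_iff.1 hx)
        exact ⟨⟨(a, b), by rw [← hab]; exact gl_det_ne_zero x⟩, Subtype.ext (Units.ext (by simp [hab]))⟩)

theorem card_centralizer_diag [Fintype F] (g : G2) (h01 : (g : Matrix (Fin 2) (Fin 2) F) 0 1 = 0)
    (h10 : (g : Matrix (Fin 2) (Fin 2) F) 1 0 = 0)
    (hne : (g : Matrix (Fin 2) (Fin 2) F) 0 0 ≠ (g : Matrix (Fin 2) (Fin 2) F) 1 1) :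
    Nat.card (Subgroup.centralizer ({g} : Set G2)) = (Fintype.card F - 1) ^ 2 := by
  have hg : NonScalar (g : Matrix (Fin 2) (Fin 2) F) := (nonScalar_iff _).2 fun h => hne h.2.2
  obtain ⟨a, ha⟩ : ∃ a, (g : Matrix (Fin 2) (Fin 2) F) 0 0 = a := ⟨_, rfl⟩
  obtain ⟨d, hd⟩ : ∃ d, (g : Matrix (Fin 2) (Fin 2) F) 1 1 = d := ⟨_, rfl⟩
  rw [ha, hd] at hne
  rw [← Nat.card_congr (centralizerEquiv g hg)]
  have hdet : ∀ p : F × F, (p.1 • (1 : Matrix (Fin 2) (Fin 2) F) + p.2 • (g : Matrix (Fin 2) (Fin 2) F)).det =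
      (p.1 + p.2 * a) * (p.1 + p.2 * d) := fun p => by simp [det_fin_two, h01, h10, ha, hd]
  have e : {p : F × F // (p.1 • (1 : Matrix (Fin 2) (Fin 2) F) + p.2 • (g : Matrix (Fin 2) (Fin 2) F)).det ≠ 0} ≃ Fˣ × Fˣ :=
    { toFun := fun p => (Units.mk0 _ (left_ne_zero_of_mul (hdet p.1 ▸ p.2)), Units.mk0 _ (right_ne_zero_of_mul (hdet p.1 ▸ p.2)))
      invFun := fun w => ⟨(((w.2 : F) * a - (w.1 : F) * d) / (a - d), ((w.1 : F) - w.2) / (a - d)), by
        rw [hdet]
        have h : a - d ≠ 0 := sub_ne_zero.2 hne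
        refine mul_ne_zero ?_ ?_
        · convert w.1.ne_zero using 1
          field_simp; ring
        · convert w.2.ne_zero using 1
          field_simp; ring⟩
      left_inv := fun p => by
        have h : a - d ≠ 0 := sub_ne_zero.2 hne
        apply Subtype.ext
        apply Prod.ext <;> simp <;> field_simp <;> ring
      right_inv := fun w => by
        have h : a - d ≠ 0 := sub_ne_zero.2 hne
        apply Prod.ext <;> apply Units.ext <;> simp <;> field_simp <;> ring }
  rw [Nat.card_congr e, Nat.card_prod, Nat.card_units, Nat.card_eq_fintype_card, pow_two]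

theorem det_add_smul_eq_zero {M : Matrix (Fin 2) (Fin 2) F}
    (h : ∀ (c : F) (v : Fin 2 → F), v ≠ 0 → M.mulVec v ≠ c • v) {a b : F}
    (hd : (a • (1 : Matrix (Fin 2) (Fin 2) F) + b • M).det = 0) : a = 0 ∧ b = 0 := by
  by_cases hb : b = 0
  · subst hb
    simp [det_fin_two] at hd
    exact ⟨hd, rfl⟩
  · exfalso
    obtain ⟨v, hv, hv'⟩ := Matrix.exists_mulVec_eq_zero_iff.2 hd
    refine h (-a / b) v hv ?_
    rw [add_mulVec, smul_mulVec, smul_mulVec, one_mulVec] at hv'
    funext i
    have h2 : a * v i + b * M.mulVec v i = 0 := by simpa only [Pi.add_apply, Pi.smul_apply, smul_eq_mul, Pi.zero_apply] using congrFun hv' i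
    rw [Pi.smul_apply, smul_eq_mul]
    field_simp
    linear_combination h2

theorem nonScalar_of_elliptic {M : Matrix (Fin 2) (Fin 2) F}
    (h : ∀ (c : F) (v : Fin 2 → F), v ≠ 0 → M.mulVec v ≠ c • v) : NonScalar M := by
  rintro ⟨a, rfl⟩
  exact h a ![1, 0] (by simp) (by simp [smul_mulVec])

theorem card_centralizer_elliptic [Fintype F] (g : G2)
    (h : ∀ (c : F) (v : Fin 2 → F), v ≠ 0 → (g : Matrix (Fin 2) (Fin 2) F).mulVec v ≠ c • v) :
    Nat.card (Subgroup.centralizer ({g} : Set G2)) = Fintype.card F ^ 2 - 1 := by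
  classical
  rw [← Nat.card_congr (centralizerEquiv g (nonScalar_of_elliptic h)),
    Nat.card_congr (Equiv.subtypeEquivRight (q := fun p : F × F => p ≠ 0) fun p => ⟨fun hp e => hp (by
      rw [e]; simp [det_fin_two]), fun hp hd => hp (Prod.ext (det_add_smul_eq_zero h hd).1 (det_add_smul_eq_zero h hd).2)⟩)]
  rw [Nat.card_eq_fintype_card, Fintype.card_subtype_compl, Fintype.card_subtype_eq, Fintype.card_prod, pow_two]

theorem gl_isConj_of_orderOf_eq_char (p : ℕ) [Fact p.Prime] [CharP F p] (g h : G2)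
    (hg : orderOf g = p) (hh : orderOf h = p) : IsConj g h := by
  have key : ∀ g : G2, orderOf g = p → NonScalar (g : Matrix (Fin 2) (Fin 2) F) ∧
      (g : Matrix (Fin 2) (Fin 2) F).trace = 2 ∧ (g : Matrix (Fin 2) (Fin 2) F).det = 1 := by
    intro g hg
    have hpow : (g : Matrix (Fin 2) (Fin 2) F) ^ p = 1 := by
      rw [← Units.val_pow_eq_pow_val, ← hg, pow_orderOf_eq_one]
      simp
    have hne : g ≠ 1 := fun e => (Fact.out : p.Prime).one_lt.ne (by rw [← hg, e, orderOf_one])
    have hnil : ((g : Matrix (Fin 2) (Fin 2) F) - 1) ^ p = 0 := by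
      rw [sub_pow_char_of_commute (p := p) (Commute.one_right _), hpow, one_pow, sub_self]
    have hns : NonScalar (g : Matrix (Fin 2) (Fin 2) F) := by
      rintro ⟨a, ha⟩
      rw [ha] at hnil
      have h1 := congrFun (congrFun hnil 0) 0
      rw [show a • (1 : Matrix (Fin 2) (Fin 2) F) - 1 = (a - 1) • (1 : Matrix (Fin 2) (Fin 2) F) by rw [sub_smul, one_smul],
        smul_pow, one_pow] at h1
      simp at h1
      exact hne (Units.ext (by rw [ha, sub_eq_zero.1 h1.1]; simp))
    set N := (g : Matrix (Fin 2) (Fin 2) F) - 1 with hN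
    have hsq : N ^ 2 = 0 := by
      have := Matrix.isNilpotent_charpoly_sub_pow_of_isNilpotent ⟨p, hnil⟩
      have h2 : N.charpoly = Polynomial.X ^ Fintype.card (Fin 2) := sub_eq_zero.1 this.eq_zero
      have h3 := Matrix.aeval_self_charpoly N
      rw [h2] at h3
      simpa using h3
    have hdet : N.det = 0 := by
      have := congrArg Matrix.det hsq
      simpa using this
    have htr : N.trace = 0 := by
      have h1 : N * N = 0 := by rw [← pow_two]; exact hsq
      have h2 := congrArg Matrix.trace h1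
      rw [trace_fin_two, trace_zero] at h2
      simp [Matrix.mul_apply, Fin.sum_univ_two] at h2
      rw [det_fin_two] at hdet
      rw [trace_fin_two]
      exact mul_self_eq_zero.1 (by linear_combination h2 + 2 * hdet)
    refine ⟨hns, ?_, ?_⟩
    · rw [hN, trace_sub, trace_one] at htr
      simpa [sub_eq_zero] using htr
    · rw [trace_fin_two] at htr
      rw [det_fin_two] at hdet
      simp [hN] at htr hdet
      rw [det_fin_two]
      linear_combination hdet + htr
  obtain ⟨a1, a2, a3⟩ := key g hg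
  obtain ⟨b1, b2, b3⟩ := key h hh
  exact gl_isConj g h a1 b1 (a2.trans b2.symm) (a3.trans b3.symm)

end CfsgLib.SL2Table
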