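import Mathlib
import Cfsg.Agent.Lib.SL2Table.Classes
import Cfsg.Agent.Lib.SL2Table.GL2Classes
import Cfsg.Agent.Lib.Char.Ortho

/-!
Conjugacy classes of `SL(2, F)`.
-/

namespace CfsgLib.SL2Table

open Matrix

variable {F : Type*} [Field F]

local notation "S" => Matrix.SpecialLinearGroup (Fin 2) F
local notation "M2" => Matrix (Fin 2) (Fin 2) F

theorem two_ne_zero_of_odd [Fintype F] (h : Odd (Fintype.card F)) : (2 : F) ≠ 0 := by
  intro h2
  haveI : CharP F 2 := CharTwo.of_one_ne_zero_of_two_eq_zero one_ne_zero h2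
  obtain ⟨k, -, hk⟩ := FiniteField.card F 2
  rw [hk] at h
  exact absurd h (Nat.not_odd_iff_even.2 ((Nat.even_pow' k.ne_zero).2 even_two))

theorem isSquare_mul_of_not [Fintype F] {a b : F} (ha : ¬ IsSquare a) (hb : ¬ IsSquare b) : IsSquare (a * b) := by
  classical
  rw [← quadraticChar_neg_one_iff_not_isSquare] at ha hb
  have h : quadraticChar F (a * b) = 1 := by rw [map_mul, ha, hb]; norm_num
  have h0 : a * b ≠ 0 := fun e => by rw [e, MulChar.map_zero] at h; exact zero_ne_one h
  exact (quadraticChar_one_iff_isSquare h0).1 h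

theorem sl_scalar_val {g : S} (h : ¬ NonScalar (g : M2)) :
    ∃ a : F, (g : M2) = a • (1 : M2) ∧ (a = 1 ∨ a = -1) := by
  obtain ⟨a, ha⟩ := not_not.1 h
  refine ⟨a, ha, mul_self_eq_one_iff.1 ?_⟩
  have h1 := g.2
  rw [ha, det_fin_two] at h1
  simpa using h1

theorem sl_nonScalar_conj {g h : S} (hc : IsConj g h) : NonScalar (g : M2) ↔ NonScalar (h : M2) := by
  obtain ⟨c, rfl⟩ := isConj_iff.1 hc
  have := nonScalar_conj (Matrix.SpecialLinearGroup.toGL c) (Matrix.SpecialLinearGroup.toGL g)
  rw [← map_inv, ← map_mul, ← map_mul] at this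
  exact this.symm

theorem sl_isConj_scalar {g h : S} (hc : IsConj g h) (hg : ¬ NonScalar (g : M2)) : g = h := by
  obtain ⟨c, rfl⟩ := isConj_iff.1 hc
  obtain ⟨a, ha⟩ := not_not.1 hg
  apply Subtype.ext
  rw [Matrix.SpecialLinearGroup.coe_mul, Matrix.SpecialLinearGroup.coe_mul, ha, mul_smul_comm, mul_one,
    smul_mul_assoc, ← Matrix.SpecialLinearGroup.coe_mul, mul_inv_cancel]
  rfl

theorem sl_conj_odd_iff [Fintype F] (h2 : (2 : F) ≠ 0) {g h : S} {v w : Fin 2 → F}
    (hv : qf (g : M2) v ≠ 0) (hw : qf (h : M2) w ≠ 0) :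
    IsConj g h ↔ (g : M2).trace = (h : M2).trace ∧
      ((g : M2).trace * (g : M2).trace = 4 → IsSquare (qf (g : M2) v * qf (h : M2) w)) := by
  constructor
  · intro hc
    have ht := trace_eq_of_isConj hc
    refine ⟨ht.symm, fun h4 => ?_⟩
    obtain ⟨w', hw'⟩ := qf_of_isConj hc v
    rw [← hw']
    exact isSquare_mul_qf h2 (by rw [ht, h4, h.2, mul_one, sub_self]) w' w
  · rintro ⟨ht, hsq⟩
    by_cases h4 : (g : M2).trace * (g : M2).trace = 4
    · obtain ⟨s, hs⟩ := hsq h4
      refine sl_isConj g h ht hv (w := (s / qf (h : M2) w) • w) ?_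
      rw [qf_smul]
      field_simp
      linear_combination -hs
    · obtain ⟨w', hw'⟩ := exists_qf_eq h2 (M := (h : M2)) (by rw [← ht, h.2, mul_one]; exact sub_ne_zero.2 h4)
        (qf (g : M2) v)
      exact sl_isConj g h ht hv hw'

theorem sl_conj_even [Fintype F] [CharP F 2] {g h : S} (hg : NonScalar (g : M2)) (hh : NonScalar (h : M2))
    (ht : (g : M2).trace = (h : M2).trace) : IsConj g h := by
  obtain ⟨v, hv⟩ := exists_qf_ne_zero hg
  obtain ⟨w, hw⟩ := exists_qf_ne_zero hh
  obtain ⟨c, hc⟩ := FiniteField.isSquare_of_char_two (ringChar.eq F 2) (qf (g : M2) v / qf (h : M2) w)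
  refine sl_isConj g h ht hv (w := c • w) ?_
  rw [qf_smul, ← hc, div_mul_cancel₀ _ hw]

/-- The element `[[0, -1], [1, t]]`. -/
def cSL (t : F) : S := ⟨comp t 1, by simp [comp, det_fin_two]⟩

theorem cSL_mat (t : F) : ((cSL t : S) : M2) = comp t 1 := rfl

theorem cSL_spec (t : F) : ((cSL t : S) : M2).trace = t ∧ NonScalar ((cSL t : S) : M2) := by
  simp [cSL_mat, comp, trace_fin_two, nonScalar_iff]

/-- The element `[[e, x], [0, e]]`. -/
def pSL (e : F) (x : F) (he : e * e = 1) : S := ⟨!![e, x; 0, e], by simp [det_fin_two, he]⟩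

theorem pSL_mat (e x : F) (he : e * e = 1) : ((pSL e x he : S) : M2) = !![e, x; 0, e] := rfl

theorem pSL_spec (e x : F) (he : e * e = 1) (hx : x ≠ 0) :
    ((pSL e x he : S) : M2).trace = 2 * e ∧ NonScalar ((pSL e x he : S) : M2) ∧
      qf ((pSL e x he : S) : M2) ![0, 1] = -x := by
  refine ⟨?_, ?_, ?_⟩
  · simp [pSL_mat, trace_fin_two]; ring
  · simp [pSL_mat, nonScalar_iff, hx]
  · simp [pSL_mat, qf]

theorem card_conjClasses_sl_even [Fintype F] [CharP F 2] :
    Nat.card (ConjClasses S) = Fintype.card F + 1 := by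
  let f : Option F → ConjClasses S := fun o => o.elim (ConjClasses.mk 1) fun t => ConjClasses.mk (cSL t)
  have h1 : ¬ NonScalar ((1 : S) : M2) := not_not.2 ⟨1, by simp⟩
  have hf : Function.Bijective f := by
    constructor
    · rintro (_ | t) (_ | t') h <;> simp only [f, Option.elim, ConjClasses.mk_eq_mk_iff_isConj] at h
      · rfl
      · exact absurd ((sl_nonScalar_conj h).2 (cSL_spec t').2) h1
      · exact absurd ((sl_nonScalar_conj h).1 (cSL_spec t).2) h1
      · rw [← (cSL_spec t).1, ← trace_eq_of_isConj h, (cSL_spec t').1]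
    · intro C
      obtain ⟨g, rfl⟩ := ConjClasses.mk_surjective C
      by_cases hg : NonScalar (g : M2)
      · refine ⟨some (g : M2).trace, ?_⟩
        simp only [f, Option.elim, ConjClasses.mk_eq_mk_iff_isConj]
        exact sl_conj_even (cSL_spec _).2 hg (cSL_spec _).1
      · refine ⟨none, ?_⟩
        obtain ⟨a, ha, ha1⟩ := sl_scalar_val hg
        have : a = 1 := ha1.elim id fun e => e.trans (CharTwo.neg_eq 1)
        subst this
        simp only [f, Option.elim]
        congr 1
        exact Subtype.ext (by simp [ha])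
  rw [← Nat.card_congr (Equiv.ofBijective f hf), Nat.card_eq_fintype_card, Fintype.card_option]

theorem card_conjClasses_sl_odd [Fintype F] (hodd : Odd (Fintype.card F)) :
    Nat.card (ConjClasses S) = Fintype.card F + 4 := by
  classical
  have h2 := two_ne_zero_of_odd hodd
  obtain ⟨ν, hν⟩ := FiniteField.exists_nonsquare (F := F) fun e => h2 (by
    haveI := ringChar.of_eq e
    exact CharTwo.two_eq_zero)
  have hν0 : ν ≠ 0 := fun e => hν (e ▸ IsSquare.zero)
  let sg : Bool → F := fun b => cond b 1 (-1)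
  have hsg : ∀ b, sg b * sg b = 1 := fun b => by cases b <;> simp [sg]
  have hsg_inj : ∀ b b', sg b = sg b' → b = b' := by
    intro b b' h
    cases b <;> cases b' <;> simp [sg] at h ⊢
    · exact h2 (by linear_combination -h)
    · exact h2 (by linear_combination h)
  let sq : Bool → F := fun b => cond b 1 ν
  have hsq0 : ∀ b, sq b ≠ 0 := fun b => by cases b <;> simp [sq, hν0]
  let T := Bool ⊕ ({t : F // t * t ≠ 4} ⊕ Bool × Bool)
  let rep : T → S := Sum.elim (fun b => pSL (sg b) 0 (hsg b))
    (Sum.elim (fun t => cSL t.1) (fun p => pSL (sg p.1) (sq p.2) (hsg p.1)))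
  have hscal : ∀ b, ¬ NonScalar ((pSL (sg b) 0 (hsg b) : S) : M2) :=
    fun b => not_not.2 ⟨sg b, by rw [pSL_mat]; ext i j; fin_cases i <;> fin_cases j <;> simp⟩
  have hf : Function.Bijective (fun x : T => ConjClasses.mk (rep x)) := by
    constructor
    · rintro (b | t | p) (b' | t' | p') h <;>
        simp only [rep, Sum.elim_inl, Sum.elim_inr, ConjClasses.mk_eq_mk_iff_isConj] at h
      · have := congrArg (fun g : S => (g : M2) 0 0) (sl_isConj_scalar h (hscal b))
        simp [pSL_mat] at this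
        rw [hsg_inj b b' this]
      · exact absurd ((sl_nonScalar_conj h).2 (cSL_spec _).2) (hscal b)
      · exact absurd ((sl_nonScalar_conj h).2 (pSL_spec _ _ _ (hsq0 _)).2.1) (hscal b)
      · exact absurd ((sl_nonScalar_conj h).1 (cSL_spec _).2) (hscal b')
      · have e := trace_eq_of_isConj h
        rw [(cSL_spec _).1, (cSL_spec _).1] at e
        rw [Subtype.ext e.symm]
      · have e := trace_eq_of_isConj h
        rw [(cSL_spec _).1, (pSL_spec _ _ _ (hsq0 _)).1] at e
        exact absurd (by rw [← e]; linear_combination 4 * hsg p'.1) t.2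
      · exact absurd ((sl_nonScalar_conj h).1 (pSL_spec _ _ _ (hsq0 _)).2.1) (hscal b')
      · have e := trace_eq_of_isConj h
        rw [(cSL_spec _).1, (pSL_spec _ _ _ (hsq0 _)).1] at e
        exact absurd (by rw [e]; linear_combination 4 * hsg p.1) t'.2
      · obtain ⟨a1, a2, a3⟩ := pSL_spec (sg p.1) (sq p.2) (hsg p.1) (hsq0 _)
        obtain ⟨b1, b2, b3⟩ := pSL_spec (sg p'.1) (sq p'.2) (hsg p'.1) (hsq0 _)
        obtain ⟨e1, e2⟩ := (sl_conj_odd_iff h2 (v := ![0, 1]) (w := ![0, 1]) (by rw [a3]; exact neg_ne_zero.2 (hsq0 _))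
          (by rw [b3]; exact neg_ne_zero.2 (hsq0 _))).1 h
        rw [a1, b1] at e1
        have hb1 := hsg_inj _ _ (mul_left_cancel₀ h2 e1)
        have hs := e2 (by rw [a1]; linear_combination 4 * hsg p.1)
        rw [a3, b3, neg_mul_neg] at hs
        have hb2 : p.2 = p'.2 := by
          revert hs
          cases p.2 <;> cases p'.2 <;> simp [sq, hν]
        rw [Prod.ext hb1 hb2]
    · intro C
      obtain ⟨g, rfl⟩ := ConjClasses.mk_surjective C
      by_cases hg : NonScalar (g : M2)
      · obtain ⟨v, hv⟩ := exists_qf_ne_zero hg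
        by_cases h4 : (g : M2).trace * (g : M2).trace = 4
        · obtain ⟨b, hb⟩ : ∃ b, (g : M2).trace = 2 * sg b := by
            rcases mul_self_eq_mul_self_iff.1 (show (g : M2).trace * (g : M2).trace = 2 * 2 by rw [h4]; norm_num)
              with e | e
            · exact ⟨true, by simp [sg, e]⟩
            · exact ⟨false, by simp [sg, e]⟩
          obtain ⟨c, hc⟩ : ∃ c, IsSquare (qf (g : M2) v * (-sq c)) := by
            by_cases hs : IsSquare (-qf (g : M2) v)
            · exact ⟨true, by simpa [sq] using hs⟩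
            · refine ⟨false, ?_⟩
              simp only [sq, cond_false]
              rw [show qf (g : M2) v * -ν = -qf (g : M2) v * ν by ring]
              exact isSquare_mul_of_not hs hν
          refine ⟨Sum.inr (Sum.inr (b, c)), ?_⟩
          obtain ⟨a1, a2, a3⟩ := pSL_spec (sg b) (sq c) (hsg b) (hsq0 _)
          simp only [rep, Sum.elim_inr, ConjClasses.mk_eq_mk_iff_isConj]
          refine (sl_conj_odd_iff h2 (v := ![0, 1]) (by rw [a3]; exact neg_ne_zero.2 (hsq0 _)) hv).2
            ⟨a1.trans hb.symm, fun _ => ?_⟩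
          rwa [a3, mul_comm]
        · refine ⟨Sum.inr (Sum.inl ⟨_, h4⟩), ?_⟩
          simp only [rep, Sum.elim_inr, Sum.elim_inl, ConjClasses.mk_eq_mk_iff_isConj]
          obtain ⟨w, hw⟩ := exists_qf_ne_zero (cSL_spec (g : M2).trace).2
          exact (sl_conj_odd_iff h2 hw hv).2 ⟨(cSL_spec _).1, fun e => absurd e (by rw [(cSL_spec _).1]; exact h4)⟩
      · obtain ⟨a, ha, ha1⟩ := sl_scalar_val hg
        obtain ⟨b, hb⟩ : ∃ b, a = sg b := by
          rcases ha1 with rfl | rfl
          · exact ⟨true, rfl⟩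
          · exact ⟨false, rfl⟩
        refine ⟨Sum.inl b, ?_⟩
        simp only [rep, Sum.elim_inl]
        congr 1
        refine Subtype.ext ?_
        rw [pSL_mat, ha, hb]
        ext i j; fin_cases i <;> fin_cases j <;> simp
  have hcard : Nat.card {t : F // t * t ≠ 4} = Fintype.card F - 2 := by
    rw [Nat.card_eq_fintype_card, Fintype.card_subtype_compl]
    congr 1
    rw [Fintype.card_subtype, show (Finset.univ.filter fun t : F => t * t = 4) = {2, -2} from Finset.ext fun t => by
      simp only [Finset.mem_filter, Finset.mem_univ, true_and, Finset.mem_insert, Finset.mem_singleton]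
      rw [show (4 : F) = 2 * 2 by norm_num, mul_self_eq_mul_self_iff]]
    refine Finset.card_pair fun e => h2 (mul_self_eq_zero.1 ?_)
    linear_combination e
  rw [← Nat.card_congr (Equiv.ofBijective _ hf)]
  simp only [T, Nat.card_sum, Nat.card_prod, hcard]
  simp [Nat.card_eq_fintype_card]
  have := Fintype.one_lt_card (α := F)
  omega

theorem mem_centralizer_sl_iff {g x : S} :
    x ∈ Subgroup.centralizer ({g} : Set S) ↔ (x : M2) * g = (g : M2) * x := by
  rw [Subgroup.mem_centralizer_singleton_iff, ← Matrix.SpecialLinearGroup.coe_mul, ← Matrix.SpecialLinearGroup.coe_mul]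
  exact ⟨fun h => congrArg Subtype.val h, fun h => Subtype.ext h⟩

theorem card_centralizer_sl (g : S) (hg : NonScalar (g : M2)) :
    Nat.card (Subgroup.centralizer ({g} : Set S)) =
      Nat.card {p : F × F // p.1 * p.1 + (g : M2).trace * p.1 * p.2 + p.2 * p.2 = 1} := by
  refine (Nat.card_congr (Equiv.ofBijective
    (fun p => ⟨⟨p.1.1 • (1 : M2) + p.1.2 • (g : M2), by rw [det_add_smul, g.2, one_mul]; exact p.2⟩,
      mem_centralizer_sl_iff.2 (by simp [add_mul, mul_add])⟩) ⟨?_, ?_⟩)).symm
  · rintro ⟨p, hp⟩ ⟨p', hp'⟩ h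
    exact Subtype.ext (add_smul_injective hg (congrArg (fun x : Subgroup.centralizer ({g} : Set S) => ((x : S) : M2)) h))
  · rintro ⟨x, hx⟩
    obtain ⟨a, b, hab⟩ := exists_eq_add_of_comm hg (mem_centralizer_sl_iff.1 hx)
    refine ⟨⟨(a, b), ?_⟩, Subtype.ext (Subtype.ext hab.symm)⟩
    have h := x.2
    rwa [hab, det_add_smul, g.2, one_mul] at h

theorem card_class_mul (g : S) [Finite S] :
    Nat.card (ConjClasses.mk g).carrier * Nat.card (Subgroup.centralizer ({g} : Set S)) = Nat.card S := by
  refine Eq.trans ?_ (Char.card_isConj_mul_card_centralizer g)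
  congr 1

theorem orderOf_eq_char (p : ℕ) [Fact p.Prime] [CharP F p] {g : S} (hg : orderOf g = p) :
    NonScalar (g : M2) ∧ (g : M2).trace = 2 := by
  have hn : ((g : M2) - 1) ^ p = 0 := by
    rw [sub_pow_char_of_commute (p := p) (Commute.one_right _), one_pow,
      ← Matrix.SpecialLinearGroup.coe_pow, ← hg, pow_orderOf_eq_one, Matrix.SpecialLinearGroup.coe_one, sub_self]
  have hg1 : g ≠ 1 := fun e => (Fact.out : p.Prime).one_lt.ne (by rw [← hg, e, orderOf_one])
  set N := (g : M2) - 1 with hN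
  have hdet : N.det = 0 := by
    have h := congrArg Matrix.det hn
    rw [det_pow, det_zero] at h
    exact eq_zero_of_pow_eq_zero h
  have htr : (g : M2).trace = 2 := by
    have h1 := g.2
    rw [det_fin_two] at h1
    rw [hN, det_fin_two] at hdet
    simp at hdet
    rw [trace_fin_two]
    linear_combination h1 - hdet
  refine ⟨fun hs => hg1 ?_, htr⟩
  obtain ⟨a, ha⟩ := hs
  have : (a - 1) ^ p = 0 := by
    rw [hN, ha, show a • (1 : M2) - 1 = (a - 1) • (1 : M2) by rw [sub_smul, one_smul], smul_pow, one_pow] at hn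
    simpa using congrFun (congrFun hn 0) 0
  rw [sub_eq_zero.1 (eq_zero_of_pow_eq_zero this)] at ha
  exact Subtype.ext (by simp [ha])

theorem orderOf_pSL_one (p : ℕ) [Fact p.Prime] [CharP F p] {x : F} (hx : x ≠ 0) :
    orderOf (pSL (1 : F) x (mul_one 1)) = p := by
  refine orderOf_eq_prime ?_ fun e => hx ?_
  · apply Subtype.ext
    rw [Matrix.SpecialLinearGroup.coe_pow, pSL_mat, Matrix.SpecialLinearGroup.coe_one,
      show (!![1, x; 0, 1] : M2) = 1 + !![0, x; 0, 0] by ext i j; fin_cases i <;> fin_cases j <;> simp,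
      add_pow_char_of_commute (p := p) (Commute.one_left _), one_pow,
      pow_eq_zero_of_le (Fact.out : p.Prime).two_le (by
        ext i j; fin_cases i <;> fin_cases j <;> simp [pow_two]), add_zero]
  · have := congrArg (fun g : S => (g : M2) 0 1) e
    simpa [pSL_mat] using this

theorem card_sl_two [Fintype F] :
    Nat.card S = Fintype.card F * (Fintype.card F ^ 2 - 1) := by
  classical
  have h1 := Matrix.card_GL_field (𝔽 := F) 2
  rw [Fin.prod_univ_two, Fin.val_zero, Fin.val_one, pow_zero, pow_one] at h1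
  let φ : GL (Fin 2) F →* Fˣ := Units.map (Matrix.detMonoidHom)
  have hφ : Function.Surjective φ := fun a =>
    ⟨GeneralLinearGroup.mkOfDetNeZero !![(a : F), 0; 0, 1] (by simp [det_fin_two]),
      Units.ext (by simp [φ, det_fin_two, Matrix.detMonoidHom])⟩
  have h3 : Nat.card φ.ker = Nat.card S := Nat.card_congr
    { toFun := fun x => ⟨(x.1 : M2), by
        have h := congrArg Units.val x.2
        simpa [φ, Matrix.detMonoidHom] using h⟩
      invFun := fun s => ⟨Matrix.SpecialLinearGroup.toGL s, Units.ext (by simp [φ, Matrix.detMonoidHom])⟩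
      left_inv := fun x => Subtype.ext (Units.ext rfl)
      right_inv := fun s => Subtype.ext rfl }
  have h4 := φ.ker.index_mul_card
  rw [Subgroup.index_ker, MonoidHom.range_eq_top.2 hφ, Subgroup.card_top, h3, h1, Nat.card_units,
    Nat.card_eq_fintype_card (α := F)] at h4
  have hq : 2 ≤ Fintype.card F := Fintype.one_lt_card
  have e : Fintype.card F ^ 2 - Fintype.card F = (Fintype.card F - 1) * Fintype.card F := by
    rw [Nat.sub_mul, pow_two, one_mul]
  rw [e] at h4
  refine Nat.eq_of_mul_eq_mul_left (show 0 < Fintype.card F - 1 by omega) (h4.trans ?_)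
  ring

end CfsgLib.SL2Table
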