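import Mathlib
import Cfsg.Prelude

/-!
The factorisation `SL(2, 2^t) = A B A`, `A` the nonsplit torus, `B` a Sylow 2-subgroup.
-/

namespace CfsgLib.SL2Table

open Matrix

variable {F : Type*} [Field F]

local notation "S" => Matrix.SpecialLinearGroup (Fin 2) F
local notation "M2" => Matrix (Fin 2) (Fin 2) F

/-- The quadratic form. -/
def evQ (μ x y : F) : F := x * x + x * y + μ * (y * y)

/-- The stabiliser of the quadratic form. -/
def evTorus [CharP F 2] (μ : F) : Subgroup (Matrix.SpecialLinearGroup (Fin 2) F) where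
  carrier := {g | (g : Matrix (Fin 2) (Fin 2) F) 0 1 = μ * (g : Matrix (Fin 2) (Fin 2) F) 1 0 ∧
    (g : Matrix (Fin 2) (Fin 2) F) 1 1 = (g : Matrix (Fin 2) (Fin 2) F) 0 0 + (g : Matrix (Fin 2) (Fin 2) F) 1 0}
  one_mem' := by simp
  mul_mem' {a b} ha hb := by
    obtain ⟨a1, a2⟩ := ha
    obtain ⟨b1, b2⟩ := hb
    constructor <;>
      simp [Matrix.mul_apply, Fin.sum_univ_two, a1, a2, b1, b2] <;> ring
  inv_mem' {a} ha := by
    obtain ⟨a1, a2⟩ := ha
    constructor
    · simp [Matrix.SpecialLinearGroup.coe_inv, Matrix.adjugate_fin_two, a1]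
    · simp [Matrix.SpecialLinearGroup.coe_inv, Matrix.adjugate_fin_two, a2, add_assoc,
        CharTwo.neg_eq, CharTwo.add_self_eq_zero]

/-- The upper unitriangular group. -/
def evUni : Subgroup (Matrix.SpecialLinearGroup (Fin 2) F) where
  carrier := {g | (g : Matrix (Fin 2) (Fin 2) F) 0 0 = 1 ∧ (g : Matrix (Fin 2) (Fin 2) F) 1 1 = 1 ∧
    (g : Matrix (Fin 2) (Fin 2) F) 1 0 = 0}
  one_mem' := by simp
  mul_mem' {a b} ha hb := by
    obtain ⟨a1, a2, a3⟩ := ha
    obtain ⟨b1, b2, b3⟩ := hb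
    refine ⟨?_, ?_, ?_⟩ <;> simp [Matrix.mul_apply, Fin.sum_univ_two, a1, a2, a3, b1, b2, b3]
  inv_mem' {a} ha := by
    obtain ⟨a1, a2, a3⟩ := ha
    refine ⟨?_, ?_, ?_⟩ <;> simp [Matrix.SpecialLinearGroup.coe_inv, Matrix.adjugate_fin_two, a1, a2, a3]

variable [Fintype F]

theorem exists_sqrt_ev [CharP F 2] (a : F) : ∃ s : F, s * s = a := by
  obtain ⟨s, hs⟩ := FiniteField.isSquare_of_char_two (ringChar.eq F 2) a
  exact ⟨s, hs.symm⟩

theorem exists_aniso [CharP F 2] : ∃ μ : F, ∀ t : F, t * t + t ≠ μ := by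
  by_contra h
  push Not at h
  have hi : Function.Injective fun t : F => t * t + t := Finite.injective_iff_surjective.2 h
  exact one_ne_zero (α := F) (hi (by simp [CharTwo.add_self_eq_zero]))

variable [CharP F 2] {μ : F} (hμ : ∀ t : F, t * t + t ≠ μ)

omit [Fintype F] in
include hμ in
theorem evQ_eq_zero {x y : F} (h : evQ μ x y = 0) : x = 0 ∧ y = 0 := by
  by_cases hy : y = 0
  · subst hy
    simpa [evQ] using h
  · exfalso
    apply hμ (x / y)
    have e : x * x + x * y = μ * (y * y) := CharTwo.add_eq_zero.1 (by simpa [evQ] using h)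
    field_simp
    linear_combination e

omit [Fintype F] in
theorem evQ_det {g : S} (hg : g ∈ evTorus μ) : evQ μ ((g : M2) 0 0) ((g : M2) 1 0) = 1 := by
  have hd := g.2
  rw [det_fin_two, hg.1, hg.2, CharTwo.sub_eq_add] at hd
  rw [evQ]
  linear_combination hd

omit [Fintype F] in
theorem exists_evElt {x y : F} (h : evQ μ x y = 1) :
    ∃ g : S, g ∈ evTorus μ ∧ (g : M2) 0 0 = x ∧ (g : M2) 1 0 = y := by
  refine ⟨⟨!![x, μ * y; y, x + y], ?_⟩, ⟨by simp, by simp⟩, by simp, by simp⟩
  rw [det_fin_two_of, CharTwo.sub_eq_add, ← h, evQ]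
  ring

include hμ in
theorem card_evTorus : Nat.card (evTorus μ) = Fintype.card F + 1 := by
  classical
  choose r hr using fun t : F => exists_sqrt_ev (evQ μ t 1)⁻¹
  have hQ : ∀ t : F, evQ μ t 1 ≠ 0 := fun t e => one_ne_zero (evQ_eq_zero hμ e).2
  have hr0 : ∀ t, r t ≠ 0 := fun t e => inv_ne_zero (hQ t) (by rw [← hr t, e, mul_zero])
  have hsq : ∀ a b : F, a * a = b * b → a = b := fun a b e => by
    rcases mul_self_eq_mul_self_iff.1 e with h | h
    · exact h
    · rwa [CharTwo.neg_eq] at h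
  let v : Option F → F × F := fun o => o.elim (1, 0) fun t => (r t * t, r t)
  have hv : ∀ o, evQ μ (v o).1 (v o).2 = 1 := by
    rintro (_ | t)
    · simp [v, evQ]
    · simp only [v, Option.elim, evQ]
      have := hQ t
      calc _ = r t * r t * evQ μ t 1 := by rw [evQ]; ring
        _ = 1 := by rw [hr, inv_mul_cancel₀ this]
  choose e he1 he2 he3 using fun o => exists_evElt (hv o)
  have hbij : Function.Bijective fun o => (⟨e o, he1 o⟩ : evTorus μ) := by
    constructor
    · intro o o' h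
      have h' : e o = e o' := congrArg Subtype.val h
      have e1 : (v o).1 = (v o').1 := by rw [← he2, ← he2, h']
      have e2 : (v o).2 = (v o').2 := by rw [← he3, ← he3, h']
      rcases o with _ | t <;> rcases o' with _ | t' <;> simp [v] at e1 e2
      · rfl
      · exact absurd e2.symm (hr0 t')
      · exact absurd e2 (hr0 t)
      · rw [e2] at e1
        rw [mul_left_cancel₀ (hr0 t') e1]
    · rintro ⟨g, hg⟩
      have hd := evQ_det hg
      have key : ∀ o, (v o).1 = (g : M2) 0 0 → (v o).2 = (g : M2) 1 0 → (⟨e o, he1 o⟩ : evTorus μ) = ⟨g, hg⟩ := by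
        intro o h1 h2
        refine Subtype.ext (Subtype.ext ?_)
        ext i j
        fin_cases i <;> fin_cases j <;> simp [(he1 o).1, (he1 o).2, hg.1, hg.2, he2, he3, h1, h2]
      by_cases hy : (g : M2) 1 0 = 0
      · refine ⟨none, key none (hsq _ _ ?_) (by simp [v, hy])⟩
        simp [v]
        rw [hy] at hd
        simpa [evQ] using hd.symm
      · set t := (g : M2) 0 0 / (g : M2) 1 0 with ht
        have hs : r t = (g : M2) 1 0 := hsq _ _ (by
          rw [hr]
          refine inv_eq_of_mul_eq_one_left ?_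
          calc (g : M2) 1 0 * (g : M2) 1 0 * evQ μ t 1 = evQ μ ((g : M2) 0 0) ((g : M2) 1 0) := by
                rw [ht, evQ, evQ]; field_simp
            _ = 1 := hd)
        refine ⟨some t, key _ ?_ (by simp [v, hs])⟩
        change r t * t = _
        rw [hs, ht]
        field_simp
  rw [← Nat.card_congr (Equiv.ofBijective _ hbij), Nat.card_eq_fintype_card, Fintype.card_option]

include hμ in
theorem isCyclic_evTorus : IsCyclic (evTorus μ) := by
  obtain ⟨r, hr⟩ := IsAlgClosed.exists_root (k := AlgebraicClosure F)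
    (Polynomial.X ^ 2 + Polynomial.X + Polynomial.C (algebraMap F (AlgebraicClosure F) μ)) (by
      rw [Polynomial.degree_add_C]
      · rw [Polynomial.degree_add_eq_left_of_degree_lt] <;> simp
      · rw [Polynomial.degree_add_eq_left_of_degree_lt] <;> simp)
  simp at hr
  haveI : CharP (AlgebraicClosure F) 2 := charP_of_injective_algebraMap (algebraMap F (AlgebraicClosure F)).injective 2
  have hr2 : r * r = r + algebraMap F (AlgebraicClosure F) μ := by
    refine CharTwo.add_eq_zero.1 ?_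
    linear_combination hr
  let φ : evTorus μ →* AlgebraicClosure F :=
    { toFun := fun g => algebraMap F _ (((g : S) : M2) 0 0) + algebraMap F _ (((g : S) : M2) 1 0) * r
      map_one' := by simp
      map_mul' := fun g h => by
        obtain ⟨g1, g2⟩ := g.2
        obtain ⟨h1, h2⟩ := h.2
        simp [Matrix.mul_apply, Fin.sum_univ_two, g1, g2]
        linear_combination (-(algebraMap F (AlgebraicClosure F) (((g : S) : M2) 1 0) *
          algebraMap F (AlgebraicClosure F) (((h : S) : M2) 1 0))) * hr2 }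
  refine isCyclic_of_subgroup_isDomain φ fun g h e => ?_
  change algebraMap F _ _ + algebraMap F _ _ * r = algebraMap F _ _ + algebraMap F _ _ * r at e
  have hy : ((g : S) : M2) 1 0 = ((h : S) : M2) 1 0 := by
    by_contra hne
    set t : F := (((h : S) : M2) 0 0 - ((g : S) : M2) 0 0) / (((g : S) : M2) 1 0 - ((h : S) : M2) 1 0) with ht
    have hrt : r = algebraMap F _ t := by
      rw [ht, map_div₀, map_sub, map_sub, eq_div_iff (sub_ne_zero.2 fun e' => hne ((algebraMap F _).injective e'))]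
      linear_combination e
    refine hμ t (CharTwo.add_eq_zero.1 ((algebraMap F (AlgebraicClosure F)).injective ?_))
    rw [map_add, map_add, map_mul, map_zero, ← hrt, hr2]
    linear_combination CharTwo.add_self_eq_zero r + CharTwo.add_self_eq_zero (algebraMap F (AlgebraicClosure F) μ)
  have hx : ((g : S) : M2) 0 0 = ((h : S) : M2) 0 0 := by
    rw [hy] at e
    exact (algebraMap F _).injective (add_right_cancel e)
  refine Subtype.ext (Subtype.ext ?_)
  ext i j
  fin_cases i <;> fin_cases j <;> simp [g.2.1, g.2.2, h.2.1, h.2.2, hx, hy]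

omit [CharP F 2] in
theorem card_evUni : Nat.card (evUni (F := F)) = Fintype.card F := by
  rw [← Nat.card_eq_fintype_card]
  refine Nat.card_congr
    { toFun := fun g => ((g : S) : M2) 0 1
      invFun := fun x => ⟨⟨!![1, x; 0, 1], by simp [det_fin_two]⟩, by simp, by simp, by simp⟩
      left_inv := fun g => Subtype.ext (Subtype.ext (by
        obtain ⟨a1, a2, a3⟩ := g.2
        ext i j
        fin_cases i <;> fin_cases j <;> simp [a1, a2, a3]))
      right_inv := fun x => by simp }

omit [Fintype F] in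
theorem evUni_comm {a b : S} (ha : a ∈ evUni) (hb : b ∈ evUni) : a * b = b * a ∧ a * a = 1 := by
  obtain ⟨a1, a2, a3⟩ := ha
  obtain ⟨b1, b2, b3⟩ := hb
  refine ⟨Subtype.ext ?_, Subtype.ext ?_⟩ <;> ext i j <;> fin_cases i <;> fin_cases j <;>
    simp [Matrix.mul_apply, Fin.sum_univ_two, a1, a2, a3, b1, b2, b3, CharTwo.add_self_eq_zero, add_comm]

include hμ in
theorem exists_aba (g : S) : ∃ a ∈ evTorus μ, ∃ b ∈ evUni, ∃ c ∈ evTorus μ, g = a * b * c := by
  classical
  obtain ⟨M, hM⟩ : ∃ M : S, M = g⁻¹ := ⟨_, rfl⟩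
  have hd := M.2
  rw [det_fin_two, CharTwo.sub_eq_add] at hd
  set m := (M : M2) 0 0
  set n := (M : M2) 0 1
  set o := (M : M2) 1 0
  set p := (M : M2) 1 1
  obtain ⟨α, hα⟩ := exists_sqrt_ev (evQ μ m o + 1)
  obtain ⟨γ, hγ⟩ := exists_sqrt_ev (evQ μ n p + μ)
  have hexp : ∀ x y : F, evQ μ (m * x + n * y) (o * x + p * y) = evQ μ x y + α * α * (x * x) + γ * γ * (y * y) := by
    intro x y
    rw [hα, hγ, evQ, evQ, evQ, evQ]
    linear_combination (x * y) * hd + CharTwo.add_self_eq_zero (m * n * x * y) +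
      CharTwo.add_self_eq_zero (μ * o * p * x * y) - CharTwo.add_self_eq_zero (x * x) -
      CharTwo.add_self_eq_zero (μ * (y * y))
  obtain ⟨x, y, h1, h2⟩ : ∃ x y : F, evQ μ x y = 1 ∧ α * α * (x * x) + γ * γ * (y * y) = 0 := by
    by_cases h0 : α = 0
    · exact ⟨1, 0, by simp [evQ], by simp [h0]⟩
    · have hQ : evQ μ γ α ≠ 0 := fun e => h0 (evQ_eq_zero hμ e).2
      obtain ⟨s, hs⟩ := exists_sqrt_ev (evQ μ γ α)⁻¹
      refine ⟨s * γ, s * α, ?_, ?_⟩
      · calc evQ μ (s * γ) (s * α) = s * s * evQ μ γ α := by rw [evQ, evQ]; ring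
          _ = 1 := by rw [hs, inv_mul_cancel₀ hQ]
      · linear_combination CharTwo.add_self_eq_zero (α * α * γ * γ * s * s)
  obtain ⟨a, ha, ha0, ha1⟩ := exists_evElt h1
  obtain ⟨c, hc, hc0, hc1⟩ := exists_evElt
    (show evQ μ (m * x + n * y) (o * x + p * y) = 1 by rw [hexp, add_assoc, h2, h1, add_zero])
  obtain ⟨b, hb⟩ : ∃ b : S, b = c⁻¹ * (M * a) := ⟨_, rfl⟩
  have hcol : ((M * a : S) : M2) 0 0 = (c : M2) 0 0 ∧ ((M * a : S) : M2) 1 0 = (c : M2) 1 0 := by
    rw [hc0, hc1]
    constructor <;> simp [Matrix.mul_apply, Fin.sum_univ_two, ha0, ha1, m, n, o, p]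
  have hcd := evQ_det hc
  have b00 : (b : M2) 0 0 = 1 := by
    rw [hb, Matrix.SpecialLinearGroup.coe_mul, Matrix.mul_apply, Fin.sum_univ_two, hcol.1, hcol.2,
      Matrix.SpecialLinearGroup.coe_inv, Matrix.adjugate_fin_two]
    rw [evQ] at hcd
    simp [hc.1, hc.2, CharTwo.neg_eq]
    linear_combination hcd
  have b10 : (b : M2) 1 0 = 0 := by
    rw [hb, Matrix.SpecialLinearGroup.coe_mul, Matrix.mul_apply, Fin.sum_univ_two, hcol.1, hcol.2,
      Matrix.SpecialLinearGroup.coe_inv, Matrix.adjugate_fin_two]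
    simp
    ring
  have b11 : (b : M2) 1 1 = 1 := by
    have h := b.2
    rw [det_fin_two, b00, b10, mul_zero, sub_zero, one_mul] at h
    exact h
  refine ⟨a, ha, b⁻¹, inv_mem ⟨b00, b11, b10⟩, c⁻¹, inv_mem hc, ?_⟩
  rw [hb, hM]
  group

end CfsgLib.SL2Table
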