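import Mathlib
import Cfsg.Prelude
import Cfsg.Agent.Lib.Char.Induced

/-!
Induction from the Borel subgroup of a group mapping onto a subgroup of `GL(2, F)` which
meets every line: a sum over the fixed lines.
-/

namespace CfsgLib.SL2Table

open Matrix
open scoped ComplexConjugate

variable {F : Type*} [Field F] [Fintype F]

theorem sum_units_eq (χ : MulChar F ℂ) [Decidable (χ = 1)] [DecidableEq F] :
    ∑ a : Fˣ, χ (a : F) = if χ = 1 then (Fintype.card F : ℂ) - 1 else 0 := by
  have h : ∑ a : F, χ a = ∑ a : Fˣ, χ (a : F) := by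
    rw [← Finset.sum_erase (a := (0 : F)) Finset.univ (MulChar.map_zero χ)]
    refine (Finset.sum_bij (fun (a : Fˣ) _ => (a : F)) ?_ ?_ ?_ ?_).symm
    · exact fun a _ => Finset.mem_erase.2 ⟨a.ne_zero, Finset.mem_univ _⟩
    · exact fun a _ b _ e => Units.ext e
    · exact fun a ha => ⟨Units.mk0 a (Finset.mem_erase.1 ha).1, Finset.mem_univ _, rfl⟩
    · exact fun a _ => rfl
  split_ifs with h1
  · subst h1
    simp [Fintype.card_units, Nat.cast_sub Fintype.card_pos]
  · rw [← h, MulChar.sum_eq_zero_of_ne_one h1]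

theorem conj_mulChar (χ : MulChar F ℂ) (a : F) : conj (χ a) = χ⁻¹ a := MulChar.star_apply' χ a

theorem sum_units_mul_conj (α β : MulChar F ℂ) [Decidable (α = β)] [DecidableEq F] :
    ∑ a : Fˣ, α (a : F) * conj (β (a : F)) = if α = β then (Fintype.card F : ℂ) - 1 else 0 := by
  classical
  simp only [conj_mulChar, ← MulChar.mul_apply, sum_units_eq]
  exact if_congr mul_inv_eq_one rfl rfl

/-- A group with a map to `GL(2, F)` whose image meets every coset of the Borel subgroup in the
standard representatives. -/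
structure LineGroup (G : Type*) [Group G] (F : Type*) [Field F] where
  map : G →* GL (Fin 2) F
  borel : Subgroup G
  mem_borel : ∀ g, g ∈ borel ↔ (map g : Matrix (Fin 2) (Fin 2) F) 1 0 = 0
  rep : F → G
  rep_spec : ∀ s, (map (rep s) : Matrix (Fin 2) (Fin 2) F) = !![s, -1; 1, 0]

variable {G : Type*} [Group G]

namespace LineGroup

omit [Fintype F]
variable (L : LineGroup G F)

/-- The matrix of a group element. -/
def mat (g : G) : Matrix (Fin 2) (Fin 2) F := (L.map g : Matrix (Fin 2) (Fin 2) F)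

theorem mem_iff (g : G) : g ∈ L.borel ↔ L.mat g 1 0 = 0 := L.mem_borel g

theorem mat_mul (g h : G) : L.mat (g * h) = L.mat g * L.mat h := by simp [mat]

theorem mat_one : L.mat 1 = 1 := by simp [mat]

theorem mat_rep (s : F) : L.mat (L.rep s) = !![s, -1; 1, 0] := L.rep_spec s

theorem mat_rep_inv (s : F) : L.mat (L.rep s)⁻¹ = !![0, 1; -1, s] := by
  have h : L.mat (L.rep s)⁻¹ * L.mat (L.rep s) = 1 := by rw [← mat_mul, inv_mul_cancel, mat_one]
  have h2 : !![s, (-1 : F); 1, 0] * !![0, 1; -1, s] = 1 := by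
    ext i j; fin_cases i <;> fin_cases j <;> simp
  exact left_inv_eq_right_inv h (by rw [mat_rep, h2])

theorem mat_conj_rep (s : F) (g : G) :
    L.mat ((L.rep s)⁻¹ * g * L.rep s) =
      !![L.mat g 1 0 * s + L.mat g 1 1, -L.mat g 1 0;
        L.mat g 1 0 * s * s + (L.mat g 1 1 - L.mat g 0 0) * s - L.mat g 0 1, L.mat g 0 0 - L.mat g 1 0 * s] := by
  rw [mat_mul, mat_mul, mat_rep, mat_rep_inv]
  ext i j
  fin_cases i <;> fin_cases j <;> simp [Matrix.mul_apply, Fin.sum_univ_two, Matrix.vecMul, dotProduct] <;> ring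

theorem det_mat_ne_zero (g : G) : (L.mat g).det ≠ 0 :=
  ((Matrix.isUnit_iff_isUnit_det _).1 (L.map g).isUnit).ne_zero

theorem borel_diag_ne_zero {g : G} (h : g ∈ L.borel) : L.mat g 0 0 ≠ 0 ∧ L.mat g 1 1 ≠ 0 := by
  have hd := L.det_mat_ne_zero g
  rw [det_fin_two, show L.mat g 1 0 = 0 from (L.mem_iff g).1 h, mul_zero, sub_zero] at hd
  exact ⟨left_ne_zero_of_mul hd, right_ne_zero_of_mul hd⟩

theorem borel_mul_diag {a b : G} (ha : a ∈ L.borel) (hb : b ∈ L.borel) :
    L.mat (a * b) 0 0 = L.mat a 0 0 * L.mat b 0 0 ∧ L.mat (a * b) 1 1 = L.mat a 1 1 * L.mat b 1 1 := by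
  have ha' : L.mat a 1 0 = 0 := (L.mem_iff a).1 ha
  have hb' : L.mat b 1 0 = 0 := (L.mem_iff b).1 hb
  simp [mat_mul, Matrix.mul_apply, Fin.sum_univ_two, ha', hb']

theorem borel_conj_diag {a g : G} (ha : a ∈ L.borel) (hg : g ∈ L.borel) :
    L.mat (a⁻¹ * g * a) 0 0 = L.mat g 0 0 ∧ L.mat (a⁻¹ * g * a) 1 1 = L.mat g 1 1 := by
  have hi := inv_mem ha
  obtain ⟨h1, h2⟩ := L.borel_mul_diag (mul_mem hi hg) ha
  obtain ⟨h3, h4⟩ := L.borel_mul_diag hi hg
  obtain ⟨h5, h6⟩ := L.borel_mul_diag hi ha
  rw [inv_mul_cancel, mat_one] at h5 h6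
  simp at h5 h6
  rw [h1, h2, h3, h4]
  constructor
  · linear_combination (L.mat g 0 0) * (-h5)
  · linear_combination (L.mat g 1 1) * (-h6)

theorem rep_mul_mat_lower (s : F) {b : G} (hb : b ∈ L.borel) :
    L.mat (L.rep s * b) 0 0 = s * L.mat b 0 0 ∧ L.mat (L.rep s * b) 1 0 = L.mat b 0 0 := by
  have hb' : L.mat b 1 0 = 0 := (L.mem_iff b).1 hb
  simp [mat_mul, mat_rep, Matrix.mul_apply, Fin.sum_univ_two, hb', Matrix.vecMul, dotProduct]

theorem rep_inv_mul_mem {g : G} (h : g ∉ L.borel) :
    (L.rep (L.mat g 0 0 / L.mat g 1 0))⁻¹ * g ∈ L.borel := by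
  have h10 : L.mat g 1 0 ≠ 0 := fun e => h ((L.mem_iff g).2 e)
  rw [L.mem_iff]
  simp [mat_mul, mat_rep_inv, Matrix.mul_apply, Fin.sum_univ_two, Matrix.vecMul, dotProduct]
  field_simp
  ring

/-- The bijection from standard representatives and the Borel subgroup to the group. -/
noncomputable def cosetEquiv : Option F × L.borel ≃ G :=
  Equiv.ofBijective (fun p => p.1.elim (p.2 : G) fun s => L.rep s * p.2) (by
    constructor
    · rintro ⟨o, b, hb⟩ ⟨o', b', hb'⟩ h
      cases o with
      | none =>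
        cases o' with
        | none => simpa using h
        | some s' =>
          exfalso
          simp at h
          have h10 : L.mat b 1 0 = 0 := (L.mem_iff b).1 hb
          rw [h, (L.rep_mul_mat_lower s' hb').2] at h10
          exact (L.borel_diag_ne_zero hb').1 h10
      | some s =>
        cases o' with
        | none =>
          exfalso
          simp at h
          have h10 : L.mat b' 1 0 = 0 := (L.mem_iff b').1 hb'
          rw [← h, (L.rep_mul_mat_lower s hb).2] at h10
          exact (L.borel_diag_ne_zero hb).1 h10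
        | some s' =>
          simp at h
          obtain ⟨e1, e2⟩ := L.rep_mul_mat_lower s hb
          obtain ⟨e3, e4⟩ := L.rep_mul_mat_lower s' hb'
          rw [h] at e1 e2
          have hs : s = s' := by
            have hb00 : L.mat b 0 0 = L.mat b' 0 0 := e2.symm.trans e4
            exact mul_right_cancel₀ (L.borel_diag_ne_zero hb).1 (by rw [← e1, e3, hb00])
          subst hs
          simp [mul_left_cancel h]
    · intro g
      by_cases hg : g ∈ L.borel
      · exact ⟨(none, ⟨g, hg⟩), rfl⟩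
      · exact ⟨(some _, ⟨_, L.rep_inv_mul_mem hg⟩), mul_inv_cancel_left _ _⟩)

theorem cosetEquiv_none (b : L.borel) : L.cosetEquiv (none, b) = (b : G) := rfl

theorem cosetEquiv_some (s : F) (b : L.borel) : L.cosetEquiv (some s, b) = L.rep s * b := rfl

section Fin

variable [Fintype F] [Fintype G] [DecidableEq F]

omit [DecidableEq F] [Fintype G] in
theorem card_eq [Finite G] : Nat.card G = (Fintype.card F + 1) * Nat.card L.borel := by
  rw [← Nat.card_congr L.cosetEquiv, Nat.card_prod]
  simp [Nat.card_eq_fintype_card]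

omit [DecidableEq F] [Fintype G] in
theorem index_eq [Finite G] : L.borel.index = Fintype.card F + 1 := by
  have h := L.borel.index_mul_card
  rw [L.card_eq] at h
  exact Nat.eq_of_mul_eq_mul_right Nat.card_pos h

/-- The induced function of a function of the diagonal, as a sum over fixed lines. -/
theorem indFun_diag (f : F → F → ℂ) (g : G) :
    Cfsg.indFun L.borel (fun b => f (L.mat b 0 0) (L.mat b 1 1)) g =
      (if L.mat g 1 0 = 0 then f (L.mat g 0 0) (L.mat g 1 1) else 0) +
        ∑ s : F, if L.mat g 1 0 * s * s + (L.mat g 1 1 - L.mat g 0 0) * s - L.mat g 0 1 = 0 then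
          f (L.mat g 1 0 * s + L.mat g 1 1) (L.mat g 0 0 - L.mat g 1 0 * s) else 0 := by
  classical
  rw [Char.indFun_apply, ← L.cosetEquiv.sum_comp, Fintype.sum_prod_type, Fintype.sum_option]
  have key : ∀ (x : G) (b : L.borel), Cfsg.extendByZero L.borel (fun b : L.borel => f (L.mat b 0 0) (L.mat b 1 1))
      ((x * b)⁻¹ * g * (x * b)) =
      if L.mat (x⁻¹ * g * x) 1 0 = 0 then f (L.mat (x⁻¹ * g * x) 0 0) (L.mat (x⁻¹ * g * x) 1 1) else 0 := by
    intro x b
    set y := x⁻¹ * g * x with hy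
    rw [show (x * b)⁻¹ * g * (x * b) = (b : G)⁻¹ * y * b by rw [hy]; group]
    by_cases hm : y ∈ L.borel
    · rw [if_pos (show L.mat y 1 0 = 0 from (L.mem_iff y).1 hm),
        Char.extendByZero_of_mem _ (mul_mem (mul_mem (inv_mem b.2) hm) b.2)]
      obtain ⟨h1, h2⟩ := L.borel_conj_diag b.2 hm
      simp [h1, h2]
    · rw [if_neg (fun e => hm ((L.mem_iff y).2 e)), Char.extendByZero_of_notMem]
      intro h
      apply hm
      have := mul_mem (mul_mem b.2 h) (inv_mem b.2)
      simpa [mul_assoc] using this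
  have e1 : ∀ b : L.borel, L.cosetEquiv (none, b) = 1 * (b : G) := fun b => (one_mul _).symm
  simp only [e1, cosetEquiv_some, key]
  simp only [inv_one, one_mul, mul_one, mat_conj_rep, Finset.sum_const,
    Finset.card_univ, nsmul_eq_mul, ← Nat.card_eq_fintype_card]
  rw [← Finset.mul_sum, ← mul_add, ← mul_assoc, inv_mul_cancel₀ (Char.card_subgroup_ne_zero L.borel),
    one_mul]
  simp

end Fin

end LineGroup

end CfsgLib.SL2Table
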