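import Mathlib
import Cfsg.Prelude
import Cfsg.Agent.Lib.SL2Table.Borel
import Cfsg.Agent.Lib.SL2Table.GL2Classes
import Cfsg.Agent.Lib.Char.Generalized
import Cfsg.Agent.Lib.Char.Integral
import Cfsg.Agent.Lib.Char.Extension

/-!
The character table of `GL(2, F)`: principal series, twisted Steinberg characters, and the
remaining (cuspidal) characters, recognised by orthogonality to all principal series.
-/

namespace CfsgLib.SL2Table

open Matrix
open scoped ComplexConjugate

variable {F : Type*} [Field F]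

local notation "G2" => GL (Fin 2) F

theorem mem_upperTriangularGL_two (g : G2) :
    g ∈ Cfsg.upperTriangularGL 2 F ↔ (g : Matrix (Fin 2) (Fin 2) F) 1 0 = 0 := by
  constructor
  · exact fun h => h (show id (0 : Fin 2) < id 1 by decide)
  · intro h i j hij
    fin_cases i <;> fin_cases j <;> simp at hij ⊢
    exact h

/-- `GL(2, F)` as a line group. -/
def glLine : LineGroup G2 F where
  map := MonoidHom.id _
  borel := Cfsg.upperTriangularGL 2 F
  mem_borel := mem_upperTriangularGL_two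
  rep := fun s => GeneralLinearGroup.mkOfDetNeZero !![s, -1; 1, 0] (by simp [det_fin_two])
  rep_spec := fun s => by simp

theorem glLine_mat (g : G2) : (glLine (F := F)).mat g = (g : Matrix (Fin 2) (Fin 2) F) := rfl

theorem glLine_borel : (glLine (F := F)).borel = Cfsg.upperTriangularGL 2 F := rfl

/-- Parametrisation of the Borel subgroup. -/
noncomputable def borelEquiv : (Fˣ × Fˣ) × F ≃ Cfsg.upperTriangularGL 2 F :=
  Equiv.ofBijective (fun p => ⟨GeneralLinearGroup.mkOfDetNeZero !![(p.1.1 : F), p.2; 0, (p.1.2 : F)]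
      (by simp [det_fin_two]), (mem_upperTriangularGL_two _).2 (by simp)⟩) (by
    constructor
    · rintro ⟨⟨a, d⟩, x⟩ ⟨⟨a', d'⟩, x'⟩ h
      have h' := congrArg (fun b : Cfsg.upperTriangularGL 2 F => ((b : G2) : Matrix (Fin 2) (Fin 2) F)) h
      simp at h'
      simp only [Prod.mk.injEq, Units.ext_iff]
      tauto
    · rintro ⟨g, hg⟩
      have h10 := (mem_upperTriangularGL_two g).1 hg
      have hd := gl_det_ne_zero g
      rw [det_fin_two, h10, mul_zero, sub_zero] at hd
      refine ⟨((Units.mk0 _ (left_ne_zero_of_mul hd), Units.mk0 _ (right_ne_zero_of_mul hd)),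
        (g : Matrix (Fin 2) (Fin 2) F) 0 1), Subtype.ext (Units.ext ?_)⟩
      ext i j
      fin_cases i <;> fin_cases j <;> simp [h10])

theorem borelEquiv_apply (p : (Fˣ × Fˣ) × F) :
    ((borelEquiv p : G2) : Matrix (Fin 2) (Fin 2) F) = !![(p.1.1 : F), p.2; 0, (p.1.2 : F)] := by
  rfl

variable [Fintype F] [DecidableEq F]

theorem card_borel_cast :
    (Nat.card (Cfsg.upperTriangularGL 2 F) : ℂ) = ((Fintype.card F : ℂ) - 1) ^ 2 * Fintype.card F := by
  rw [← Nat.card_congr borelEquiv]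
  simp [Nat.card_eq_fintype_card, Fintype.card_units, Nat.cast_sub Fintype.card_pos, pow_two]

/-- The principal series. -/
noncomputable def ps (α β : MulChar F ℂ) : G2 → ℂ :=
  Cfsg.indFun (Cfsg.upperTriangularGL 2 F) (fun b => α (((b : G2) : Matrix (Fin 2) (Fin 2) F) 0 0) *
    β (((b : G2) : Matrix (Fin 2) (Fin 2) F) 1 1))

/-- A character of the determinant. -/
noncomputable def lin (α : MulChar F ℂ) : G2 → ℂ := fun g => α (g : Matrix (Fin 2) (Fin 2) F).det

/-- The twisted Steinberg characters. -/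
noncomputable def st (α : MulChar F ℂ) : G2 → ℂ := ps α α - lin α

theorem ps_apply (α β : MulChar F ℂ) (g : G2) :
    ps α β g = (if (g : Matrix (Fin 2) (Fin 2) F) 1 0 = 0 then
        α ((g : Matrix (Fin 2) (Fin 2) F) 0 0) * β ((g : Matrix (Fin 2) (Fin 2) F) 1 1) else 0) +
      ∑ s : F, if (g : Matrix (Fin 2) (Fin 2) F) 1 0 * s * s + ((g : Matrix (Fin 2) (Fin 2) F) 1 1 - (g : Matrix (Fin 2) (Fin 2) F) 0 0) * s - (g : Matrix (Fin 2) (Fin 2) F) 0 1 = 0 then
        α ((g : Matrix (Fin 2) (Fin 2) F) 1 0 * s + (g : Matrix (Fin 2) (Fin 2) F) 1 1) *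
          β ((g : Matrix (Fin 2) (Fin 2) F) 0 0 - (g : Matrix (Fin 2) (Fin 2) F) 1 0 * s) else 0 :=
  (glLine (F := F)).indFun_diag (fun x y => α x * β y) g

theorem borel_index : (Cfsg.upperTriangularGL 2 F).index = Fintype.card F + 1 :=
  (glLine (F := F)).index_eq

theorem ps_one (α β : MulChar F ℂ) : ps α β 1 = (Fintype.card F : ℂ) + 1 := by
  rw [ps, Char.indFun_one, borel_index]
  simp

theorem ps_split (α β : MulChar F ℂ) {g : G2} (h01 : (g : Matrix (Fin 2) (Fin 2) F) 0 1 = 0)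
    (h10 : (g : Matrix (Fin 2) (Fin 2) F) 1 0 = 0)
    (hne : (g : Matrix (Fin 2) (Fin 2) F) 0 0 ≠ (g : Matrix (Fin 2) (Fin 2) F) 1 1) :
    ps α β g = α ((g : Matrix (Fin 2) (Fin 2) F) 0 0) * β ((g : Matrix (Fin 2) (Fin 2) F) 1 1) +
      α ((g : Matrix (Fin 2) (Fin 2) F) 1 1) * β ((g : Matrix (Fin 2) (Fin 2) F) 0 0) := by
  rw [ps_apply, if_pos h10, Finset.sum_eq_single (0 : F)]
  · simp [h10, h01]
  · intro s _ hs
    rw [if_neg]
    simp [h10, h01, sub_ne_zero.2 hne.symm, hs]
  · simp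

theorem ps_transvection (α β : MulChar F ℂ) {g : G2} (h10 : (g : Matrix (Fin 2) (Fin 2) F) 1 0 = 0)
    (heq : (g : Matrix (Fin 2) (Fin 2) F) 0 0 = (g : Matrix (Fin 2) (Fin 2) F) 1 1)
    (h01 : (g : Matrix (Fin 2) (Fin 2) F) 0 1 ≠ 0) :
    ps α β g = α ((g : Matrix (Fin 2) (Fin 2) F) 0 0) * β ((g : Matrix (Fin 2) (Fin 2) F) 1 1) := by
  rw [ps_apply, if_pos h10, Finset.sum_eq_zero, add_zero]
  intro s _
  rw [if_neg]
  simp [h10, heq, h01]

omit [Fintype F] [DecidableEq F] in
theorem elliptic_no_root {M : Matrix (Fin 2) (Fin 2) F}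
    (h : ∀ (c : F) (v : Fin 2 → F), v ≠ 0 → M.mulVec v ≠ c • v) :
    M 1 0 ≠ 0 ∧ ∀ s : F, M 1 0 * s * s + (M 1 1 - M 0 0) * s - M 0 1 ≠ 0 := by
  constructor
  · intro h10
    refine h (M 0 0) ![1, 0] (by simp) ?_
    funext i; fin_cases i <;> simp [mulVec, dotProduct, h10]
  · intro s hs
    refine h (M 1 0 * s + M 1 1) ![s, 1] (by simp) ?_
    funext i
    fin_cases i <;> simp [mulVec, dotProduct]
    linear_combination -hs

theorem ps_elliptic (α β : MulChar F ℂ) {g : G2}
    (h : ∀ (c : F) (v : Fin 2 → F), v ≠ 0 → (g : Matrix (Fin 2) (Fin 2) F).mulVec v ≠ c • v) :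
    ps α β g = 0 := by
  obtain ⟨h1, h2⟩ := elliptic_no_root h
  rw [ps_apply, if_neg h1, zero_add, Finset.sum_eq_zero]
  exact fun s _ => if_neg (h2 s)

theorem ps_scalar (α β : MulChar F ℂ) {g : G2} {a : F}
    (h : (g : Matrix (Fin 2) (Fin 2) F) = a • (1 : Matrix (Fin 2) (Fin 2) F)) :
    ps α β g = ((Fintype.card F : ℂ) + 1) * (α a * β a) := by
  rw [ps_apply, h]
  simp
  ring

omit [Fintype F] [DecidableEq F] in
/-- The determinant twist as a homomorphism. -/
noncomputable def linHom (α : MulChar F ℂ) : G2 →* ℂ where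
  toFun := lin α
  map_one' := by simp [lin]
  map_mul' g h := by simp [lin]

theorem isIrr_lin (α : MulChar F ℂ) : Cfsg.IsIrrCharacter G2 (lin α) :=
  Char.isIrrCharacter_hom (linHom α)

theorem lin_one (α : MulChar F ℂ) : lin α (1 : G2) = 1 := by simp [lin]

theorem st_one (α : MulChar F ℂ) : st α (1 : G2) = (Fintype.card F : ℂ) := by
  simp [st, ps_one, lin_one]

theorem isCharacter_ps (α β : MulChar F ℂ) : Cfsg.IsCharacter G2 (ps α β) := by
  refine Char.isCharacter_indFun _ (Char.isCharacter_of_isIrr (Char.isIrrCharacter_hom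
    ({ toFun := fun b => α (((b : G2) : Matrix (Fin 2) (Fin 2) F) 0 0) * β (((b : G2) : Matrix (Fin 2) (Fin 2) F) 1 1)
       map_one' := by simp
       map_mul' := fun a b => ?_ } : (Cfsg.upperTriangularGL 2 F) →* ℂ)))
  obtain ⟨h1, h2⟩ := (glLine (F := F)).borel_mul_diag a.2 b.2
  simp only [glLine_mat] at h1 h2
  simp only [Subgroup.coe_mul, h1, h2, map_mul]
  ring

theorem isClassFunction_ps (α β : MulChar F ℂ) : Cfsg.IsClassFunction G2 (ps α β) :=
  Char.isClassFunction_indFun _ _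

theorem classInner_ps_ps (α β α' β' : MulChar F ℂ) [Decidable (α = α' ∧ β = β')]
    [Decidable (α = β' ∧ β = α')] :
    Cfsg.classInner (ps α β) (ps α' β') =
      (if α = α' ∧ β = β' then 1 else 0) + (if α = β' ∧ β = α' then 1 else 0) := by
  classical
  have hfr := Char.frobenius_reciprocity (Cfsg.upperTriangularGL 2 F)
    (fun b => α (((b : G2) : Matrix (Fin 2) (Fin 2) F) 0 0) * β (((b : G2) : Matrix (Fin 2) (Fin 2) F) 1 1))
    (isClassFunction_ps α' β')
  refine hfr.trans ?_
  rw [Char.classInner_def, card_borel_cast, ← borelEquiv.sum_comp]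
  have hval : ∀ p : (Fˣ × Fˣ) × F, ps α' β' (borelEquiv p : G2) = α' (p.1.1 : F) * β' (p.1.2 : F) +
      ∑ s : F, if p.2 = ((p.1.2 : F) - p.1.1) * s then α' (p.1.2 : F) * β' (p.1.1 : F) else 0 := by
    intro p
    rw [ps_apply, borelEquiv_apply]
    simp only [cons_val', cons_val_zero, cons_val_one, empty_val', cons_val_fin_one, of_apply, if_pos rfl,
      zero_mul, zero_add, sub_zero]
    congr 1
    refine Finset.sum_congr rfl fun s _ => if_congr ⟨fun e => ?_, fun e => ?_⟩ rfl rfl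
    · linear_combination -e
    · linear_combination -e
  have hx : ∀ a d : Fˣ, ∑ x : F, α (a : F) * β (d : F) * conj (ps α' β' (borelEquiv ((a, d), x) : G2)) =
      (Fintype.card F : ℂ) * (α (a : F) * β (d : F) * (conj (α' (a : F)) * conj (β' (d : F)))) +
        (Fintype.card F : ℂ) * (α (a : F) * β (d : F) * (conj (α' (d : F)) * conj (β' (a : F)))) := by
    intro a d
    simp only [hval, map_add, map_sum, apply_ite conj, map_zero, map_mul, mul_add, Finset.sum_add_distrib,
      Finset.mul_sum, mul_ite, mul_zero]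
    rw [Finset.sum_comm]
    simp [Finset.sum_ite_eq']
  simp only [borelEquiv_apply, cons_val', cons_val_zero, cons_val_one, empty_val', cons_val_fin_one, of_apply]
  rw [Fintype.sum_prod_type, Fintype.sum_prod_type]
  simp only [hx, Finset.sum_add_distrib]
  have e1 : ∀ γ δ : MulChar F ℂ, ∑ a : Fˣ, ∑ d : Fˣ, (Fintype.card F : ℂ) * (α (a : F) * β (d : F) * (conj (γ (a : F)) * conj (δ (d : F)))) =
      (Fintype.card F : ℂ) * ((∑ a : Fˣ, α (a : F) * conj (γ (a : F))) * ∑ d : Fˣ, β (d : F) * conj (δ (d : F))) := by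
    intro γ δ
    rw [Finset.sum_mul_sum, Finset.mul_sum]
    refine Finset.sum_congr rfl fun a _ => ?_
    rw [Finset.mul_sum]
    exact Finset.sum_congr rfl fun d _ => by ring
  have e2 : ∑ a : Fˣ, ∑ d : Fˣ, (Fintype.card F : ℂ) * (α (a : F) * β (d : F) * (conj (α' (d : F)) * conj (β' (a : F)))) =
      (Fintype.card F : ℂ) * ((∑ a : Fˣ, α (a : F) * conj (β' (a : F))) * ∑ d : Fˣ, β (d : F) * conj (α' (d : F))) := by
    rw [← e1]
    exact Finset.sum_congr rfl fun a _ => Finset.sum_congr rfl fun d _ => by ring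
  rw [e1, e2, sum_units_mul_conj, sum_units_mul_conj, sum_units_mul_conj, sum_units_mul_conj]
  have h1 : (Fintype.card F : ℂ) ≠ 0 := by exact_mod_cast Fintype.card_ne_zero
  have h2 : (Fintype.card F : ℂ) - 1 ≠ 0 := by
    rw [sub_ne_zero]
    exact_mod_cast (Fintype.one_lt_card (α := F)).ne'
  rw [ite_zero_mul_ite_zero, ite_zero_mul_ite_zero]
  by_cases hA : α = α' ∧ β = β' <;> by_cases hB : α = β' ∧ β = α'
  · rw [if_pos hA, if_pos hB, if_pos hA, if_pos hB]; field_simp
  · rw [if_pos hA, if_neg hB, if_pos hA, if_neg hB]; field_simp; ring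
  · rw [if_neg hA, if_pos hB, if_neg hA, if_pos hB]; field_simp; ring
  · rw [if_neg hA, if_neg hB, if_neg hA, if_neg hB]; ring

theorem classInner_ps_lin (α β γ : MulChar F ℂ) [Decidable (α = γ ∧ β = γ)] :
    Cfsg.classInner (ps α β) (lin γ) = if α = γ ∧ β = γ then 1 else 0 := by
  classical
  have hfr := Char.frobenius_reciprocity (Cfsg.upperTriangularGL 2 F)
    (fun b => α (((b : G2) : Matrix (Fin 2) (Fin 2) F) 0 0) * β (((b : G2) : Matrix (Fin 2) (Fin 2) F) 1 1))
    (Char.isClassFunction_of_isIrr (isIrr_lin γ))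
  refine hfr.trans ?_
  rw [Char.classInner_def, card_borel_cast, ← borelEquiv.sum_comp]
  simp only [lin, borelEquiv_apply, det_fin_two_of, cons_val', cons_val_zero, cons_val_one, empty_val',
    cons_val_fin_one, of_apply, mul_zero, sub_zero, map_mul]
  rw [Fintype.sum_prod_type, Fintype.sum_prod_type]
  simp only [Finset.sum_const, Finset.card_univ, nsmul_eq_mul]
  have e1 : ∑ a : Fˣ, ∑ d : Fˣ, (Fintype.card F : ℂ) * (α (a : F) * β (d : F) * (conj (γ (a : F)) * conj (γ (d : F)))) =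
      (Fintype.card F : ℂ) * ((∑ a : Fˣ, α (a : F) * conj (γ (a : F))) * ∑ d : Fˣ, β (d : F) * conj (γ (d : F))) := by
    rw [Finset.sum_mul_sum, Finset.mul_sum]
    refine Finset.sum_congr rfl fun a _ => ?_
    rw [Finset.mul_sum]
    exact Finset.sum_congr rfl fun d _ => by ring
  rw [e1, sum_units_mul_conj, sum_units_mul_conj]
  have h1 : (Fintype.card F : ℂ) ≠ 0 := by exact_mod_cast Fintype.card_ne_zero
  have h2 : (Fintype.card F : ℂ) - 1 ≠ 0 := by
    rw [sub_ne_zero]
    exact_mod_cast (Fintype.one_lt_card (α := F)).ne'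
  by_cases a1 : α = γ <;> by_cases a2 : β = γ <;> simp [a1, a2] <;> field_simp

omit [DecidableEq F] in
theorem lin_injective : Function.Injective (lin (F := F)) := by
  intro α β h
  refine MulChar.ext fun a => ?_
  have := congrFun h (GeneralLinearGroup.mkOfDetNeZero !![(a : F), 0; 0, 1] (by simp [det_fin_two]))
  simpa [lin, det_fin_two] using this

theorem classInner_lin (α β : MulChar F ℂ) [Decidable (α = β)] :
    Cfsg.classInner (lin α) (lin β) = if α = β then 1 else 0 := by
  split_ifs with h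
  · subst h; exact Char.classInner_irr_self (isIrr_lin α)
  · exact Char.classInner_irr_ne (isIrr_lin α) (isIrr_lin β) fun e => h (lin_injective e)

theorem classInner_st (α β : MulChar F ℂ) [Decidable (α = β)] :
    Cfsg.classInner (st α) (st β) = if α = β then 1 else 0 := by
  classical
  have hrev : Cfsg.classInner (lin α) (ps β β) = if β = α ∧ β = α then 1 else 0 := by
    rw [← Char.classInner_conj_symm, classInner_ps_lin]
    split_ifs <;> simp
  rw [st, st, Char.classInner_sub_left, Char.classInner_sub_right, Char.classInner_sub_right,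
    classInner_ps_ps, classInner_ps_lin, hrev, classInner_lin]
  by_cases h : α = β
  · subst h; norm_num
  · simp [h, Ne.symm h]

theorem isIrr_st (α : MulChar F ℂ) : Cfsg.IsIrrCharacter G2 (st α) := by
  classical
  refine Char.gen_norm_one_pos (Char.isGen_sub (Char.isGen_of_char (isCharacter_ps α α))
    (Char.isGen_of_irr (isIrr_lin α))) ?_ ?_
  · rw [classInner_st, if_pos rfl]
  · rw [st_one]
    simp [Fintype.card_pos]

theorem isIrr_ps {α β : MulChar F ℂ} (h : α ≠ β) : Cfsg.IsIrrCharacter G2 (ps α β) := by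
  classical
  refine Char.irr_of_norm_one (isCharacter_ps α β) ?_
  rw [classInner_ps_ps]
  simp [h]

theorem ps_eq_iff (α β α' β' : MulChar F ℂ) :
    ps α β = ps α' β' ↔ (α = α' ∧ β = β') ∨ (α = β' ∧ β = α') := by
  classical
  constructor
  · intro h
    by_contra hc
    push Not at hc
    have h2 : Cfsg.classInner (ps α β) (ps α β) = Cfsg.classInner (ps α β) (ps α' β') := by rw [← h]
    rw [classInner_ps_ps, classInner_ps_ps, if_neg (fun e : α = α' ∧ β = β' => hc.1 e.1 e.2),
      if_neg (fun e : α = β' ∧ β = α' => hc.2 e.1 e.2), if_pos ⟨rfl, rfl⟩] at h2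
    split_ifs at h2 <;> norm_num at h2
  · rintro (⟨rfl, rfl⟩ | ⟨rfl, rfl⟩)
    · rfl
    · have h1 := classInner_ps_ps α β β α
      refine sub_eq_zero.1 (Char.eq_zero_of_classInner_self_eq_zero ?_)
      rw [Char.classInner_sub_left, Char.classInner_sub_right, Char.classInner_sub_right,
        classInner_ps_ps, classInner_ps_ps, classInner_ps_ps, classInner_ps_ps]
      by_cases e : α = β
      · subst e; simp
      · simp [e, Ne.symm e]

/-- Orthogonality to all the principal series. -/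
def IsCusp (χ : G2 → ℂ) : Prop := ∀ α β : MulChar F ℂ, Cfsg.classInner χ (ps α β) = 0

theorem irr_cases {χ : G2 → ℂ} (hχ : Cfsg.IsIrrCharacter G2 χ) :
    (∃ α, χ = lin α) ∨ (∃ α, χ = st α) ∨ (∃ α β, α ≠ β ∧ χ = ps α β) ∨ IsCusp χ := by
  classical
  by_contra h
  simp only [not_or, not_exists, not_and] at h
  obtain ⟨h1, h2, h3, h4⟩ := h
  apply h4
  intro α β
  by_cases e : α = β
  · subst e
    rw [show ps α α = st α + lin α by rw [st, sub_add_cancel], Char.classInner_add_right,
      Char.classInner_irr_ne hχ (isIrr_st α) (h2 α), Char.classInner_irr_ne hχ (isIrr_lin α) (h1 α), add_zero]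
  · exact Char.classInner_irr_ne hχ (isIrr_ps e) (h3 α β e)

/-- The upper unitriangular element. -/
def uMat (x : F) : G2 := GeneralLinearGroup.mkOfDetNeZero !![1, x; 0, 1] (by simp [det_fin_two])

theorem sum_mulChar_apply (a : Fˣ) [Fintype (MulChar F ℂ)] :
    ∑ α : MulChar F ℂ, α (a : F) = if a = 1 then ((Fintype.card F : ℂ) - 1) else 0 := by
  split_ifs with h
  · subst h
    simp only [Units.val_one, MulChar.map_one, Finset.sum_const, Finset.card_univ, nsmul_eq_mul, mul_one]
    rw [← Nat.card_eq_fintype_card, MulChar.card_eq_card_units_of_hasEnoughRootsOfUnity F ℂ,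
      Nat.card_eq_fintype_card, Fintype.card_units, Nat.cast_sub Fintype.card_pos, Nat.cast_one]
  · obtain ⟨χ₀, h0⟩ := MulChar.exists_apply_ne_one_of_hasEnoughRootsOfUnity F ℂ
      (show (a : F) ≠ 1 from fun e => h (Units.ext e))
    refine eq_zero_of_mul_eq_self_left h0 ?_
    rw [Finset.mul_sum]
    exact Fintype.sum_equiv (Equiv.mulLeft χ₀) _ _ fun α => (MulChar.mul_apply χ₀ α (a : F)).symm

theorem cusp_sum_unipotent {χ : G2 → ℂ} (hχ : Cfsg.IsClassFunction G2 χ) (hc : IsCusp χ) :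
    ∑ x : F, χ (uMat x) = 0 := by
  classical
  haveI : Fintype (MulChar F ℂ) := Fintype.ofFinite _
  have h : ∀ α β : MulChar F ℂ, ∑ p : (Fˣ × Fˣ) × F,
      α⁻¹ (p.1.1 : F) * β⁻¹ (p.1.2 : F) * χ (borelEquiv p : G2) = 0 := by
    intro α β
    have hfr := Char.frobenius_reciprocity' (Cfsg.upperTriangularGL 2 F)
      (fun b => α (((b : G2) : Matrix (Fin 2) (Fin 2) F) 0 0) * β (((b : G2) : Matrix (Fin 2) (Fin 2) F) 1 1)) hχ
    have h0 : Cfsg.classInner χ (ps α β) = 0 := hc α β
    rw [ps, hfr, Char.classInner_def, ← borelEquiv.sum_comp] at h0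
    simp only [borelEquiv_apply, cons_val', cons_val_zero, cons_val_one, empty_val', cons_val_fin_one,
      of_apply, map_mul, conj_mulChar] at h0
    rw [← (mul_eq_zero.1 h0).resolve_left (inv_ne_zero (Char.card_subgroup_ne_zero _))]
    exact Finset.sum_congr rfl fun p _ => by ring
  have h2 : ∑ p : (Fˣ × Fˣ) × F, (∑ α : MulChar F ℂ, α⁻¹ (p.1.1 : F)) * (∑ β : MulChar F ℂ, β⁻¹ (p.1.2 : F)) *
      χ (borelEquiv p : G2) = 0 := by
    simp only [Finset.sum_mul, Finset.mul_sum]
    rw [Finset.sum_comm]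
    refine Finset.sum_eq_zero fun β _ => ?_
    rw [Finset.sum_comm]
    exact Finset.sum_eq_zero fun α _ => h α β
  have hs : ∀ a : Fˣ, ∑ α : MulChar F ℂ, α⁻¹ (a : F) = if a = 1 then ((Fintype.card F : ℂ) - 1) else 0 := by
    intro a
    rw [← sum_mulChar_apply a]
    exact Fintype.sum_equiv (Equiv.inv _) _ _ fun α => rfl
  simp only [hs, Fintype.sum_prod_type] at h2
  rw [Finset.sum_eq_single (1 : Fˣ) (fun a _ ha => by simp [ha]) (by simp),
    Finset.sum_eq_single (1 : Fˣ) (fun a _ ha => by simp [ha]) (by simp)] at h2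
  simp only [↓reduceIte, ← Finset.mul_sum] at h2
  have h3 : (Fintype.card F : ℂ) - 1 ≠ 0 := by
    rw [sub_ne_zero]
    exact_mod_cast (Fintype.one_lt_card (α := F)).ne'
  rw [← (mul_eq_zero.1 h2).resolve_left (mul_ne_zero h3 h3)]
  refine Finset.sum_congr rfl fun x _ => congrArg χ (Units.ext ?_)
  simp [uMat, borelEquiv_apply]

theorem uMat_isConj {x : F} (hx : x ≠ 0) : IsConj (uMat x) (uMat (1 : F)) := by
  refine gl_isConj _ _ ?_ ?_ (by simp [uMat, trace_fin_two]) (by simp [uMat, det_fin_two]) <;>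
    simp [uMat, nonScalar_iff, hx]

theorem cusp_transvection {χ : G2 → ℂ} (hχ : Cfsg.IsIrrCharacter G2 χ) (hc : IsCusp χ) :
    ∃ n : ℕ, 0 < n ∧ χ 1 = (n : ℂ) * ((Fintype.card F : ℂ) - 1) ∧ χ (uMat 1) = -(n : ℂ) := by
  have h := cusp_sum_unipotent (Char.isClassFunction_of_isIrr hχ) hc
  obtain ⟨d, hd0, hd⟩ := Char.exists_degree_pos hχ
  have hval : ∀ x ∈ Finset.univ.erase (0 : F), χ (uMat x) = χ (uMat 1) := fun x hx =>
    Char.isClassFunction_iff.mp (Char.isClassFunction_of_isIrr hχ) _ _ (uMat_isConj (Finset.mem_erase.1 hx).1)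
  rw [← Finset.add_sum_erase _ _ (Finset.mem_univ (0 : F)), Finset.sum_congr rfl hval, Finset.sum_const,
    Finset.card_erase_of_mem (Finset.mem_univ _), Finset.card_univ, nsmul_eq_mul,
    show uMat (0 : F) = 1 from Units.ext (by simp [uMat, one_fin_two]), hd, Nat.cast_sub Fintype.card_pos,
    Nat.cast_one] at h
  have hq : 1 < Fintype.card F := Fintype.one_lt_card
  have hne : (Fintype.card F : ℂ) - 1 ≠ 0 := by rw [sub_ne_zero]; exact_mod_cast hq.ne'
  have hdvd : Fintype.card F - 1 ∣ d := by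
    refine Char.dvd_of_isIntegral_div (by omega) ?_
    have e : ((d : ℂ) / ((Fintype.card F - 1 : ℕ) : ℂ)) = - χ (uMat 1) := by
      rw [Nat.cast_sub Fintype.card_pos, Nat.cast_one, div_eq_iff hne]
      linear_combination h
    rw [e]
    exact (Char.char_isIntegral (Char.isCharacter_of_isIrr hχ) _).neg
  obtain ⟨n, rfl⟩ := hdvd
  refine ⟨n, pos_of_mul_pos_right hd0 (Nat.zero_le _), ?_, ?_⟩
  · rw [hd, Nat.cast_mul, Nat.cast_sub Fintype.card_pos, Nat.cast_one]; ring
  · rw [Nat.cast_mul, Nat.cast_sub Fintype.card_pos, Nat.cast_one] at h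
    exact mul_left_cancel₀ hne (by linear_combination h)

theorem cusp_split {χ : G2 → ℂ} (hχ : Cfsg.IsClassFunction G2 χ) (hc : IsCusp χ) {g : G2}
    (h01 : (g : Matrix (Fin 2) (Fin 2) F) 0 1 = 0) (h10 : (g : Matrix (Fin 2) (Fin 2) F) 1 0 = 0)
    (hne : (g : Matrix (Fin 2) (Fin 2) F) 0 0 ≠ (g : Matrix (Fin 2) (Fin 2) F) 1 1) : χ g = 0 := by
  classical
  haveI : Fintype (MulChar F ℂ) := Fintype.ofFinite _
  have hg := gl_det_ne_zero g
  rw [det_fin_two, h10, mul_zero, sub_zero] at hg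
  set a := Units.mk0 _ (left_ne_zero_of_mul hg)
  set d := Units.mk0 _ (right_ne_zero_of_mul hg)
  have h : ∀ α β : MulChar F ℂ, ∑ p : (Fˣ × Fˣ) × F,
      α (a : F) * α⁻¹ (p.1.1 : F) * (β (d : F) * β⁻¹ (p.1.2 : F)) * χ (borelEquiv p : G2) = 0 := by
    intro α β
    have hfr := Char.frobenius_reciprocity' (Cfsg.upperTriangularGL 2 F)
      (fun b => α (((b : G2) : Matrix (Fin 2) (Fin 2) F) 0 0) * β (((b : G2) : Matrix (Fin 2) (Fin 2) F) 1 1)) hχ
    have h0 : Cfsg.classInner χ (ps α β) = 0 := hc α β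
    rw [ps, hfr, Char.classInner_def, ← borelEquiv.sum_comp] at h0
    simp only [borelEquiv_apply, cons_val', cons_val_zero, cons_val_one, empty_val', cons_val_fin_one,
      of_apply, map_mul, conj_mulChar] at h0
    rw [← mul_zero (α (a : F) * β (d : F)),
      ← (mul_eq_zero.1 h0).resolve_left (inv_ne_zero (Char.card_subgroup_ne_zero _)), Finset.mul_sum]
    exact Finset.sum_congr rfl fun p _ => by ring
  have h2 : ∑ p : (Fˣ × Fˣ) × F, (∑ α : MulChar F ℂ, α (a : F) * α⁻¹ (p.1.1 : F)) *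
      (∑ β : MulChar F ℂ, β (d : F) * β⁻¹ (p.1.2 : F)) * χ (borelEquiv p : G2) = 0 := by
    simp only [Finset.sum_mul, Finset.mul_sum]
    rw [Finset.sum_comm]
    refine Finset.sum_eq_zero fun β _ => ?_
    rw [Finset.sum_comm]
    exact Finset.sum_eq_zero fun α _ => h α β
  have hs : ∀ w z : Fˣ, ∑ α : MulChar F ℂ, α (w : F) * α⁻¹ (z : F) = if z = w then ((Fintype.card F : ℂ) - 1) else 0 := by
    intro w z
    simp only [MulChar.inv_apply', ← map_mul, ← Units.val_inv_eq_inv_val, ← Units.val_mul, sum_mulChar_apply]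
    exact if_congr (by rw [mul_inv_eq_one, eq_comm]) rfl rfl
  simp only [hs, Fintype.sum_prod_type] at h2
  rw [Finset.sum_eq_single a (fun w _ hw => by simp [hw]) (by simp),
    Finset.sum_eq_single d (fun w _ hw => by simp [hw]) (by simp)] at h2
  simp only [↓reduceIte, ← Finset.mul_sum] at h2
  have h3 : (Fintype.card F : ℂ) - 1 ≠ 0 := by
    rw [sub_ne_zero]
    exact_mod_cast (Fintype.one_lt_card (α := F)).ne'
  have h4 := (mul_eq_zero.1 h2).resolve_left (mul_ne_zero h3 h3)
  have h5 : ∀ x ∈ (Finset.univ : Finset F), χ (borelEquiv ((a, d), x) : G2) = χ g := by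
    intro x _
    refine Char.isClassFunction_iff.mp hχ _ _ (gl_isConj _ _ ?_ ?_ ?_ ?_)
    · rw [nonScalar_iff, borelEquiv_apply]; exact fun e => hne (by simpa [a, d] using e.2.2)
    · rw [nonScalar_iff]; exact fun e => hne e.2.2
    · simp [borelEquiv_apply, trace_fin_two, a, d]
    · simp [borelEquiv_apply, det_fin_two, a, d, h10]
  rw [Finset.sum_congr rfl h5, Finset.sum_const, Finset.card_univ, nsmul_eq_mul] at h4
  exact (mul_eq_zero.1 h4).resolve_left (by exact_mod_cast Fintype.card_ne_zero)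

end CfsgLib.SL2Table
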