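import Mathlib
import Cfsg.Prelude
import Cfsg.Agent.Lib.SL2Table.GL2Table

/-!
Completeness of the character table of `GL(2, F)`.
-/

namespace CfsgLib.SL2Table

open Matrix

variable {F : Type*} [Field F] [Fintype F] [DecidableEq F]

local notation "G2" => GL (Fin 2) F

theorem card_gl_two : Nat.card G2 = (Fintype.card F ^ 2 - 1) * (Fintype.card F ^ 2 - Fintype.card F) := by
  rw [Matrix.card_GL_field, Fin.prod_univ_two]
  simp

theorem card_mulChar : Nat.card (MulChar F ℂ) = Fintype.card F - 1 := by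
  rw [MulChar.card_eq_card_units_of_hasEnoughRootsOfUnity F ℂ, Nat.card_eq_fintype_card, Fintype.card_units]

theorem isCusp_ne_families {χ : G2 → ℂ} (hc : IsCusp χ) :
    (∀ α, χ ≠ lin α) ∧ (∀ α, χ ≠ st α) ∧ ∀ α β, α ≠ β → χ ≠ ps α β := by
  classical
  have hrev : ∀ α : MulChar F ℂ, Cfsg.classInner (lin α : G2 → ℂ) (ps α α) = 1 := fun α => by
    rw [← Char.classInner_conj_symm, classInner_ps_lin, if_pos ⟨rfl, rfl⟩, map_one]
  refine ⟨fun α e => ?_, fun α e => ?_, fun α β h e => ?_⟩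
  · have := hc α α
    rw [e, hrev] at this
    exact one_ne_zero this
  · have := hc α α
    rw [e, st, Char.classInner_sub_left, classInner_ps_ps, hrev] at this
    norm_num at this
  · have := hc α β
    rw [e, classInner_ps_ps] at this
    simp [h] at this

theorem st_injective : Function.Injective (st (F := F)) := by
  classical
  intro α β h
  by_contra hne
  have h2 := classInner_st α β
  rw [← h, classInner_st, if_pos rfl, if_neg hne] at h2
  exact one_ne_zero h2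

theorem lin_ne_st (α β : MulChar F ℂ) : lin α ≠ (st β : G2 → ℂ) := by
  intro h
  have := congrFun h 1
  rw [lin_one, st_one] at this
  exact (Fintype.one_lt_card (α := F)).ne (by exact_mod_cast this)

theorem one_lt_card_cast : (Fintype.card F : ℂ) - 1 ≠ 0 ∧ (Fintype.card F : ℂ) + 1 ≠ Fintype.card F := by
  constructor
  · rw [sub_ne_zero]
    exact_mod_cast (Fintype.one_lt_card (α := F)).ne'
  · simp

/-- The number and the degrees of the cuspidal characters. -/
theorem cusp_count :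
    Nat.card {χ : Cfsg.IrrCharacter G2 // IsCusp (χ : G2 → ℂ)} = Fintype.card F * (Fintype.card F - 1) / 2 ∧
    Nat.card {χ : Cfsg.IrrCharacter G2 // ∃ α β, α ≠ β ∧ (χ : G2 → ℂ) = ps α β} =
      (Fintype.card F - 1) * (Fintype.card F - 2) / 2 ∧
    ∀ χ : Cfsg.IrrCharacter G2, IsCusp (χ : G2 → ℂ) → (χ : G2 → ℂ) 1 = (Fintype.card F : ℂ) - 1 := by
  classical
  haveI : Fintype (MulChar F ℂ) := Fintype.ofFinite _
  set q := Fintype.card F with hq
  have hq2 : 2 ≤ q := Fintype.one_lt_card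
  set C : Finset (Cfsg.IrrCharacter G2) := Finset.univ.filter fun χ => IsCusp (χ : G2 → ℂ) with hC
  let L : MulChar F ℂ → Cfsg.IrrCharacter G2 := fun α => ⟨lin α, isIrr_lin α⟩
  let T : MulChar F ℂ → Cfsg.IrrCharacter G2 := fun α => ⟨st α, isIrr_st α⟩
  set O : Finset (MulChar F ℂ × MulChar F ℂ) := Finset.univ.offDiag with hO
  let R : (MulChar F ℂ × MulChar F ℂ) → Cfsg.IrrCharacter G2 := fun p =>
    if h : p.1 ≠ p.2 then ⟨ps p.1 p.2, isIrr_ps h⟩ else L 1
  have hR : ∀ p ∈ O, (R p : G2 → ℂ) = ps p.1 p.2 := fun p hp => by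
    have h : p.1 ≠ p.2 := (Finset.mem_offDiag.1 hp).2.2
    simp only [R, dif_pos h]
  set P := O.image R with hP
  have hfib : ∀ χ ∈ P, (O.filter fun p => R p = χ).card = 2 := by
    intro χ hχ
    obtain ⟨⟨a, b⟩, hp, rfl⟩ := Finset.mem_image.1 hχ
    have hne : a ≠ b := (Finset.mem_offDiag.1 hp).2.2
    rw [show (O.filter fun p => R p = R (a, b)) = {(a, b), (b, a)} from ?_, Finset.card_pair]
    · simp [hne]
    · ext ⟨c, d⟩
      simp only [Finset.mem_filter, Finset.mem_insert, Finset.mem_singleton, Prod.mk.injEq]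
      constructor
      · rintro ⟨h1, h2⟩
        have h3 : ps c d = ps a b := by rw [← hR _ h1, h2, hR _ hp]
        exact (ps_eq_iff c d a b).1 h3
      · intro h
        have h1 : (c, d) ∈ O := by
          rcases h with ⟨rfl, rfl⟩ | ⟨rfl, rfl⟩
          · exact hp
          · simp [hO, Finset.mem_offDiag, Ne.symm hne]
        refine ⟨h1, Subtype.ext ?_⟩
        rw [hR _ h1, hR _ hp]
        exact (ps_eq_iff c d a b).2 h
  have hcardO : O.card = (q - 1) * (q - 2) := by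
    rw [hO, Finset.offDiag_card, Finset.card_univ, ← Nat.card_eq_fintype_card, card_mulChar, ← hq]
    obtain ⟨k, hk⟩ : ∃ k, q = k + 2 := ⟨q - 2, by omega⟩
    rw [hk, Nat.add_sub_cancel, show k + 2 - 1 = k + 1 by omega]
    rw [Nat.sub_eq_iff_eq_add (Nat.le_mul_self _)]
    ring
  have hP2 : 2 * P.card = (q - 1) * (q - 2) := by
    rw [← hcardO, Finset.card_eq_sum_card_image R O, Finset.sum_congr rfl hfib, Finset.sum_const, smul_eq_mul,
      mul_comm]
  set A := Finset.univ.image L with hA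
  set B := Finset.univ.image T with hB
  have hAc : A.card = q - 1 := by
    rw [hA, Finset.card_image_of_injective _ (fun a b h => lin_injective (congrArg Subtype.val h)),
      Finset.card_univ, ← Nat.card_eq_fintype_card, card_mulChar]
  have hBc : B.card = q - 1 := by
    rw [hB, Finset.card_image_of_injective _ (fun a b h => st_injective (congrArg Subtype.val h)),
      Finset.card_univ, ← Nat.card_eq_fintype_card, card_mulChar]
  have hPmem : ∀ χ, χ ∈ P ↔ ∃ α β, α ≠ β ∧ (χ : G2 → ℂ) = ps α β := by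
    intro χ
    constructor
    · intro h
      obtain ⟨p, hp, rfl⟩ := Finset.mem_image.1 h
      exact ⟨p.1, p.2, (Finset.mem_offDiag.1 hp).2.2, hR p hp⟩
    · rintro ⟨α, β, h, e⟩
      have hp : (α, β) ∈ O := by simp [hO, Finset.mem_offDiag, h]
      exact Finset.mem_image.2 ⟨(α, β), hp, Subtype.ext (by rw [hR _ hp, e])⟩
  have hPd : ∀ χ ∈ P, (χ : G2 → ℂ) 1 = (q : ℂ) + 1 := fun χ h => by
    obtain ⟨α, β, -, e⟩ := (hPmem χ).1 h
    rw [e, ps_one]
  have hAd : ∀ χ ∈ A, (χ : G2 → ℂ) 1 = 1 := fun χ h => by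
    obtain ⟨α, -, rfl⟩ := Finset.mem_image.1 h; exact lin_one α
  have hBd : ∀ χ ∈ B, (χ : G2 → ℂ) 1 = (q : ℂ) := fun χ h => by
    obtain ⟨α, -, rfl⟩ := Finset.mem_image.1 h; exact st_one α
  have hq1 : (q : ℂ) + 1 ≠ 1 := by simp; omega
  have hd1 : Disjoint A B := Finset.disjoint_left.2 fun χ h1 h2 => by
    have e := (hAd χ h1).symm.trans (hBd χ h2)
    have : (1 : ℕ) = q := by exact_mod_cast e
    omega
  have hd2 : Disjoint (A ∪ B) P := Finset.disjoint_left.2 fun χ h1 h2 => by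
    rcases Finset.mem_union.1 h1 with h | h
    · exact hq1 ((hPd χ h2).symm.trans (hAd χ h))
    · exact one_lt_card_cast.2 ((hPd χ h2).symm.trans (hBd χ h))
  have hd3 : Disjoint (A ∪ B ∪ P) C := Finset.disjoint_left.2 fun χ h1 h2 => by
    obtain ⟨e1, e2, e3⟩ := isCusp_ne_families (Finset.mem_filter.1 h2).2
    rcases Finset.mem_union.1 h1 with h | h
    · rcases Finset.mem_union.1 h with h | h
      · obtain ⟨α, -, rfl⟩ := Finset.mem_image.1 h; exact e1 α rfl
      · obtain ⟨α, -, rfl⟩ := Finset.mem_image.1 h; exact e2 α rfl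
    · obtain ⟨α, β, hne, e⟩ := (hPmem χ).1 h; exact e3 α β hne e
  have huniv : (Finset.univ : Finset (Cfsg.IrrCharacter G2)) = A ∪ B ∪ P ∪ C := by
    refine (Finset.eq_univ_iff_forall.2 fun χ => ?_).symm
    rcases irr_cases χ.2 with ⟨α, h⟩ | ⟨α, h⟩ | h | h
    · exact Finset.mem_union_left _ (Finset.mem_union_left _ (Finset.mem_union_left _
        (Finset.mem_image.2 ⟨α, Finset.mem_univ _, Subtype.ext h.symm⟩)))
    · exact Finset.mem_union_left _ (Finset.mem_union_left _ (Finset.mem_union_right _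
        (Finset.mem_image.2 ⟨α, Finset.mem_univ _, Subtype.ext h.symm⟩)))
    · exact Finset.mem_union_left _ (Finset.mem_union_right _ ((hPmem χ).2 h))
    · exact Finset.mem_union_right _ (Finset.mem_filter.2 ⟨Finset.mem_univ _, h⟩)
  have hCc : 2 * C.card = q * (q - 1) := by
    have h := congrArg Finset.card huniv
    rw [Finset.card_union_of_disjoint hd3, Finset.card_union_of_disjoint hd2, Finset.card_union_of_disjoint hd1,
      hAc, hBc, Finset.card_univ, ← Nat.card_eq_fintype_card, Char.card_irr_eq_card_conjClasses,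
      card_conjClasses_gl, ← hq] at h
    obtain ⟨k, hk⟩ : ∃ k, q = k + 2 := ⟨q - 2, by omega⟩
    rw [hk] at h hP2 ⊢
    rw [Nat.add_sub_cancel, show k + 2 - 1 = k + 1 by omega] at hP2
    rw [show (k + 2) ^ 2 - 1 = k * k + 4 * k + 3 by
      rw [show (k + 2) ^ 2 = k * k + 4 * k + 3 + 1 by ring]; omega, show k + 2 - 1 = k + 1 by omega] at h
    rw [show k + 2 - 1 = k + 1 by omega]
    rw [show (k + 1) * k = k * k + k by ring] at hP2
    rw [show (k + 2) * (k + 1) = k * k + 3 * k + 2 by ring]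
    omega
  choose n hn0 hn hnu using fun (χ : Cfsg.IrrCharacter G2) (h : IsCusp (χ : G2 → ℂ)) => cusp_transvection χ.2 h
  let m : Cfsg.IrrCharacter G2 → ℕ := fun χ => if h : IsCusp (χ : G2 → ℂ) then n χ h else 1
  have hm : ∀ χ ∈ C, (χ : G2 → ℂ) 1 = (m χ : ℂ) * ((q : ℂ) - 1) ∧ 1 ≤ m χ := fun χ h => by
    have h' := (Finset.mem_filter.1 h).2
    simp only [m, dif_pos h']
    exact ⟨hn χ h', hn0 χ h'⟩
  have hsum : ∑ χ ∈ C, (m χ) ^ 2 = C.card := by
    have h := Char.sum_degree_sq (G := G2)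
    rw [huniv, Finset.sum_union hd3, Finset.sum_union hd2, Finset.sum_union hd1,
      Finset.sum_congr (rfl : A = A) (fun χ hχ => by rw [hAd χ hχ]), Finset.sum_congr (rfl : B = B) (fun χ hχ => by rw [hBd χ hχ]),
      Finset.sum_congr (rfl : P = P) (fun χ hχ => by rw [hPd χ hχ]),
      Finset.sum_congr (rfl : C = C) (fun χ hχ => by rw [(hm χ hχ).1, mul_pow]), ← Finset.sum_mul, card_gl_two,
      ← hq] at h
    simp only [Finset.sum_const, nsmul_eq_mul, hAc, hBc] at h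
    have hP2' : 2 * (P.card : ℂ) = ((q : ℂ) - 1) * ((q : ℂ) - 2) := by
      have e : ((2 * P.card : ℕ) : ℂ) = (((q - 1) * (q - 2) : ℕ) : ℂ) := by rw [hP2]
      rw [Nat.cast_mul, Nat.cast_mul, Nat.cast_sub (by omega), Nat.cast_sub hq2] at e
      simpa using e
    have hCc' : 2 * (C.card : ℂ) = (q : ℂ) * ((q : ℂ) - 1) := by
      have e : ((2 * C.card : ℕ) : ℂ) = ((q * (q - 1) : ℕ) : ℂ) := by rw [hCc]
      rw [Nat.cast_mul, Nat.cast_mul, Nat.cast_sub (by omega : 1 ≤ q)] at e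
      simpa using e
    rw [Nat.cast_mul, Nat.cast_sub (Nat.one_le_pow _ _ (by omega)), Nat.cast_sub (Nat.le_self_pow (by norm_num) _),
      Nat.cast_sub (by omega : 1 ≤ q)] at h
    push_cast at h
    have hne : (2 : ℂ) * ((q : ℂ) - 1) ^ 2 ≠ 0 := by
      refine mul_ne_zero two_ne_zero (pow_ne_zero _ ?_)
      rw [sub_ne_zero]; exact_mod_cast (by omega : q ≠ 1)
    have e : (2 : ℂ) * ((q : ℂ) - 1) ^ 2 * ((∑ χ ∈ C, (m χ) ^ 2 : ℕ) : ℂ) = 2 * ((q : ℂ) - 1) ^ 2 * (C.card : ℂ) := by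
      push_cast
      linear_combination 2 * h - ((q : ℂ) + 1) ^ 2 * hP2' - ((q : ℂ) - 1) ^ 2 * hCc'
    exact_mod_cast mul_left_cancel₀ hne e
  have hall : ∀ χ ∈ C, m χ = 1 := by
    intro χ hχ
    by_contra hne
    have hlt : ∑ _χ ∈ C, 1 < ∑ χ ∈ C, (m χ) ^ 2 := Finset.sum_lt_sum (fun ψ hψ => Nat.one_le_pow _ _ (hm ψ hψ).2)
      ⟨χ, hχ, Nat.one_lt_pow two_ne_zero (by have := (hm χ hχ).2; omega)⟩
    rw [hsum, Finset.sum_const, smul_eq_mul, mul_one] at hlt
    exact lt_irrefl _ hlt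
  refine ⟨?_, ?_, fun χ h => ?_⟩
  · rw [Nat.card_eq_fintype_card, Fintype.card_subtype]
    change C.card = _
    omega
  · rw [Nat.card_eq_fintype_card, Fintype.card_subtype, show (Finset.univ.filter fun χ : Cfsg.IrrCharacter G2 => ∃ α β, α ≠ β ∧ (χ : G2 → ℂ) = ps α β) = P from Finset.ext fun χ => by simp [hPmem]]
    omega
  · have hC' : χ ∈ C := Finset.mem_filter.2 ⟨Finset.mem_univ _, h⟩
    rw [(hm χ hC').1, hall χ hC', Nat.cast_one, one_mul]

theorem degree_cases {χ : G2 → ℂ} (hχ : Cfsg.IsIrrCharacter G2 χ) :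
    (χ 1 = 1 ∧ ∃ α, χ = lin α) ∨ (χ 1 = (Fintype.card F : ℂ) ∧ ∃ α, χ = st α) ∨
      (χ 1 = (Fintype.card F : ℂ) + 1 ∧ ∃ α β, α ≠ β ∧ χ = ps α β) ∨
        (χ 1 = (Fintype.card F : ℂ) - 1 ∧ IsCusp χ) := by
  rcases irr_cases hχ with ⟨α, h⟩ | ⟨α, h⟩ | ⟨α, β, hne, h⟩ | h
  · exact Or.inl ⟨by rw [h, lin_one], α, h⟩
  · exact Or.inr (Or.inl ⟨by rw [h, st_one], α, h⟩)
  · exact Or.inr (Or.inr (Or.inl ⟨by rw [h, ps_one], α, β, hne, h⟩))
  · exact Or.inr (Or.inr (Or.inr ⟨cusp_count.2.2 ⟨χ, hχ⟩ h, h⟩))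

omit [DecidableEq F] in
theorem card_ne_one_cast : (Fintype.card F : ℂ) ≠ 1 ∧ (Fintype.card F : ℂ) + 1 ≠ 1 ∧
    (Fintype.card F : ℂ) + 1 ≠ Fintype.card F ∧ (Fintype.card F : ℂ) + 1 ≠ (Fintype.card F : ℂ) - 1 ∧
    (Fintype.card F : ℂ) ≠ (Fintype.card F : ℂ) - 1 := by
  refine ⟨?_, ?_, ?_, ?_, ?_⟩
  · exact_mod_cast (Fintype.one_lt_card (α := F)).ne'
  · simp
  · simp
  · intro h; have : (2 : ℂ) = 0 := by linear_combination h
    norm_num at this
  · intro h; have : (1 : ℂ) = 0 := by linear_combination h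
    norm_num at this

theorem eq_st_of_degree {χ : G2 → ℂ} (hχ : Cfsg.IsIrrCharacter G2 χ) (hd : χ 1 = (Fintype.card F : ℂ)) :
    ∃ α, χ = st α := by
  obtain ⟨h1, h2, h3, h4, h5⟩ := card_ne_one_cast (F := F)
  rcases degree_cases hχ with ⟨e, _⟩ | ⟨_, h⟩ | ⟨e, _⟩ | ⟨e, _⟩
  · exact absurd (hd.symm.trans e) h1
  · exact h
  · exact absurd (e.symm.trans hd) h3
  · exact absurd (hd.symm.trans e) h5

theorem eq_ps_of_degree {χ : G2 → ℂ} (hχ : Cfsg.IsIrrCharacter G2 χ) (hd : χ 1 = (Fintype.card F : ℂ) + 1) :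
    ∃ α β, α ≠ β ∧ χ = ps α β := by
  obtain ⟨h1, h2, h3, h4, h5⟩ := card_ne_one_cast (F := F)
  rcases degree_cases hχ with ⟨e, _⟩ | ⟨e, _⟩ | ⟨_, h⟩ | ⟨e, _⟩
  · exact absurd (hd.symm.trans e) h2
  · exact absurd (hd.symm.trans e) h3
  · exact h
  · exact absurd (hd.symm.trans e) h4

end CfsgLib.SL2Table
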