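import Mathlib
import Cfsg.Prelude
import Cfsg.Agent.Lib.SL2Table.GL2Degrees
import Cfsg.Agent.Lib.Char.PermChar

/-!
Consequences of the character table of `GL(2, F)`.
-/

namespace CfsgLib.SL2Table

open Matrix
open scoped ComplexConjugate

variable {F : Type*} [Field F] [Fintype F] [DecidableEq F]

local notation "G2" => GL (Fin 2) F

theorem gl_degree_summary :
    (∀ χ : G2 → ℂ, Cfsg.IsIrrCharacter G2 χ →
      χ 1 = 1 ∨ χ 1 = (Fintype.card F : ℂ) - 1 ∨ χ 1 = (Fintype.card F : ℂ) ∨ χ 1 = (Fintype.card F : ℂ) + 1) ∧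
    (3 ≤ Fintype.card F →
      Nat.card {χ : Cfsg.IrrCharacter G2 // (χ : G2 → ℂ) 1 = 1} = Fintype.card F - 1 ∧
      Nat.card {χ : Cfsg.IrrCharacter G2 // (χ : G2 → ℂ) 1 = (Fintype.card F : ℂ)} = Fintype.card F - 1 ∧
      Nat.card {χ : Cfsg.IrrCharacter G2 // (χ : G2 → ℂ) 1 = (Fintype.card F : ℂ) + 1} = (Fintype.card F - 1) * (Fintype.card F - 2) / 2 ∧
      Nat.card {χ : Cfsg.IrrCharacter G2 // (χ : G2 → ℂ) 1 = (Fintype.card F : ℂ) - 1} = Fintype.card F * (Fintype.card F - 1) / 2) := by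
  refine ⟨fun χ hχ => ?_, fun h3 => ?_⟩
  · rcases degree_cases hχ with ⟨e, _⟩ | ⟨e, _⟩ | ⟨e, _⟩ | ⟨e, _⟩
    · exact Or.inl e
    · exact Or.inr (Or.inr (Or.inl e))
    · exact Or.inr (Or.inr (Or.inr e))
    · exact Or.inr (Or.inl e)
  obtain ⟨n1, n2, n3, n4, n5⟩ := card_ne_one_cast (F := F)
  have n6 : (Fintype.card F : ℂ) - 1 ≠ 1 := by
    intro h
    have : (Fintype.card F : ℂ) = (2 : ℕ) := by push_cast; linear_combination h
    have := Nat.cast_injective this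
    omega
  refine ⟨?_, ?_, ?_, ?_⟩
  · rw [← card_mulChar]
    refine (Nat.card_congr (Equiv.ofBijective (fun α => (⟨⟨lin α, isIrr_lin α⟩, lin_one α⟩ :
      {χ : Cfsg.IrrCharacter G2 // (χ : G2 → ℂ) 1 = 1})) ⟨fun a b h => ?_, fun χ => ?_⟩)).symm
    · exact lin_injective (congrArg (fun x => (x.1 : G2 → ℂ)) h)
    · obtain ⟨χ, hd⟩ := χ
      rcases degree_cases χ.2 with ⟨_, α, e⟩ | ⟨e, _⟩ | ⟨e, _⟩ | ⟨e, _⟩
      · exact ⟨α, Subtype.ext (Subtype.ext e.symm)⟩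
      · exact absurd (e.symm.trans hd) n1
      · exact absurd (e.symm.trans hd) n2
      · exact absurd (e.symm.trans hd) n6
  · rw [← card_mulChar]
    refine (Nat.card_congr (Equiv.ofBijective (fun α => (⟨⟨st α, isIrr_st α⟩, st_one α⟩ :
      {χ : Cfsg.IrrCharacter G2 // (χ : G2 → ℂ) 1 = (Fintype.card F : ℂ)})) ⟨fun a b h => ?_, fun χ => ?_⟩)).symm
    · exact st_injective (congrArg (fun x => (x.1 : G2 → ℂ)) h)
    · obtain ⟨χ, hd⟩ := χ
      obtain ⟨α, e⟩ := eq_st_of_degree χ.2 hd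
      exact ⟨α, Subtype.ext (Subtype.ext e.symm)⟩
  · rw [← cusp_count.2.1]
    refine Nat.card_congr (Equiv.subtypeEquivRight fun χ => ⟨fun h => eq_ps_of_degree χ.2 h, ?_⟩)
    rintro ⟨α, β, -, e⟩
    rw [e, ps_one]
  · rw [← cusp_count.1]
    refine Nat.card_congr (Equiv.subtypeEquivRight fun χ => ⟨fun h => ?_, cusp_count.2.2 χ⟩)
    rcases degree_cases χ.2 with ⟨e, _⟩ | ⟨e, _⟩ | ⟨e, _⟩ | ⟨_, hc⟩
    · exact absurd (h.symm.trans e) n6
    · exact absurd (e.symm.trans h) n5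
    · exact absurd (e.symm.trans h) n4
    · exact hc

theorem norm_mulChar_units (α : MulChar F ℂ) {a : F} (ha : a ≠ 0) : ‖α a‖ = 1 := by
  have h : conj (α a) * α a = 1 := by
    rw [conj_mulChar, ← MulChar.mul_apply, inv_mul_cancel, MulChar.one_apply ha.isUnit]
  have h2 := congrArg (‖·‖) h
  simp [Complex.norm_conj] at h2
  nlinarith [norm_nonneg (α a)]

theorem gl_zeros {χ : G2 → ℂ} (hχ : Cfsg.IsIrrCharacter G2 χ) (g : G2) :
    (χ 1 = (Fintype.card F : ℂ) - 1 → (g : Matrix (Fin 2) (Fin 2) F) 0 1 = 0 → (g : Matrix (Fin 2) (Fin 2) F) 1 0 = 0 → (g : Matrix (Fin 2) (Fin 2) F) 0 0 ≠ (g : Matrix (Fin 2) (Fin 2) F) 1 1 → χ g = 0) ∧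
    (χ 1 = (Fintype.card F : ℂ) + 1 → (∀ (c : F) (v : Fin 2 → F), v ≠ 0 → (g : Matrix (Fin 2) (Fin 2) F).mulVec v ≠ c • v) → χ g = 0) := by
  obtain ⟨n1, n2, n3, n4, n5⟩ := card_ne_one_cast (F := F)
  refine ⟨fun hd h01 h10 hne => ?_, fun hd hell => ?_⟩
  · rcases degree_cases hχ with ⟨e, _⟩ | ⟨e, _⟩ | ⟨e, _⟩ | ⟨_, hc⟩
    · exfalso
      have h2 : (Fintype.card F : ℂ) = (2 : ℕ) := by push_cast; linear_combination hd.symm.trans e
      have hcard : Fintype.card F = 2 := Nat.cast_injective h2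
      have hdet := gl_det_ne_zero g
      rw [det_fin_two, h10, mul_zero, sub_zero] at hdet
      have hu : Fintype.card Fˣ = 1 := by rw [Fintype.card_units, hcard]
      exact hne (congrArg Units.val (Fintype.card_le_one_iff.1 hu.le
        (Units.mk0 _ (left_ne_zero_of_mul hdet)) (Units.mk0 _ (right_ne_zero_of_mul hdet))))
    · exact absurd (e.symm.trans hd) n5
    · exact absurd (e.symm.trans hd) n4
    · exact cusp_split (Char.isClassFunction_of_isIrr hχ) hc h01 h10 hne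
  · obtain ⟨α, β, -, rfl⟩ := eq_ps_of_degree hχ hd
    exact ps_elliptic α β hell

theorem gl_transvection_values (hq : 3 ≤ Fintype.card F) {χ : G2 → ℂ} (hχ : Cfsg.IsIrrCharacter G2 χ)
    (u : G2) (hu : (u : Matrix (Fin 2) (Fin 2) F) = !![1, 1; 0, 1]) :
    (χ 1 = 1 → χ u = 1) ∧ (χ 1 = (Fintype.card F : ℂ) + 1 → χ u = 1) ∧
    (χ 1 = (Fintype.card F : ℂ) - 1 → χ u = -1) ∧ (χ 1 = (Fintype.card F : ℂ) → χ u = 0) := by
  obtain ⟨n1, n2, n3, n4, n5⟩ := card_ne_one_cast (F := F)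
  have n6 : (Fintype.card F : ℂ) - 1 ≠ 1 := by
    intro h
    have : (Fintype.card F : ℂ) = (2 : ℕ) := by push_cast; linear_combination h
    have := Nat.cast_injective this
    omega
  have hps : ∀ α β : MulChar F ℂ, ps α β u = 1 := fun α β => by
    rw [ps_transvection α β (by simp [hu]) (by simp [hu]) (by simp [hu]), hu]; simp
  have hlin : ∀ α : MulChar F ℂ, lin α u = 1 := fun α => by simp [lin, hu, det_fin_two]
  rcases degree_cases hχ with ⟨e, α, rfl⟩ | ⟨e, α, rfl⟩ | ⟨e, α, β, -, rfl⟩ | ⟨e, hc⟩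
  · exact ⟨fun _ => hlin α, fun h => absurd (h.symm.trans e) n2, fun h => absurd (h.symm.trans e) n6,
      fun h => absurd (h.symm.trans e) n1⟩
  · exact ⟨fun h => absurd (e.symm.trans h) n1, fun h => absurd (h.symm.trans e) n3,
      fun h => absurd (e.symm.trans h) n5, fun _ => by simp [st, hps, hlin]⟩
  · exact ⟨fun h => absurd (e.symm.trans h) n2, fun _ => hps α β, fun h => absurd (e.symm.trans h) n4,
      fun h => absurd (e.symm.trans h) n3⟩
  · refine ⟨fun h => absurd (e.symm.trans h) n6, fun h => absurd (h.symm.trans e) n4, fun _ => ?_,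
      fun h => absurd (h.symm.trans e) n5⟩
    obtain ⟨n, -, hn, hnu⟩ := cusp_transvection hχ hc
    have hne : (Fintype.card F : ℂ) - 1 ≠ 0 := one_lt_card_cast.1
    have h1 : (n : ℂ) = 1 := mul_right_cancel₀ hne (by rw [← hn, e, one_mul])
    rw [show u = uMat 1 from Units.ext (by simp [uMat, hu]), hnu, h1]

theorem gl_degree_q_values {χ : G2 → ℂ} (hχ : Cfsg.IsIrrCharacter G2 χ) (hdeg : χ 1 = (Fintype.card F : ℂ))
    (g : G2) :
    ((g : Matrix (Fin 2) (Fin 2) F) 0 1 = 0 → (g : Matrix (Fin 2) (Fin 2) F) 1 0 = 0 → (g : Matrix (Fin 2) (Fin 2) F) 0 0 ≠ (g : Matrix (Fin 2) (Fin 2) F) 1 1 → ‖χ g‖ = 1) ∧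
    ((∀ (c : F) (v : Fin 2 → F), v ≠ 0 → (g : Matrix (Fin 2) (Fin 2) F).mulVec v ≠ c • v) → ‖χ g‖ = 1) := by
  obtain ⟨α, rfl⟩ := eq_st_of_degree hχ hdeg
  have hn : ‖lin α g‖ = 1 := norm_mulChar_units α (gl_det_ne_zero g)
  refine ⟨fun h01 h10 hne => ?_, fun hell => ?_⟩
  · have e : st α g = lin α g := by
      have : (g : Matrix (Fin 2) (Fin 2) F).det = (g : Matrix (Fin 2) (Fin 2) F) 0 0 * (g : Matrix (Fin 2) (Fin 2) F) 1 1 := by
        rw [det_fin_two, h10, mul_zero, sub_zero]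
      simp [st, ps_split α α h01 h10 hne, lin, this]
      ring
    rw [e, hn]
  · simp [st, ps_elliptic α α hell, hn]

theorem fixedPointCharacter_borel (g : G2) :
    Cfsg.fixedPointCharacter (Cfsg.upperTriangularGL 2 F) g = ps 1 1 g := by
  have h := congrFun (Char.permChar_eq_indFun (G := G2) (X := G2 ⧸ Cfsg.upperTriangularGL 2 F)
    (QuotientGroup.mk 1)) g
  rw [MulAction.stabilizer_quotient] at h
  refine h.trans (congrFun (congrArg (Cfsg.indFun (Cfsg.upperTriangularGL 2 F)) ?_) g)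
  funext b
  obtain ⟨h1, h2⟩ := (glLine (F := F)).borel_diag_ne_zero b.2
  simp only [glLine_mat] at h1 h2
  rw [MulChar.one_apply (isUnit_iff_ne_zero.2 h1), MulChar.one_apply (isUnit_iff_ne_zero.2 h2), mul_one]

theorem invariant_lines_count (g : G2) :
    ((∃ a : F, (g : Matrix (Fin 2) (Fin 2) F) = a • (1 : Matrix (Fin 2) (Fin 2) F)) → Cfsg.fixedPointCharacter (Cfsg.upperTriangularGL 2 F) g = Fintype.card F + 1) ∧
    ((g : Matrix (Fin 2) (Fin 2) F) 0 1 = 0 → (g : Matrix (Fin 2) (Fin 2) F) 1 0 = 0 → (g : Matrix (Fin 2) (Fin 2) F) 0 0 ≠ (g : Matrix (Fin 2) (Fin 2) F) 1 1 →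
      Cfsg.fixedPointCharacter (Cfsg.upperTriangularGL 2 F) g = 2) ∧
    ((∀ (c : F) (v : Fin 2 → F), v ≠ 0 → (g : Matrix (Fin 2) (Fin 2) F).mulVec v ≠ c • v) → Cfsg.fixedPointCharacter (Cfsg.upperTriangularGL 2 F) g = 0) ∧
    ((g : Matrix (Fin 2) (Fin 2) F) 1 0 = 0 → (g : Matrix (Fin 2) (Fin 2) F) 0 0 = (g : Matrix (Fin 2) (Fin 2) F) 1 1 → (g : Matrix (Fin 2) (Fin 2) F) 0 1 ≠ 0 →
      Cfsg.fixedPointCharacter (Cfsg.upperTriangularGL 2 F) g = 1) := by
  rw [fixedPointCharacter_borel]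
  have hd := gl_det_ne_zero g
  refine ⟨?_, fun h01 h10 hne => ?_, fun h => ps_elliptic 1 1 h, fun h10 heq h01 => ?_⟩
  · rintro ⟨a, ha⟩
    have ha0 : a ≠ 0 := by rintro rfl; apply hd; simp [ha]
    rw [ps_scalar 1 1 ha, MulChar.one_apply ha0.isUnit, mul_one, mul_one]
  · rw [det_fin_two, h10, mul_zero, sub_zero] at hd
    rw [ps_split 1 1 h01 h10 hne, MulChar.one_apply (left_ne_zero_of_mul hd).isUnit,
      MulChar.one_apply (right_ne_zero_of_mul hd).isUnit]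
    norm_num
  · rw [det_fin_two, h10, mul_zero, sub_zero] at hd
    rw [ps_transvection 1 1 h10 heq h01, MulChar.one_apply (left_ne_zero_of_mul hd).isUnit,
      MulChar.one_apply (right_ne_zero_of_mul hd).isUnit, mul_one]

end CfsgLib.SL2Table
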