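import Mathlib
import Cfsg.Agent.Lib.SL2Table.Classes
import Cfsg.Agent.Lib.SL2Table.PSLProducts
import Cfsg.Agent.Lib.Classical.SL2Semisimple

/-!
Squares of semisimple classes of `PSL(2, F)` cover all non-identity elements.
-/

namespace CfsgLib.SL2Table

open Matrix

variable {F : Type*} [Field F]

local notation "S" => Matrix.SpecialLinearGroup (Fin 2) F

theorem toP_neg (G : S) : toP (-G) = toP G := by
  have h : toP (-1 : S) = 1 := (toP_eq_one_iff _).2 ((central_iff _).2 ⟨-1, by ring, by simp⟩)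
  rw [← neg_one_mul G, map_mul, h, one_mul]

theorem trace_scalar_sq {X : S} (h : ¬ NonScalar (X : Matrix (Fin 2) (Fin 2) F)) :
    (X : Matrix (Fin 2) (Fin 2) F).trace * (X : Matrix (Fin 2) (Fin 2) F).trace = 4 := by
  obtain ⟨a, ha⟩ := not_not.1 h
  have h1 := X.2
  rw [ha, det_fin_two] at h1
  simp at h1
  rw [ha, trace_fin_two]
  simp
  linear_combination 4 * h1

theorem trace_sq_ne_four {p : ℕ} [hp : Fact p.Prime] [CharP F p] (h2 : (2 : F) ≠ 0) {X : S}
    (h1 : 1 < orderOf (toP X)) (h : ¬ p ∣ orderOf (toP X)) :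
    (X : Matrix (Fin 2) (Fin 2) F).trace * (X : Matrix (Fin 2) (Fin 2) F).trace ≠ 4 := by
  intro e
  set b := (X : Matrix (Fin 2) (Fin 2) F).trace with hb
  set r := b / 2 with hr
  have hbr : b = 2 * r := by rw [hr]; field_simp
  have hr1 : r * r = 1 := by
    rw [hr]; field_simp; linear_combination e
  set N := (X : Matrix (Fin 2) (Fin 2) F) - r • (1 : Matrix (Fin 2) (Fin 2) F) with hN
  have hN2 : N * N = 0 := by
    have hXX := Spectrum.sl2_mul_self X
    rw [← hb, hbr] at hXX
    rw [hN, sub_mul, mul_sub, mul_sub, hXX]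
    simp only [smul_mul_assoc, mul_smul_comm, one_mul, mul_one, smul_smul, hr1, one_smul, two_mul, add_smul]
    abel
  have hpow : ((X ^ p : S) : Matrix (Fin 2) (Fin 2) F) = r ^ p • (1 : Matrix (Fin 2) (Fin 2) F) := by
    have hc : Commute (X : Matrix (Fin 2) (Fin 2) F) (r • (1 : Matrix (Fin 2) (Fin 2) F)) :=
      (Commute.one_right _).smul_right r
    have hz := sub_pow_char_of_commute (p := p) hc
    rw [← hN, pow_eq_zero_of_le hp.out.two_le (by rw [pow_two]; exact hN2), smul_pow, one_pow] at hz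
    rw [Matrix.SpecialLinearGroup.coe_pow]
    exact sub_eq_zero.1 hz.symm
  have hone : toP X ^ p = 1 := by
    rw [← map_pow, toP_eq_one_iff, central_iff]
    exact ⟨r ^ p, by rw [← mul_pow, hr1, one_pow], hpow⟩
  rcases (Nat.dvd_prime hp.out).1 (orderOf_dvd_of_pow_eq_one hone) with e' | e'
  · omega
  · exact h (by rw [e'])

theorem odd_square_covers [Fintype F] {p : ℕ} [Fact p.Prime] [CharP F p] (hp : p ≠ 2)
    (x : Matrix.ProjectiveSpecialLinearGroup (Fin 2) F) (hx2 : 2 < orderOf x) (hxp : ¬ p ∣ orderOf x)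
    (g : Matrix.ProjectiveSpecialLinearGroup (Fin 2) F) (hg : g ≠ 1) :
    ∃ u v : Matrix.ProjectiveSpecialLinearGroup (Fin 2) F, g = (u * x * u⁻¹) * (v * x * v⁻¹) := by
  have h2 : (2 : F) ≠ 0 := by
    intro h
    have : (p : ℕ) ∣ 2 := (CharP.cast_eq_zero_iff F p 2).1 (by exact_mod_cast h)
    exact hp ((Nat.prime_dvd_prime_iff_eq Fact.out Nat.prime_two).1 this)
  obtain ⟨X, rfl⟩ := toP_surj x
  set b := (X : Matrix (Fin 2) (Fin 2) F).trace with hb
  have hb0 : b ≠ 0 := two_lt_orderOf_trace hx2
  have hb4 : b * b ≠ 4 := trace_sq_ne_four h2 (by omega) hxp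
  have hXns : NonScalar (X : Matrix (Fin 2) (Fin 2) F) := by
    by_contra h
    exact hb4 (trace_scalar_sq h)
  refine square_covers X g hg ?_ ?_
  · intro Y hY
    obtain ⟨v, hv⟩ := exists_qf_ne_zero hXns
    obtain ⟨w, hw⟩ := exists_qf_eq h2 (M := (Y : Matrix (Fin 2) (Fin 2) F))
      (by rw [hY, Y.2, mul_one]; exact sub_ne_zero.2 hb4) (qf (X : Matrix (Fin 2) (Fin 2) F) v)
    exact sl_isConj X Y hY.symm hv hw
  · intro G hG
    rw [← hb]
    obtain ⟨G', hG', ht⟩ : ∃ G' : S, toP G' = g ∧ (G' : Matrix (Fin 2) (Fin 2) F).trace ≠ 2 := by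
      by_cases ht : (G : Matrix (Fin 2) (Fin 2) F).trace = 2
      · refine ⟨-G, by rw [toP_neg, hG], ?_⟩
        rw [Matrix.SpecialLinearGroup.coe_neg, trace_neg, ht]
        intro h
        exact h2 (mul_self_eq_zero.1 (show (2 : F) * 2 = 0 by linear_combination -h))
      · exact ⟨G, hG, ht⟩
    refine ⟨G', hG', ?_⟩
    set t := (G' : Matrix (Fin 2) (Fin 2) F).trace with htd
    by_cases htm : t = -2
    · exact ⟨-1 / (2 * b), 1 / (2 * b), by rw [htm]; field_simp; ring⟩
    · have hodd : Fintype.card F % 2 = 1 := FiniteField.odd_card_of_char_ne_two fun h => h2 (by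
        have hc := ringChar.Nat.cast_ringChar (R := F)
        rw [h] at hc
        exact_mod_cast hc)
      have hlead : 4 - t * t ≠ 0 := by
        intro h
        rcases mul_eq_zero.1 (show (2 - t) * (2 + t) = 0 by linear_combination h) with e | e
        · exact ht (sub_eq_zero.1 e).symm
        · exact htm (by linear_combination e)
      obtain ⟨a, w, haw⟩ := FiniteField.exists_root_sum_quadratic
        (f := (Polynomial.X ^ 2 : Polynomial F))
        (g := Polynomial.C (4 - t * t) * Polynomial.X ^ 2 + Polynomial.C (2 * b * t - 4 * b) * Polynomial.X +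
          Polynomial.C (4 - b * b))
        (Polynomial.degree_X_pow 2) (Polynomial.degree_quadratic hlead) hodd
      simp at haw
      refine ⟨(a - (b - t * w)) / 2, w, ?_⟩
      field_simp
      linear_combination haw

/-- A root of a quadratic with unit constant term, or the order divides `q + 1`. -/
theorem exists_root_of_not_dvd [Fintype F] [CharP F 2] {X : S}
    (hb : (X : Matrix (Fin 2) (Fin 2) F).trace ≠ 0)
    (h : ¬ orderOf X ∣ Fintype.card F + 1) :
    ∃ a : F, a * a = (X : Matrix (Fin 2) (Fin 2) F).trace * a - 1 := by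
  set t := (X : Matrix (Fin 2) (Fin 2) F).trace with ht
  let K := AlgebraicClosure F
  let φ : F →+* K := algebraMap F K
  haveI : CharP K 2 := charP_of_injective_algebraMap φ.injective 2
  haveI : Fact (Nat.Prime 2) := ⟨Nat.prime_two⟩
  obtain ⟨r, hr⟩ := IsAlgClosed.exists_root
    (Polynomial.C (1 : K) * Polynomial.X ^ 2 + Polynomial.C (-φ t) * Polynomial.X + Polynomial.C 1)
    (by rw [Polynomial.degree_quadratic one_ne_zero]; decide)
  simp [Polynomial.IsRoot] at hr
  have hr' : r * r = φ t * r - 1 := by linear_combination hr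
  set q := Fintype.card F with hq
  obtain ⟨k, -, hk⟩ := FiniteField.card F 2
  have hfrob : r ^ q * r ^ q = φ t * r ^ q - 1 := by
    have h' := congrArg (fun x => iterateFrobenius K 2 (k : ℕ) x) hr'
    simp only [map_mul, map_sub, map_one, iterateFrobenius_def] at h'
    rw [← hk, ← hq, ← map_pow, show t ^ q = t from FiniteField.pow_card t] at h'
    exact h'
  by_cases hrq : r ^ q = r
  · obtain ⟨a, ha⟩ : ∃ a : F, φ a = r := by
      by_contra hne
      push Not at hne
      classical
      let P : Polynomial K := Polynomial.X ^ q - Polynomial.X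
      have hdeg : P.natDegree = q := FiniteField.X_pow_card_sub_X_natDegree_eq K Fintype.one_lt_card
      have hP : P ≠ 0 := FiniteField.X_pow_card_sub_X_ne_zero K Fintype.one_lt_card
      have := Polynomial.card_le_degree_of_subset_roots (p := P)
        (Z := insert r (Finset.univ.image φ)) (fun x hx => by
          rw [Polynomial.mem_roots hP]
          rcases Finset.mem_insert.1 hx with rfl | hx
          · simp [P, Polynomial.IsRoot, hrq]
          · obtain ⟨a, -, rfl⟩ := Finset.mem_image.1 hx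
            simp [P, Polynomial.IsRoot, hq, ← map_pow, FiniteField.pow_card])
      rw [Finset.card_insert_of_notMem (by simpa using hne), Finset.card_image_of_injective _ φ.injective,
        Finset.card_univ, hdeg, ← hq] at this
      omega
    refine ⟨a, φ.injective ?_⟩
    rw [map_mul, map_sub, map_mul, map_one, ha, hr']
  · exfalso
    apply h
    have h1 : r ^ q + r = φ t := mul_left_cancel₀ (sub_ne_zero.2 hrq) (by linear_combination hfrob - hr')
    have hm : r ^ (q + 1) = 1 := by rw [pow_succ]; linear_combination r * h1 - hr'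
    have hr0 : r ≠ 0 := fun h0 => one_ne_zero (by linear_combination hr' - (r - φ t) * h0 : (1 : K) = 0)
    have e1 := Classical.sl2Coef_root (φ t) r hr' (q + 1)
    have e2 := Classical.sl2Coef_root (φ t) r⁻¹ (by
      linear_combination (r⁻¹ * r⁻¹) * hr' + (φ t * r⁻¹ - r * r⁻¹ - 1) * mul_inv_cancel₀ hr0) (q + 1)
    rw [hm] at e1
    rw [inv_pow, hm, inv_one] at e2
    have ha : (Spectrum.sl2Coef (φ t) (q + 1)).1 * (r - r⁻¹) = 0 := by linear_combination e1 - e2
    have hne' : r - r⁻¹ ≠ 0 := by
      intro e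
      have h2 : (2 : K) = 0 := CharP.cast_eq_zero K 2
      have e' : r * r = 1 := by linear_combination r * e + mul_inv_cancel₀ hr0
      have hzero : φ t * r = 0 := by linear_combination (-1 : K) * hr' + e' + h2
      exact hb (φ.injective (by rw [(mul_eq_zero.1 hzero).resolve_right hr0, map_zero]))
    have ha0 := (mul_eq_zero.1 ha).resolve_right hne'
    rw [ha0, zero_mul, zero_add] at e1
    obtain ⟨m1, m2⟩ := Classical.sl2Coef_map φ t (q + 1)
    exact orderOf_dvd_of_pow_eq_one (Spectrum.sl2_pow_eq_one X _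
      (Prod.ext (φ.injective (by rw [m1, ha0, map_zero])) (φ.injective (by rw [m2, e1, map_one]))))

theorem even_square_covers [Fintype F] [CharP F 2]
    (x : Matrix.ProjectiveSpecialLinearGroup (Fin 2) F) (hx2 : 2 < orderOf x)
    (hxq : ¬ orderOf x ∣ Fintype.card F + 1)
    (g : Matrix.ProjectiveSpecialLinearGroup (Fin 2) F) (hg : g ≠ 1) :
    ∃ u v : Matrix.ProjectiveSpecialLinearGroup (Fin 2) F, g = (u * x * u⁻¹) * (v * x * v⁻¹) := by
  obtain ⟨X, rfl⟩ := toP_surj x
  set b := (X : Matrix (Fin 2) (Fin 2) F).trace with hb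
  have hb0 : b ≠ 0 := two_lt_orderOf_trace hx2
  have h2 : (2 : F) = 0 := CharP.cast_eq_zero F 2
  have hsq : ∀ c : F, ∃ d : F, c = d * d := fun c => FiniteField.isSquare_of_char_two (ringChar.eq F 2) c
  have hXns : NonScalar (X : Matrix (Fin 2) (Fin 2) F) := by
    by_contra h
    exact hb0 (mul_self_eq_zero.1 (by rw [trace_scalar_sq h]; linear_combination 2 * h2))
  refine square_covers X g hg ?_ ?_
  · intro Y hY
    have hYns : NonScalar (Y : Matrix (Fin 2) (Fin 2) F) := by
      by_contra h
      exact hb0 (mul_self_eq_zero.1 (by rw [hb, ← hY, trace_scalar_sq h]; linear_combination 2 * h2))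
    obtain ⟨v, hv⟩ := exists_qf_ne_zero hXns
    obtain ⟨w, hw⟩ := exists_qf_ne_zero hYns
    obtain ⟨c, hc⟩ := hsq (qf (X : Matrix (Fin 2) (Fin 2) F) v / qf (Y : Matrix (Fin 2) (Fin 2) F) w)
    refine sl_isConj X Y hY.symm hv (w := c • w) ?_
    rw [qf_smul, ← hc, div_mul_cancel₀ _ hw]
  · intro G hG
    refine ⟨G, hG, ?_⟩
    rw [← hb]
    set t := (G : Matrix (Fin 2) (Fin 2) F).trace
    by_cases ht : t = 0
    · obtain ⟨a, ha⟩ : ∃ a : F, a * a = b * a - 1 := by
        refine exists_root_of_not_dvd hb0 fun hd => hxq ?_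
        exact (orderOf_map_dvd _ X).trans hd
      exact ⟨a, 0, by rw [ht]; linear_combination ha + b * a * h2⟩
    · obtain ⟨d, hd⟩ := hsq ((b / t) * (b / t) - b * (b / t) + 1)
      refine ⟨d, b / t, ?_⟩
      have e : b - t * (b / t) = 0 := by field_simp; ring
      rw [e]
      linear_combination hd + d * d * h2

end CfsgLib.SL2Table
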