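import Mathlib
import Cfsg.Prelude
import Cfsg.Agent.Lib.SL2Table.GL2Table
import Cfsg.Agent.Lib.SL2Table.SL2Classes

/-!
The principal series of `SL(2, F)`.
-/

namespace CfsgLib.SL2Table

open Matrix
open scoped ComplexConjugate

variable {F : Type*} [Field F]

local notation "S" => Matrix.SpecialLinearGroup (Fin 2) F
local notation "M2" => Matrix (Fin 2) (Fin 2) F
local notation "BS" => Subgroup.comap (Matrix.SpecialLinearGroup.toGL (n := Fin 2) (R := F)) (Cfsg.upperTriangularGL 2 F)

theorem mem_borelSL (g : S) : g ∈ BS ↔ (g : M2) 1 0 = 0 := by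
  rw [Subgroup.mem_comap, mem_upperTriangularGL_two]
  rfl

/-- `SL(2, F)` as a line group. -/
def slLine : LineGroup S F where
  map := Matrix.SpecialLinearGroup.toGL
  borel := BS
  mem_borel := mem_borelSL
  rep := fun s => ⟨!![s, -1; 1, 0], by simp [det_fin_two]⟩
  rep_spec := fun s => rfl

theorem slLine_mat (g : S) : (slLine (F := F)).mat g = (g : M2) := rfl

theorem slLine_borel : (slLine (F := F)).borel = BS := rfl

/-- Parametrisation of the Borel subgroup of `SL(2, F)`. -/
noncomputable def slBorelEquiv : Fˣ × F ≃ BS :=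
  Equiv.ofBijective (fun p => ⟨⟨!![(p.1 : F), p.2; 0, ((p.1⁻¹ : Fˣ) : F)], by simp [det_fin_two]⟩,
      (mem_borelSL _).2 (by simp)⟩) (by
    constructor
    · rintro ⟨a, x⟩ ⟨a', x'⟩ h
      have h' := congrArg (fun b : BS => ((b : S) : M2)) h
      simp at h'
      simp only [Prod.mk.injEq, Units.ext_iff]
      tauto
    · rintro ⟨g, hg⟩
      have h10 := (mem_borelSL g).1 hg
      have hd := g.2
      rw [det_fin_two, h10, mul_zero, sub_zero] at hd
      refine ⟨(Units.mk0 _ (left_ne_zero_of_mul (by rw [hd]; exact one_ne_zero)), (g : M2) 0 1),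
        Subtype.ext (Subtype.ext ?_)⟩
      ext i j
      fin_cases i <;> fin_cases j <;> simp [h10]
      exact inv_eq_of_mul_eq_one_right hd)

theorem slBorelEquiv_apply (p : Fˣ × F) :
    ((slBorelEquiv p : S) : M2) = !![(p.1 : F), p.2; 0, ((p.1⁻¹ : Fˣ) : F)] := rfl

variable [Fintype F] [DecidableEq F]

omit [DecidableEq F] in
theorem card_sub_one_ne : (Fintype.card F : ℂ) - 1 ≠ 0 := by
  rw [sub_ne_zero]
  exact_mod_cast (Fintype.one_lt_card (α := F)).ne'

theorem card_slBorel :
    (Nat.card BS : ℂ) = ((Fintype.card F : ℂ) - 1) * Fintype.card F := by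
  rw [← Nat.card_congr slBorelEquiv]
  simp [Nat.card_eq_fintype_card, Fintype.card_units, Nat.cast_sub Fintype.card_pos]

/-- The principal series of `SL(2, F)`. -/
noncomputable def pr (α : MulChar F ℂ) : S → ℂ :=
  Cfsg.indFun BS (fun b => α (((b : S) : M2) 0 0))

theorem pr_apply (α : MulChar F ℂ) (g : S) :
    pr α g = (if (g : M2) 1 0 = 0 then α ((g : M2) 0 0) else 0) +
      ∑ s : F, if (g : M2) 1 0 * s * s + ((g : M2) 1 1 - (g : M2) 0 0) * s - (g : M2) 0 1 = 0 then
        α ((g : M2) 1 0 * s + (g : M2) 1 1) else 0 :=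
  (slLine (F := F)).indFun_diag (fun x _ => α x) g

theorem pr_eq_ps (α : MulChar F ℂ) (g : S) : pr α g = ps α 1 (Matrix.SpecialLinearGroup.toGL g) := by
  have hd : (g : M2) 0 0 * (g : M2) 1 1 - (g : M2) 0 1 * (g : M2) 1 0 = 1 := by rw [← det_fin_two]; exact g.2
  rw [pr_apply, ps_apply]
  change _ = (if (g : M2) 1 0 = 0 then α ((g : M2) 0 0) * (1 : MulChar F ℂ) ((g : M2) 1 1) else 0) +
    ∑ s : F, if (g : M2) 1 0 * s * s + ((g : M2) 1 1 - (g : M2) 0 0) * s - (g : M2) 0 1 = 0 then
      α ((g : M2) 1 0 * s + (g : M2) 1 1) * (1 : MulChar F ℂ) ((g : M2) 0 0 - (g : M2) 1 0 * s) else 0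
  congr 1
  · split_ifs with h
    · rw [h, mul_zero, sub_zero] at hd
      rw [MulChar.one_apply (isUnit_iff_ne_zero.2 (fun e => by simp [e] at hd)), mul_one]
    · rfl
  · refine Finset.sum_congr rfl fun s _ => ?_
    split_ifs with h
    · have hu : (g : M2) 0 0 - (g : M2) 1 0 * s ≠ 0 := fun e => one_ne_zero (show (1 : F) = 0 by
        linear_combination -hd + ((g : M2) 1 1 + (g : M2) 1 0 * s) * e + (g : M2) 1 0 * h)
      rw [MulChar.one_apply hu.isUnit, mul_one]
    · rfl

theorem pr_conj_gl (α : MulChar F ℂ) (x : GL (Fin 2) F) (g h : S)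
    (e : Matrix.SpecialLinearGroup.toGL h = x * Matrix.SpecialLinearGroup.toGL g * x⁻¹) : pr α h = pr α g := by
  rw [pr_eq_ps, pr_eq_ps, e]
  exact isClassFunction_ps α 1 _ x

theorem slBorel_index : (BS).index = Fintype.card F + 1 := (slLine (F := F)).index_eq

theorem pr_one (α : MulChar F ℂ) : pr α (1 : S) = (Fintype.card F : ℂ) + 1 := by
  rw [pr, Char.indFun_one, slBorel_index]
  simp

theorem isCharacter_pr (α : MulChar F ℂ) : Cfsg.IsCharacter S (pr α) := by
  refine Char.isCharacter_indFun _ (Char.isCharacter_of_isIrr (Char.isIrrCharacter_hom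
    ({ toFun := fun b => α (((b : S) : M2) 0 0)
       map_one' := by simp
       map_mul' := fun a b => ?_ } : BS →* ℂ)))
  obtain ⟨h1, -⟩ := (slLine (F := F)).borel_mul_diag a.2 b.2
  simp only [slLine_mat] at h1
  simp only [Subgroup.coe_mul, h1, map_mul]

theorem isClassFunction_pr (α : MulChar F ℂ) : Cfsg.IsClassFunction S (pr α) :=
  Char.isClassFunction_indFun _ _

theorem pr_split (α : MulChar F ℂ) {g : S} (h01 : (g : M2) 0 1 = 0) (h10 : (g : M2) 1 0 = 0)
    (hne : (g : M2) 0 0 ≠ (g : M2) 1 1) : pr α g = α ((g : M2) 0 0) + α ((g : M2) 1 1) := by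
  rw [pr_apply, if_pos h10, Finset.sum_eq_single (0 : F)]
  · simp [h10, h01]
  · intro s _ hs
    rw [if_neg]
    simp [h10, h01, sub_ne_zero.2 hne.symm, hs]
  · simp

theorem pr_transvection (α : MulChar F ℂ) {g : S} (h10 : (g : M2) 1 0 = 0)
    (heq : (g : M2) 0 0 = (g : M2) 1 1) (h01 : (g : M2) 0 1 ≠ 0) : pr α g = α ((g : M2) 0 0) := by
  rw [pr_apply, if_pos h10, Finset.sum_eq_zero, add_zero]
  intro s _
  rw [if_neg]
  simp [h10, heq, h01]

theorem pr_elliptic (α : MulChar F ℂ) {g : S}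
    (h : ∀ (c : F) (v : Fin 2 → F), v ≠ 0 → (g : M2).mulVec v ≠ c • v) : pr α g = 0 := by
  obtain ⟨h1, h2⟩ := elliptic_no_root h
  rw [pr_apply, if_neg h1, zero_add, Finset.sum_eq_zero]
  exact fun s _ => if_neg (h2 s)

theorem pr_scalar (α : MulChar F ℂ) {g : S} (h01 : (g : M2) 0 1 = 0) (h10 : (g : M2) 1 0 = 0)
    (heq : (g : M2) 0 0 = (g : M2) 1 1) : pr α g = ((Fintype.card F : ℂ) + 1) * α ((g : M2) 0 0) := by
  rw [pr_apply, if_pos h10]
  simp [h01, h10, heq]
  ring

theorem classInner_pr (α β : MulChar F ℂ) [Decidable (α = β)] [Decidable (α = β⁻¹)] :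
    Cfsg.classInner (pr α : S → ℂ) (pr β) = (if α = β then 1 else 0) + (if α = β⁻¹ then 1 else 0) := by
  classical
  have hfr := Char.frobenius_reciprocity BS (fun b => α (((b : S) : M2) 0 0)) (isClassFunction_pr β)
  refine hfr.trans ?_
  rw [Char.classInner_def, card_slBorel, ← slBorelEquiv.sum_comp]
  have hval : ∀ p : Fˣ × F, pr β (slBorelEquiv p : S) = β (p.1 : F) +
      ∑ s : F, if p.2 = (((p.1⁻¹ : Fˣ) : F) - p.1) * s then β ((p.1⁻¹ : Fˣ) : F) else 0 := by
    intro p
    rw [pr_apply, slBorelEquiv_apply]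
    simp only [cons_val', cons_val_zero, cons_val_one, empty_val', cons_val_fin_one, of_apply, if_pos rfl,
      zero_mul, zero_add]
    congr 1
    refine Finset.sum_congr rfl fun s _ => if_congr ⟨fun e => ?_, fun e => ?_⟩ rfl rfl
    · linear_combination -e
    · linear_combination -e
  have hx : ∀ a : Fˣ, ∑ x : F, α (a : F) * conj (pr β (slBorelEquiv (a, x) : S)) =
      (Fintype.card F : ℂ) * (α (a : F) * conj (β (a : F))) +
        (Fintype.card F : ℂ) * (α (a : F) * conj (β⁻¹ (a : F))) := by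
    intro a
    simp only [hval, map_add, map_sum, apply_ite conj, map_zero, mul_add, Finset.sum_add_distrib,
      Finset.mul_sum, mul_ite, mul_zero]
    rw [Finset.sum_comm]
    simp [Finset.sum_ite_eq', MulChar.inv_apply', Units.val_inv_eq_inv_val]
  simp only [slBorelEquiv_apply, cons_val', cons_val_zero, empty_val', cons_val_fin_one, of_apply]
  rw [Fintype.sum_prod_type]
  simp only [hx, Finset.sum_add_distrib, ← Finset.mul_sum, sum_units_mul_conj]
  have h1 : (Fintype.card F : ℂ) ≠ 0 := by exact_mod_cast Fintype.card_ne_zero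
  have h2 : (Fintype.card F : ℂ) - 1 ≠ 0 := card_sub_one_ne
  split_ifs <;> field_simp <;> ring

theorem isIrr_pr_iff (α : MulChar F ℂ) : Cfsg.IsIrrCharacter S (pr α) ↔ α ^ 2 ≠ 1 := by
  classical
  rw [Char.irr_iff_norm_one, and_iff_right (isCharacter_pr α), classInner_pr, if_pos rfl, pow_two, Ne,
    mul_eq_one_iff_eq_inv]
  by_cases h : α = α⁻¹
  · rw [if_pos h]; norm_num; exact h
  · simp [h]

theorem pr_eq_iff (α β : MulChar F ℂ) : (pr α : S → ℂ) = pr β ↔ α = β ∨ α = β⁻¹ := by
  classical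
  constructor
  · intro h
    by_contra hc
    push Not at hc
    have h2 : Cfsg.classInner (pr α : S → ℂ) (pr α) = Cfsg.classInner (pr α : S → ℂ) (pr β) := by rw [← h]
    rw [classInner_pr, classInner_pr, if_neg hc.1, if_neg hc.2, if_pos rfl] at h2
    split_ifs at h2 <;> norm_num at h2
  · rintro (rfl | rfl)
    · rfl
    · refine sub_eq_zero.1 (Char.eq_zero_of_classInner_self_eq_zero ?_)
      rw [Char.classInner_sub_left, Char.classInner_sub_right, Char.classInner_sub_right,
        classInner_pr, classInner_pr, classInner_pr, classInner_pr, inv_inv]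
      by_cases e : β = β⁻¹
      · rw [← e]; simp
      · simp [e, Ne.symm e]

theorem classInner_pr_one (α : MulChar F ℂ) [Decidable (α = 1)] :
    Cfsg.classInner (pr α : S → ℂ) (fun _ => 1) = if α = 1 then 1 else 0 := by
  classical
  have hfr := Char.frobenius_reciprocity BS (fun b => α (((b : S) : M2) 0 0))
    (Char.isClassFunction_const (G := S) (1 : ℂ))
  refine hfr.trans ?_
  rw [Char.classInner_def, card_slBorel, ← slBorelEquiv.sum_comp, Fintype.sum_prod_type]
  simp only [slBorelEquiv_apply, cons_val', cons_val_zero, empty_val', cons_val_fin_one, of_apply,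
    map_one, mul_one, Finset.sum_const, Finset.card_univ, nsmul_eq_mul, ← Finset.mul_sum, sum_units_eq]
  have h1 : (Fintype.card F : ℂ) ≠ 0 := by exact_mod_cast Fintype.card_ne_zero
  have h2 : (Fintype.card F : ℂ) - 1 ≠ 0 := card_sub_one_ne
  split_ifs <;> field_simp <;> ring

/-- The Steinberg character of `SL(2, F)`. -/
noncomputable def stS : S → ℂ := pr 1 - fun _ => 1

theorem stS_apply (g : S) : stS g = pr 1 g - 1 := rfl

theorem stS_one : stS (1 : S) = (Fintype.card F : ℂ) := by simp [stS_apply, pr_one]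

theorem isIrr_stS : Cfsg.IsIrrCharacter S (stS : S → ℂ) := by
  classical
  refine Char.gen_norm_one_pos (Char.isGen_sub (Char.isGen_of_char (isCharacter_pr 1)) Char.isGen_one) ?_ ?_
  · rw [stS, Char.classInner_sub_left, Char.classInner_sub_right, Char.classInner_sub_right, classInner_pr,
      classInner_pr_one, inv_one, if_pos rfl, Char.classInner_irr_self Char.isIrrCharacter_one,
      ← Char.classInner_conj_symm, classInner_pr_one, if_pos rfl]
    simp
  · rw [stS_one]; simp [Fintype.card_pos]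

/-- Orthogonality to all the principal series of `SL(2, F)`. -/
def IsCuspS (χ : S → ℂ) : Prop := ∀ α : MulChar F ℂ, Cfsg.classInner χ (pr α) = 0

/-- The sum over the unipotent subgroup measures the principal series components. -/
theorem sum_unipotent_eq {χ : S → ℂ} (hχ : Cfsg.IsClassFunction S χ) [Fintype (MulChar F ℂ)] :
    ∑ x : F, χ (pSL 1 x (mul_one 1)) = (Fintype.card F : ℂ) * ∑ α : MulChar F ℂ, Cfsg.classInner χ (pr α) := by
  classical
  have h : ∀ α : MulChar F ℂ, Cfsg.classInner χ (pr α) =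
      (((Fintype.card F : ℂ) - 1) * Fintype.card F)⁻¹ * ∑ p : Fˣ × F, α⁻¹ (p.1 : F) * χ (slBorelEquiv p : S) := by
    intro α
    have hfr := Char.frobenius_reciprocity' BS (fun b => α (((b : S) : M2) 0 0)) hχ
    refine hfr.trans ?_
    rw [Char.classInner_def, card_slBorel, ← slBorelEquiv.sum_comp]
    congr 1
    refine Finset.sum_congr rfl fun p _ => ?_
    rw [slBorelEquiv_apply]
    simp only [cons_val', cons_val_zero, empty_val', cons_val_fin_one, of_apply, conj_mulChar]
    ring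
  simp only [h, ← Finset.mul_sum]
  rw [Finset.sum_comm]
  simp only [← Finset.sum_mul]
  have hs : ∀ a : Fˣ, ∑ α : MulChar F ℂ, α⁻¹ (a : F) = if a = 1 then ((Fintype.card F : ℂ) - 1) else 0 := by
    intro a
    rw [← sum_mulChar_apply a]
    exact Fintype.sum_equiv (Equiv.inv _) _ _ fun α => rfl
  simp only [hs, Fintype.sum_prod_type]
  rw [Finset.sum_eq_single (1 : Fˣ) (fun a _ ha => by simp [ha]) (by simp)]
  simp only [↓reduceIte, ← Finset.mul_sum]
  have h1 : (Fintype.card F : ℂ) ≠ 0 := by exact_mod_cast Fintype.card_ne_zero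
  have h2 : (Fintype.card F : ℂ) - 1 ≠ 0 := card_sub_one_ne
  rw [show (∑ x : F, χ (slBorelEquiv (1, x) : S)) = ∑ x : F, χ (pSL 1 x (mul_one 1)) from
    Finset.sum_congr rfl fun x _ => congrArg χ (Subtype.ext (by simp [slBorelEquiv_apply, pSL_mat]))]
  field_simp

theorem cuspS_sum_unipotent {χ : S → ℂ} (hχ : Cfsg.IsClassFunction S χ) (hc : IsCuspS χ) :
    ∑ x : F, χ (pSL 1 x (mul_one 1)) = 0 := by
  haveI : Fintype (MulChar F ℂ) := Fintype.ofFinite _
  rw [sum_unipotent_eq hχ, Finset.sum_eq_zero (fun α _ => hc α), mul_zero]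

theorem cuspS_split {χ : S → ℂ} (hχ : Cfsg.IsClassFunction S χ) (hc : IsCuspS χ) {g : S}
    (h01 : (g : M2) 0 1 = 0) (h10 : (g : M2) 1 0 = 0) (hne : (g : M2) 0 0 ≠ (g : M2) 1 1) : χ g = 0 := by
  classical
  haveI : Fintype (MulChar F ℂ) := Fintype.ofFinite _
  have hd := g.2
  rw [det_fin_two, h10, mul_zero, sub_zero] at hd
  set a := Units.mk0 ((g : M2) 0 0) (left_ne_zero_of_mul (by rw [hd]; exact one_ne_zero)) with ha
  have hd' : (g : M2) 1 1 = ((a⁻¹ : Fˣ) : F) := by
    rw [Units.val_inv_eq_inv_val]; exact (inv_eq_of_mul_eq_one_right hd).symm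
  have h : ∀ α : MulChar F ℂ, ∑ p : Fˣ × F, α (a : F) * α⁻¹ (p.1 : F) * χ (slBorelEquiv p : S) = 0 := by
    intro α
    have hfr := Char.frobenius_reciprocity' BS (fun b => α (((b : S) : M2) 0 0)) hχ
    have h0 : Cfsg.classInner χ (pr α) = 0 := hc α
    rw [pr, hfr, Char.classInner_def, ← slBorelEquiv.sum_comp] at h0
    simp only [slBorelEquiv_apply, cons_val', cons_val_zero, empty_val', cons_val_fin_one, of_apply,
      conj_mulChar] at h0
    rw [← mul_zero (α (a : F)), ← (mul_eq_zero.1 h0).resolve_left (inv_ne_zero (Char.card_subgroup_ne_zero _)),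
      Finset.mul_sum]
    exact Finset.sum_congr rfl fun p _ => by ring
  have h2 : ∑ p : Fˣ × F, (∑ α : MulChar F ℂ, α (a : F) * α⁻¹ (p.1 : F)) * χ (slBorelEquiv p : S) = 0 := by
    simp only [Finset.sum_mul]
    rw [Finset.sum_comm]
    exact Finset.sum_eq_zero fun α _ => h α
  have hs : ∀ z : Fˣ, ∑ α : MulChar F ℂ, α (a : F) * α⁻¹ (z : F) = if z = a then ((Fintype.card F : ℂ) - 1) else 0 := by
    intro z
    simp only [MulChar.inv_apply', ← map_mul, ← Units.val_inv_eq_inv_val, ← Units.val_mul, sum_mulChar_apply]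
    exact if_congr (by rw [mul_inv_eq_one, eq_comm]) rfl rfl
  simp only [hs, Fintype.sum_prod_type] at h2
  rw [Finset.sum_eq_single a (fun w _ hw => by simp [hw]) (by simp)] at h2
  simp only [↓reduceIte, ← Finset.mul_sum] at h2
  have h4 := (mul_eq_zero.1 h2).resolve_left card_sub_one_ne
  have h5 : ∀ x ∈ (Finset.univ : Finset F), χ (slBorelEquiv (a, x) : S) = χ g := by
    intro x _
    obtain ⟨c, hc'⟩ : ∃ c : S, (c : M2) = !![1, x / ((g : M2) 0 0 - (g : M2) 1 1); 0, 1] :=
      ⟨⟨_, by simp [det_fin_two]⟩, rfl⟩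
    refine Char.isClassFunction_iff.mp hχ _ _ (isConj_iff.2 ⟨c, ?_⟩)
    rw [mul_inv_eq_iff_eq_mul]
    apply Subtype.ext
    rw [Matrix.SpecialLinearGroup.coe_mul, Matrix.SpecialLinearGroup.coe_mul, slBorelEquiv_apply]
    have hne' : (g : M2) 0 0 - (g : M2) 1 1 ≠ 0 := sub_ne_zero.2 hne
    rw [hc']
    ext i j
    fin_cases i <;> fin_cases j <;> simp [ha, h10, h01, (inv_eq_of_mul_eq_one_right hd).symm, Matrix.mul_apply, Fin.sum_univ_two] <;>
      field_simp at * <;> grind
  rw [Finset.sum_congr rfl h5, Finset.sum_const, Finset.card_univ, nsmul_eq_mul] at h4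
  exact (mul_eq_zero.1 h4).resolve_left (by exact_mod_cast Fintype.card_ne_zero)

end CfsgLib.SL2Table
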