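import Mathlib
import Cfsg.Prelude
import Cfsg.Agent.Lib.SL2Table.SL2Borel

/-!
Restriction of characters of `SL(2, F)`, `|F|` odd, to the unipotent subgroup.
-/

namespace CfsgLib.SL2Table

open Matrix
open scoped ComplexConjugate

variable {F : Type*} [Field F]

local notation "S" => Matrix.SpecialLinearGroup (Fin 2) F
local notation "M2" => Matrix (Fin 2) (Fin 2) F

/-- Conjugation of `SL(2, F)` by an element of `GL(2, F)`. -/
def slConj (x : GL (Fin 2) F) : S →* S where
  toFun g := ⟨(x : M2) * (g : M2) * ((x⁻¹ : GL (Fin 2) F) : M2), by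
    rw [det_mul, det_mul, g.2, mul_one, ← det_mul, ← GeneralLinearGroup.coe_mul, mul_inv_cancel]; simp⟩
  map_one' := Subtype.ext (by simp)
  map_mul' g h := Subtype.ext (by
    change (x : M2) * ((g : M2) * (h : M2)) * ((x⁻¹ : GL (Fin 2) F) : M2) =
      (x : M2) * (g : M2) * ((x⁻¹ : GL (Fin 2) F) : M2) * ((x : M2) * (h : M2) * ((x⁻¹ : GL (Fin 2) F) : M2))
    rw [show (x : M2) * (g : M2) * ((x⁻¹ : GL (Fin 2) F) : M2) * ((x : M2) * (h : M2) * ((x⁻¹ : GL (Fin 2) F) : M2)) =
      (x : M2) * (g : M2) * (((x⁻¹ : GL (Fin 2) F) : M2) * (x : M2)) * ((h : M2) * ((x⁻¹ : GL (Fin 2) F) : M2)) by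
        simp only [Matrix.mul_assoc],
      ← GeneralLinearGroup.coe_mul, inv_mul_cancel]
    simp [Matrix.mul_assoc])

theorem toGL_slConj (x : GL (Fin 2) F) (g : S) :
    Matrix.SpecialLinearGroup.toGL (slConj x g) = x * Matrix.SpecialLinearGroup.toGL g * x⁻¹ :=
  Units.ext rfl

theorem eq_slConj {x : GL (Fin 2) F} {g h : S}
    (e : Matrix.SpecialLinearGroup.toGL h = x * Matrix.SpecialLinearGroup.toGL g * x⁻¹) : h = slConj x g := by
  apply Subtype.ext
  have := congrArg Units.val (e.trans (toGL_slConj x g).symm)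
  exact this

/-- Conjugation by `diag (ν, 1)`. -/
def diagGL (ν : F) (h : ν ≠ 0) : GL (Fin 2) F :=
  GeneralLinearGroup.mkOfDetNeZero !![ν, 0; 0, 1] (by simp [det_fin_two, h])

theorem slConj_pSL (ν : F) (h : ν ≠ 0) (x : F) :
    slConj (diagGL ν h) (pSL (1 : F) x (mul_one 1)) = pSL (1 : F) (ν * x) (mul_one 1) := by
  have e : slConj (diagGL ν h) (pSL (1 : F) x (mul_one 1)) * pSL (1 : F) 0 (mul_one 1) =
      pSL (1 : F) (ν * x) (mul_one 1) * pSL (1 : F) 0 (mul_one 1) := by
    apply Subtype.ext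
    rw [Matrix.SpecialLinearGroup.coe_mul, Matrix.SpecialLinearGroup.coe_mul]
    congr 1
    have hinv : (((diagGL ν h)⁻¹ : GL (Fin 2) F) : M2) = !![ν⁻¹, 0; 0, 1] := by
      have h1 : (((diagGL ν h)⁻¹ : GL (Fin 2) F) : M2) * ((diagGL ν h : GL (Fin 2) F) : M2) = 1 := by
        rw [← GeneralLinearGroup.coe_mul, inv_mul_cancel]; simp
      refine left_inv_eq_right_inv h1 ?_
      simp [diagGL, one_fin_two, h]
    change (diagGL ν h : M2) * ((pSL (1 : F) x (mul_one 1) : S) : M2) * (((diagGL ν h)⁻¹ : GL (Fin 2) F) : M2) = _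
    rw [hinv, pSL_mat, pSL_mat]
    simp [diagGL, h]
  exact mul_right_cancel e

theorem pSL_add (x y : F) : (pSL (1 : F) (x + y) (mul_one 1) : S) = pSL (1 : F) x (mul_one 1) * pSL (1 : F) y (mul_one 1) := by
  apply Subtype.ext
  rw [Matrix.SpecialLinearGroup.coe_mul, pSL_mat, pSL_mat, pSL_mat]
  simp [add_comm]

theorem pSL_zero : (pSL (1 : F) (0 : F) (mul_one 1) : S) = 1 := Subtype.ext (by simp [pSL_mat, one_fin_two])

variable [Fintype F] [DecidableEq F]

/-- The quadratic character with complex values. -/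
noncomputable def eta : MulChar F ℂ := (quadraticChar F).ringHomComp (Int.castRingHom ℂ)

theorem eta_apply (a : F) : eta a = ((quadraticChar F a : ℤ) : ℂ) := rfl

theorem eta_isQuadratic : (eta (F := F)).IsQuadratic := (quadraticChar_isQuadratic F).comp _

theorem eta_one {a : F} (h : IsSquare a) (ha : a ≠ 0) : eta a = 1 := by
  rw [eta_apply, (quadraticChar_one_iff_isSquare ha).2 h]; norm_num

theorem eta_neg_one {a : F} (h : ¬ IsSquare a) : eta a = -1 := by
  rw [eta_apply, quadraticChar_neg_one_iff_not_isSquare.2 h]; norm_num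

theorem eta_sq : (eta (F := F)) ^ 2 = 1 := eta_isQuadratic.sq_eq_one

theorem eta_ne_one (h2 : (2 : F) ≠ 0) : (eta (F := F)) ≠ 1 := by
  obtain ⟨a, ha⟩ := FiniteField.exists_nonsquare (F := F) fun e => h2 (by
    haveI := ringChar.of_eq e
    exact CharTwo.two_eq_zero)
  have ha0 : a ≠ 0 := fun e => ha (e ▸ IsSquare.zero)
  intro e
  have := eta_neg_one ha
  rw [e, MulChar.one_apply ha0.isUnit] at this
  norm_num at this

theorem mulChar_sq_eq_one {α : MulChar F ℂ} (h : α ^ 2 = 1) : α = 1 ∨ α = eta := by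
  have hsq : ∀ a : F, a ≠ 0 → IsSquare a → α a = 1 := by
    rintro a ha ⟨b, rfl⟩
    have hb : b ≠ 0 := fun e => ha (by simp [e])
    have := congrArg (fun χ : MulChar F ℂ => χ b) h
    simpa [pow_two, MulChar.one_apply hb.isUnit, map_mul] using this
  by_cases hn : ∀ a : F, a ≠ 0 → ¬ IsSquare a → α a = 1
  · left
    refine MulChar.ext fun a => ?_
    rw [MulChar.one_apply a.isUnit]
    by_cases hs : IsSquare (a : F)
    · exact hsq _ a.ne_zero hs
    · exact hn _ a.ne_zero hs
  · right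
    push Not at hn
    obtain ⟨ν, hν0, hν, hν1⟩ := hn
    have hval : α ν = -1 := by
      have := congrArg (fun χ : MulChar F ℂ => χ ν) h
      simp only [pow_two, MulChar.mul_apply, MulChar.one_apply hν0.isUnit] at this
      exact (mul_self_eq_one_iff.1 this).resolve_left hν1
    refine MulChar.ext fun a => ?_
    by_cases hs : IsSquare (a : F)
    · rw [hsq _ a.ne_zero hs, eta_one hs a.ne_zero]
    · have h3 := hsq _ (mul_ne_zero a.ne_zero hν0) (isSquare_mul_of_not hs hν)
      rw [map_mul, hval] at h3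
      rw [eta_neg_one hs]
      linear_combination -h3

theorem eta_neg_one_value (hodd : Odd (Fintype.card F)) :
    eta (-1 : F) = (-1 : ℂ) ^ ((Fintype.card F - 1) / 2) := by
  have h2 : ringChar F ≠ 2 := fun e => two_ne_zero_of_odd hodd (by
    haveI := ringChar.of_eq e
    exact CharTwo.two_eq_zero)
  have hq : Fintype.card F % 2 = 1 := Nat.odd_iff.1 hodd
  rw [eta_apply, quadraticChar_neg_one h2, ZMod.χ₄_eq_neg_one_pow hq,
    show (Fintype.card F - 1) / 2 = Fintype.card F / 2 by omega]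
  push_cast
  rfl

variable (χ : Matrix.SpecialLinearGroup (Fin 2) F → ℂ)

/-- Values of a class function on the two classes of unipotent elements. -/
theorem unipotent_value (hχ : Cfsg.IsClassFunction S χ) {ν : F} (hν : ¬ IsSquare ν) {x : F} (hx : x ≠ 0) :
    χ (pSL (1 : F) x (mul_one 1)) = (χ (pSL (1 : F) 1 (mul_one 1)) + χ (pSL (1 : F) ν (mul_one 1))) / 2 +
      (χ (pSL (1 : F) 1 (mul_one 1)) - χ (pSL (1 : F) ν (mul_one 1))) / 2 * eta x := by
  have hν0 : ν ≠ 0 := fun e => hν (e ▸ IsSquare.zero)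
  have hconj : ∀ y : F, y ≠ 0 → IsSquare (x * y) → χ (pSL (1 : F) x (mul_one 1)) = χ (pSL (1 : F) y (mul_one 1)) := by
    intro y hy hs
    obtain ⟨-, a2, a3⟩ := pSL_spec 1 x (mul_one 1) hx
    obtain ⟨-, b2, b3⟩ := pSL_spec 1 y (mul_one 1) hy
    refine Char.isClassFunction_iff.mp hχ _ _ ?_
    obtain ⟨s, hs'⟩ := hs
    refine sl_isConj _ _ ((pSL_spec 1 x _ hx).1.trans (pSL_spec 1 y _ hy).1.symm) (v := ![0, 1])
      (by rw [a3]; exact neg_ne_zero.2 hx) (w := (s / y) • ![0, 1]) ?_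
    rw [qf_smul, a3, b3]
    field_simp
    linear_combination hs'
  by_cases hs : IsSquare x
  · rw [hconj 1 one_ne_zero (by rwa [mul_one]), eta_one hs hx]; ring
  · rw [hconj ν hν0 (isSquare_mul_of_not hs hν), eta_neg_one hs]; ring

theorem sum_unipotent_formula (h2 : (2 : F) ≠ 0) (hχ : Cfsg.IsClassFunction S χ) {ν : F} (hν : ¬ IsSquare ν) :
    ∑ x : F, χ (pSL (1 : F) x (mul_one 1)) = χ 1 + ((Fintype.card F : ℂ) - 1) / 2 *
      (χ (pSL (1 : F) 1 (mul_one 1)) + χ (pSL (1 : F) ν (mul_one 1))) := by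
  rw [← Finset.add_sum_erase _ _ (Finset.mem_univ (0 : F)), pSL_zero,
    Finset.sum_congr rfl (fun x hx => unipotent_value χ hχ hν (Finset.mem_erase.1 hx).1),
    Finset.sum_add_distrib, Finset.sum_const, Finset.card_erase_of_mem (Finset.mem_univ _), Finset.card_univ,
    ← Finset.mul_sum, nsmul_eq_mul, Nat.cast_sub Fintype.card_pos, Nat.cast_one]
  rw [Finset.sum_erase _ (MulChar.map_zero _), MulChar.sum_eq_zero_of_ne_one (eta_ne_one h2)]
  ring

/-- The two multiplicities of the non-trivial characters of the unipotent subgroup. -/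
theorem unipotent_data (h2 : (2 : F) ≠ 0) (hχ : Cfsg.IsCharacter S χ) {ν : F} (hν : ¬ IsSquare ν) :
    ∃ m₁ m₂ : ℕ, (Fintype.card F : ℂ) * ((m₁ : ℂ) + m₂) =
        2 * χ 1 - (χ (pSL (1 : F) 1 (mul_one 1)) + χ (pSL (1 : F) ν (mul_one 1))) ∧
      (χ (pSL (1 : F) 1 (mul_one 1)) - χ (pSL (1 : F) ν (mul_one 1))) ^ 2 =
        eta (-1 : F) * Fintype.card F * ((m₁ : ℂ) - m₂) ^ 2 := by
  classical
  have hcf := Char.isClassFunction_of_isCharacter hχ
  have hν0 : ν ≠ 0 := fun e => hν (e ▸ IsSquare.zero)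
  obtain ⟨ψ, hψ⟩ : ∃ ψ : AddChar F ℂ, ψ.IsPrimitive :=
    ⟨_, AddChar.FiniteField.primitiveChar_to_Complex_isPrimitive (F := F)⟩
  let up : Multiplicative F →* S :=
    { toFun := fun x => pSL (1 : F) (Multiplicative.toAdd x) (mul_one 1)
      map_one' := pSL_zero
      map_mul' := fun x y => pSL_add _ _ }
  let f : F → (Multiplicative F →* ℂ) := fun c =>
    { toFun := fun x => conj (ψ (c * Multiplicative.toAdd x))
      map_one' := by simp
      map_mul' := fun x y => by simp [mul_add, AddChar.map_add_eq_mul] }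
  set A := χ (pSL (1 : F) 1 (mul_one 1)) with hA
  set B := χ (pSL (1 : F) ν (mul_one 1)) with hB
  set G := gaussSum eta ψ with hG
  have hG2 : G ^ 2 = eta (-1 : F) * Fintype.card F :=
    gaussSum_sq (eta_ne_one h2) eta_isQuadratic hψ
  have key : ∀ c : F, c ≠ 0 → ∃ m : ℕ, (Fintype.card F : ℂ) * m = χ 1 - (A + B) / 2 + (A - B) / 2 * (eta c * G) := by
    intro c hc
    obtain ⟨m, hm⟩ := Char.classInner_char_nat (Char.isCharacter_comp hχ up)
      (Char.isCharacter_of_isIrr (Char.isIrrCharacter_hom (f c)))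
    refine ⟨m, ?_⟩
    rw [← hm, ← Nat.card_eq_fintype_card,
      show (Nat.card F : ℂ) = (Nat.card (Multiplicative F) : ℂ) by rw [Nat.card_congr Multiplicative.toAdd],
      Char.card_mul_classInner, ← Multiplicative.ofAdd.sum_comp]
    have hterm : ∀ x : F, (fun g => χ (up g)) (Multiplicative.ofAdd x) * conj ((f c : Multiplicative F → ℂ) (Multiplicative.ofAdd x)) =
        χ (pSL (1 : F) x (mul_one 1)) * ψ (c * x) := fun x => by
      simp [up, f]
    simp only [Function.comp_def] at hterm ⊢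
    rw [Finset.sum_congr rfl fun x _ => hterm x, ← Finset.add_sum_erase _ _ (Finset.mem_univ (0 : F)),
      pSL_zero, mul_zero, AddChar.map_zero_eq_one, mul_one,
      Finset.sum_congr rfl (fun x hx => show χ (pSL (1 : F) x (mul_one 1)) * ψ (c * x) =
        (A + B) / 2 * ψ (c * x) + (A - B) / 2 * (eta x * ψ (c * x)) by
          rw [unipotent_value χ hcf hν (Finset.mem_erase.1 hx).1]; ring),
      Finset.sum_add_distrib, ← Finset.mul_sum, ← Finset.mul_sum,
      Finset.sum_erase (f := fun x => eta x * ψ (c * x)) _ (by rw [MulChar.map_zero, zero_mul])]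
    have h1 : ∑ x ∈ Finset.univ.erase (0 : F), ψ (c * x) = -1 := by
      have hsum : ∑ x : F, ψ (c * x) = 0 := by
        have := AddChar.sum_eq_zero_of_ne_one (hψ hc)
        simpa [AddChar.mulShift_apply] using this
      rw [← Finset.add_sum_erase _ _ (Finset.mem_univ (0 : F)), mul_zero, AddChar.map_zero_eq_one] at hsum
      linear_combination hsum
    have h3 : ∑ x : F, eta x * ψ (c * x) = eta c * G := by
      have := gaussSum_mulShift_eq (eta (F := F)) ψ (Units.mk0 c hc)
      rw [eta_isQuadratic.inv] at this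
      simpa [gaussSum, AddChar.mulShift_apply, hG] using this
    rw [h1, h3]
    ring
  obtain ⟨m₁, h1⟩ := key 1 one_ne_zero
  obtain ⟨m₂, h2'⟩ := key ν hν0
  rw [eta_one ⟨1, by ring⟩ one_ne_zero] at h1
  rw [eta_neg_one hν] at h2'
  refine ⟨m₁, m₂, by linear_combination h1 + h2', ?_⟩
  have hd : (Fintype.card F : ℂ) * ((m₁ : ℂ) - m₂) = (A - B) * G := by linear_combination h1 - h2'
  have hq : (Fintype.card F : ℂ) ≠ 0 := by exact_mod_cast Fintype.card_ne_zero
  have he : eta (-1 : F) * eta (-1 : F) = 1 := by rw [← map_mul, neg_mul_neg, one_mul, map_one]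
  refine mul_left_cancel₀ hq ?_
  linear_combination -(eta (-1 : F) * (Fintype.card F * ((m₁ : ℂ) - m₂) + (A - B) * G)) * hd -
    (eta (-1 : F) * (A - B) ^ 2) * hG2 - ((Fintype.card F : ℂ) * (A - B) ^ 2) * he

end CfsgLib.SL2Table
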