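import Mathlib
import Cfsg.Prelude
import Cfsg.Agent.Lib.SL2Table.SL2Fourier

/-!
Conjugacy classes of elements of order `p`, of the Borel subgroup and of the split torus
normaliser of `SL(2, F)`.
-/

namespace CfsgLib.SL2Table

open Matrix

variable {F : Type*} [Field F] [Fintype F]

local notation "S" => Matrix.SpecialLinearGroup (Fin 2) F
local notation "M2" => Matrix (Fin 2) (Fin 2) F

omit [Fintype F] in
theorem card_centralizer_trace_two {g : S} (hn : NonScalar (g : M2)) (ht : (g : M2).trace = 2) :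
    Nat.card (Subgroup.centralizer ({g} : Set S)) = Nat.card ({a : F // a * a = 1} × F) := by
  rw [card_centralizer_sl g hn]
  refine Nat.card_congr
    { toFun := fun p => (⟨p.1.1 + p.1.2, by
        linear_combination p.2 - (p.1.1 * p.1.2) * ht⟩, p.1.2)
      invFun := fun w => ⟨((w.1 : F) - w.2, w.2), by rw [ht]; linear_combination w.1.2⟩
      left_inv := fun p => by apply Subtype.ext; simp
      right_inv := fun w => by apply Prod.ext <;> simp }

theorem order_p_classes_odd (p : ℕ) [Fact p.Prime] [CharP F p] (hp : p ≠ 2) :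
    Nat.card {C : ConjClasses S // ∃ g : S, orderOf g = p ∧ ConjClasses.mk g = C} = 2 ∧
    (∀ g : S, orderOf g = p → Nat.card (ConjClasses.mk g).carrier = (Fintype.card F ^ 2 - 1) / 2) ∧
    ∀ g h : S, (g : M2) 0 0 = 1 → (g : M2) 1 1 = 1 → (g : M2) 1 0 = 0 → (g : M2) 0 1 ≠ 0 →
      (h : M2) 0 0 = 1 → (h : M2) 1 1 = 1 → (h : M2) 1 0 = 0 → (h : M2) 0 1 ≠ 0 →
      (IsConj g h ↔ IsSquare ((g : M2) 0 1 * (h : M2) 0 1)) := by
  classical
  have h2 : (2 : F) ≠ 0 := by
    intro h
    have : p ∣ 2 := (CharP.cast_eq_zero_iff F p 2).1 (by exact_mod_cast h)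
    exact hp ((Nat.prime_dvd_prime_iff_eq Fact.out Nat.prime_two).1 this)
  have hch : ringChar F ≠ 2 := fun e => h2 (by
    haveI := ringChar.of_eq e
    exact CharTwo.two_eq_zero)
  obtain ⟨ν, hν⟩ := FiniteField.exists_nonsquare (F := F) hch
  have hν0 : ν ≠ 0 := fun e => hν (e ▸ IsSquare.zero)
  refine ⟨?_, fun g hg => ?_, fun g h a1 a2 a3 a4 b1 b2 b3 b4 => ?_⟩
  · rw [Nat.card_eq_two_iff]
    refine ⟨⟨_, pSL 1 1 (mul_one 1), orderOf_pSL_one p one_ne_zero, rfl⟩,
      ⟨_, pSL 1 ν (mul_one 1), orderOf_pSL_one p hν0, rfl⟩, fun e => ?_, ?_⟩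
    · have e' : ConjClasses.mk (pSL (1 : F) 1 (mul_one 1)) = ConjClasses.mk (pSL (1 : F) ν (mul_one 1)) :=
        congrArg Subtype.val e
      rw [ConjClasses.mk_eq_mk_iff_isConj] at e'
      obtain ⟨t1, -, q1⟩ := pSL_spec (1 : F) 1 (mul_one 1) one_ne_zero
      obtain ⟨t2, -, q2⟩ := pSL_spec (1 : F) ν (mul_one 1) hν0
      have hs := ((sl_conj_odd_iff h2 (v := ![0, 1]) (w := ![0, 1]) (by rw [q1]; simp) (by rw [q2]; simpa using hν0)).1 e').2
        (by rw [t1]; norm_num)
      rw [q1, q2] at hs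
      exact hν (by simpa using hs)
    · refine Set.eq_univ_iff_forall.2 fun ⟨C, g, hg, hC⟩ => ?_
      subst hC
      obtain ⟨hn, ht⟩ := orderOf_eq_char p hg
      obtain ⟨v, hv⟩ := exists_qf_ne_zero hn
      have key : ∀ x : F, x ≠ 0 → IsSquare (-qf (g : M2) v * x) →
          ConjClasses.mk g = ConjClasses.mk (pSL (1 : F) x (mul_one 1)) := by
        intro x hx hs
        obtain ⟨t1, -, q1⟩ := pSL_spec (1 : F) x (mul_one 1) hx
        rw [ConjClasses.mk_eq_mk_iff_isConj, sl_conj_odd_iff h2 hv (w := ![0, 1]) (by rw [q1]; simpa using hx)]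
        refine ⟨by rw [ht, t1, mul_one], fun _ => ?_⟩
        rw [q1, mul_neg, ← neg_mul]
        exact hs
      by_cases hs : IsSquare (-qf (g : M2) v)
      · exact Or.inl (Subtype.ext (key 1 one_ne_zero (by rwa [mul_one])))
      · exact Or.inr (Subtype.ext (key ν hν0 (isSquare_mul_of_not hs hν)))
  · obtain ⟨hn, ht⟩ := orderOf_eq_char p hg
    have hc : Nat.card {a : F // a * a = 1} = 2 := by
      rw [Nat.card_eq_two_iff]
      refine ⟨⟨1, by simp⟩, ⟨-1, by simp⟩, fun e => h2 ?_, Set.eq_univ_iff_forall.2 fun ⟨a, ha⟩ => ?_⟩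
      · have := congrArg Subtype.val e
        linear_combination this
      · rcases mul_self_eq_one_iff.1 ha with rfl | rfl <;> simp
    have h := card_class_mul g
    rw [card_centralizer_trace_two hn ht, Nat.card_prod, hc, card_sl_two, Nat.card_eq_fintype_card (α := F)] at h
    have hpos : 0 < Fintype.card F := Fintype.card_pos
    have e : Nat.card (ConjClasses.mk g).carrier * 2 = Fintype.card F ^ 2 - 1 :=
      Nat.eq_of_mul_eq_mul_right hpos (by rw [← mul_comm (Fintype.card F) (Fintype.card F ^ 2 - 1), ← h]; ring)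
    omega
  · have hgn : NonScalar (g : M2) := (nonScalar_iff _).2 fun e => a4 e.1
    have hq : ∀ k : S, (k : M2) 0 0 = 1 → (k : M2) 1 1 = 1 → (k : M2) 1 0 = 0 →
        qf (k : M2) ![0, 1] = -(k : M2) 0 1 := fun k c1 c2 c3 => by simp [qf]
    rw [sl_conj_odd_iff h2 (v := ![0, 1]) (w := ![0, 1]) (by rw [hq g a1 a2 a3]; simpa using a4)
      (by rw [hq h b1 b2 b3]; simpa using b4), hq g a1 a2 a3, hq h b1 b2 b3, neg_mul_neg, trace_fin_two,
      trace_fin_two, a1, a2, b1, b2]
    exact ⟨fun e => e.2 (by norm_num), fun e => ⟨rfl, fun _ => e⟩⟩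

theorem order_two_class_even [CharP F 2] (g h : S) (hg : orderOf g = 2) (hh : orderOf h = 2) :
    IsConj g h ∧ Nat.card (ConjClasses.mk g).carrier = Fintype.card F ^ 2 - 1 := by
  obtain ⟨a1, a2⟩ := orderOf_eq_char 2 hg
  obtain ⟨b1, b2⟩ := orderOf_eq_char 2 hh
  refine ⟨sl_conj_even a1 b1 (a2.trans b2.symm), ?_⟩
  have hc : Nat.card {a : F // a * a = 1} = 1 := by
    rw [Nat.card_eq_one_iff_unique]
    refine ⟨⟨fun ⟨a, ha⟩ ⟨b, hb⟩ => ?_⟩, ⟨⟨1, by simp⟩⟩⟩
    rcases mul_self_eq_one_iff.1 ha with rfl | rfl <;> rcases mul_self_eq_one_iff.1 hb with rfl | rfl <;>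
      simp [CharTwo.neg_eq]
  have h := card_class_mul g
  rw [card_centralizer_trace_two a1 a2, Nat.card_prod, hc, one_mul, card_sl_two,
    Nat.card_eq_fintype_card (α := F), mul_comm (Fintype.card F)] at h
  exact Nat.eq_of_mul_eq_mul_right Fintype.card_pos h

theorem slBorel_isConj_iff (p p' : Fˣ × F) :
    IsConj (slBorelEquiv p) (slBorelEquiv p') ↔ p.1 = p'.1 ∧
      ∃ (b : Fˣ) (y : F), p'.2 = (b : F) * b * p.2 + (b : F) * y * (((p.1⁻¹ : Fˣ) : F) - p.1) := by
  have hm : ∀ h : Fˣ × F, ((slBorelEquiv h * slBorelEquiv p * (slBorelEquiv h)⁻¹ : _) : S) =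
      (slBorelEquiv (p.1, (h.1 : F) * h.1 * p.2 + (h.1 : F) * h.2 * (((p.1⁻¹ : Fˣ) : F) - p.1)) : S) := by
    intro h
    apply Subtype.ext
    rw [Subgroup.coe_mul, Subgroup.coe_mul, Subgroup.coe_inv, Matrix.SpecialLinearGroup.coe_mul,
      Matrix.SpecialLinearGroup.coe_mul, Matrix.SpecialLinearGroup.coe_inv, slBorelEquiv_apply,
      slBorelEquiv_apply, slBorelEquiv_apply, adjugate_fin_two_of]
    ext i j
    fin_cases i <;> fin_cases j <;> simp [Matrix.mul_apply, Fin.sum_univ_two] <;> field_simp <;> ring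
  constructor
  · intro h
    obtain ⟨c, hc⟩ := isConj_iff.1 h
    obtain ⟨k, rfl⟩ := slBorelEquiv.surjective c
    have e : slBorelEquiv (p.1, (k.1 : F) * k.1 * p.2 + (k.1 : F) * k.2 * (((p.1⁻¹ : Fˣ) : F) - p.1)) = slBorelEquiv p' := by
      rw [← hc]; exact (Subtype.ext (hm k)).symm
    have e' := slBorelEquiv.injective e
    exact ⟨(congrArg Prod.fst e' :), k.1, k.2, (congrArg Prod.snd e' :).symm⟩
  · rintro ⟨h1, b, y, h2⟩
    refine isConj_iff.2 ⟨slBorelEquiv (b, y), (Subtype.ext (hm (b, y))).trans (congrArg slBorelEquiv ?_)⟩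
    exact Prod.ext h1 h2.symm

theorem card_conjClasses_borel (hodd : Odd (Fintype.card F)) :
    Nat.card (ConjClasses ((Cfsg.upperTriangularGL 2 F).comap (Matrix.SpecialLinearGroup.toGL (n := Fin 2) (R := F)))) =
      Fintype.card F + 3 := by
  classical
  have h2 := two_ne_zero_of_odd hodd
  obtain ⟨ν, hν⟩ := FiniteField.exists_nonsquare (F := F) fun e => h2 (by
    haveI := ringChar.of_eq e
    exact CharTwo.two_eq_zero)
  have hν0 : ν ≠ 0 := fun e => hν (e ▸ IsSquare.zero)
  let rp : Option Bool → F := fun o => o.elim 0 fun b => cond b 1 ν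
  let f : {a : Fˣ // a * a ≠ 1} ⊕ ({a : Fˣ // a * a = 1} × Option Bool) → Fˣ × F :=
    Sum.elim (fun a => (a.1, 0)) (fun w => (w.1.1, rp w.2))
  have hz : ∀ a : Fˣ, a * a = 1 → ((a⁻¹ : Fˣ) : F) - a = 0 := fun a ha => by
    rw [inv_eq_of_mul_eq_one_right ha, sub_self]
  have hbij : Function.Bijective (fun w => ConjClasses.mk (slBorelEquiv (f w))) := by
    constructor
    · rintro (a | ⟨a, o⟩) (a' | ⟨a', o'⟩) h <;>
        simp only [f, Sum.elim_inl, Sum.elim_inr, ConjClasses.mk_eq_mk_iff_isConj, slBorel_isConj_iff] at h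
      · rw [Subtype.ext h.1]
      · exact absurd (by rw [h.1]; exact a'.2) a.2
      · exact absurd (by rw [← h.1]; exact a.2) a'.2
      · obtain ⟨e, b, y, he⟩ := h
        rw [hz a.1 a.2, mul_zero, add_zero] at he
        have ho : o = o' := by
          rcases o with _ | c <;> rcases o' with _ | c'
          · rfl
          · exfalso; cases c' <;> simp [rp, hν0] at he
          · exfalso; cases c <;> simp [rp, hν0] at he
          · cases c <;> cases c' <;> simp [rp] at he ⊢
            · exact hν ⟨(b : F)⁻¹, by field_simp; linear_combination -he⟩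
            · exact hν ⟨(b : F), he⟩
        rw [Subtype.ext e, ho]
    · intro C
      obtain ⟨g, rfl⟩ := ConjClasses.mk_surjective C
      obtain ⟨⟨a, x⟩, rfl⟩ := slBorelEquiv.surjective g
      by_cases ha : a * a = 1
      · by_cases hx : x = 0
        · refine ⟨Sum.inr (⟨a, ha⟩, none), ?_⟩
          simp [f, rp, hx]
        · by_cases hs : IsSquare x
          · obtain ⟨s, rfl⟩ := hs
            have hs0 : s ≠ 0 := fun e => hx (by simp [e])
            refine ⟨Sum.inr (⟨a, ha⟩, some true), ?_⟩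
            simp only [f, Sum.elim_inr, ConjClasses.mk_eq_mk_iff_isConj, slBorel_isConj_iff]
            exact ⟨trivial, Units.mk0 s hs0, 0, by simp [rp]⟩
          · obtain ⟨s, hs'⟩ := isSquare_mul_of_not hs hν
            have hs0 : s ≠ 0 := fun e => mul_ne_zero hx hν0 (by rw [hs', e, mul_zero])
            refine ⟨Sum.inr (⟨a, ha⟩, some false), ?_⟩
            simp only [f, Sum.elim_inr, ConjClasses.mk_eq_mk_iff_isConj, slBorel_isConj_iff]
            refine ⟨trivial, Units.mk0 (s / ν) (div_ne_zero hs0 hν0), 0, ?_⟩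
            simp [rp]
            field_simp
            linear_combination hs'
      · refine ⟨Sum.inl ⟨a, ha⟩, ?_⟩
        simp only [f, Sum.elim_inl, ConjClasses.mk_eq_mk_iff_isConj, slBorel_isConj_iff]
        have hne : ((a⁻¹ : Fˣ) : F) - a ≠ 0 := sub_ne_zero.2 fun e => ha (by
          have := Units.ext e
          rw [← mul_inv_cancel a, this])
        exact ⟨trivial, 1, x / (((a⁻¹ : Fˣ) : F) - a), by
          simp only [Units.val_one, one_mul, mul_zero, zero_add, div_mul_cancel₀ _ hne]⟩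
  have hT : Nat.card {a : Fˣ // a * a = 1} = 2 := by
    rw [Nat.card_eq_two_iff]
    refine ⟨⟨1, by simp⟩, ⟨-1, by simp⟩, fun e => h2 ?_, Set.eq_univ_iff_forall.2 fun ⟨a, ha⟩ => ?_⟩
    · have := congrArg (fun w : {a : Fˣ // a * a = 1} => ((w.1 : Fˣ) : F)) e
      simp at this
      linear_combination this
    · rcases mul_self_eq_one_iff.1 (show (a : F) * a = 1 by rw [← Units.val_mul, ha, Units.val_one]) with e | e
      · exact Or.inl (Subtype.ext (Units.ext e))
      · exact Or.inr (Subtype.ext (Units.ext e))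
  rw [← Nat.card_congr (Equiv.ofBijective _ hbij), Nat.card_sum, Nat.card_prod, hT]
  simp only [Nat.card_eq_fintype_card, Fintype.card_option, Fintype.card_bool] at hT ⊢
  rw [Fintype.card_subtype_compl, hT, Fintype.card_units]
  have := Fintype.one_lt_card (α := F)
  obtain ⟨k, hk⟩ := hodd
  omega

theorem split_torus_normalizer (hodd : Odd (Fintype.card F)) (d : S) (hd01 : (d : M2) 0 1 = 0)
    (hd10 : (d : M2) 1 0 = 0) (hda : (d : M2) 0 0 ^ 2 ≠ 1) :
    (∀ g : S, g ∈ Subgroup.centralizer ({d} : Set S) ↔ ((g : M2) 0 1 = 0 ∧ (g : M2) 1 0 = 0)) ∧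
    Nat.card (Subgroup.normalizer ((Subgroup.centralizer ({d} : Set S)) : Set S)) = 2 * (Fintype.card F - 1) ∧
    Nat.card (ConjClasses (Subgroup.normalizer ((Subgroup.centralizer ({d} : Set S)) : Set S))) = (Fintype.card F + 5) / 2 ∧
    ∀ g : S, g ∈ Subgroup.normalizer ((Subgroup.centralizer ({d} : Set S)) : Set S) →
      g ∉ Subgroup.centralizer ({d} : Set S) → ((g * g) : M2) = -1 := by
  classical
  have h2 := two_ne_zero_of_odd hodd
  have hdet := d.2
  rw [det_fin_two, hd01, zero_mul, sub_zero] at hdet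
  have hne : (d : M2) 0 0 ≠ (d : M2) 1 1 := fun e => hda (by rw [pow_two]; nth_rewrite 2 [e]; exact hdet)
  set T := Subgroup.centralizer ({d} : Set S) with hT
  have hmem : ∀ g : S, g ∈ T ↔ ((g : M2) 0 1 = 0 ∧ (g : M2) 1 0 = 0) := by
    intro g
    rw [hT, mem_centralizer_sl_iff]
    constructor
    · intro h
      have e1 := congrFun (congrFun h 0) 1
      have e2 := congrFun (congrFun h 1) 0
      simp [Matrix.mul_apply, Fin.sum_univ_two, hd01, hd10] at e1 e2
      exact ⟨mul_left_cancel₀ (sub_ne_zero.2 hne) (by linear_combination -e1),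
        mul_left_cancel₀ (sub_ne_zero.2 hne) (by linear_combination e2)⟩
    · rintro ⟨e1, e2⟩
      ext i j
      fin_cases i <;> fin_cases j <;> simp [Matrix.mul_apply, Fin.sum_univ_two, hd01, hd10, e1, e2, mul_comm]
  set N := Subgroup.normalizer (T : Set S) with hN
  have hNmem : ∀ g : S, g ∈ N ↔ ((g : M2) 0 1 = 0 ∧ (g : M2) 1 0 = 0) ∨ ((g : M2) 0 0 = 0 ∧ (g : M2) 1 1 = 0) := by
    intro g
    constructor
    · intro hg
      have hdT : g * d * g⁻¹ ∈ T := (Subgroup.mem_normalizer_iff.1 hg d).1 ((hmem d).2 ⟨hd01, hd10⟩)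
      obtain ⟨e1, e2⟩ := (hmem _).1 hdT
      have hg' := g.2
      rw [det_fin_two] at hg'
      rw [Matrix.SpecialLinearGroup.coe_mul, Matrix.SpecialLinearGroup.coe_mul, Matrix.SpecialLinearGroup.coe_inv,
        adjugate_fin_two] at e1 e2
      simp [Matrix.mul_apply, Fin.sum_univ_two, hd01, hd10] at e1 e2
      have f1 : (g : M2) 0 0 * (g : M2) 0 1 = 0 :=
        mul_left_cancel₀ (sub_ne_zero.2 hne) (by linear_combination -e1)
      have f2 : (g : M2) 1 0 * (g : M2) 1 1 = 0 :=
        mul_left_cancel₀ (sub_ne_zero.2 hne) (by linear_combination e2)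
      by_cases hg0 : (g : M2) 0 0 = 0
      · right
        refine ⟨hg0, ?_⟩
        refine (mul_eq_zero.1 f2).resolve_left fun e => ?_
        rw [hg0, e] at hg'; simp at hg'
      · left
        have h01 := (mul_eq_zero.1 f1).resolve_left hg0
        refine ⟨h01, (mul_eq_zero.1 f2).resolve_right fun e => ?_⟩
        rw [h01, e] at hg'; simp at hg'
    · intro hg
      refine Subgroup.mem_normalizer_iff.2 fun t => ?_
      have key : ∀ (g t : S), (((g : M2) 0 1 = 0 ∧ (g : M2) 1 0 = 0) ∨ ((g : M2) 0 0 = 0 ∧ (g : M2) 1 1 = 0)) →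
          t ∈ T → g * t * g⁻¹ ∈ T := by
        intro g t hg ht
        obtain ⟨a1, a2⟩ := (hmem t).1 ht
        rw [hmem, Matrix.SpecialLinearGroup.coe_mul, Matrix.SpecialLinearGroup.coe_mul, Matrix.SpecialLinearGroup.coe_inv,
          adjugate_fin_two]
        rcases hg with ⟨b1, b2⟩ | ⟨b1, b2⟩ <;> simp [Matrix.mul_apply, Fin.sum_univ_two, a1, a2, b1, b2]
      refine ⟨key g t hg, fun h => ?_⟩
      have := key g⁻¹ _ (by
        rw [Matrix.SpecialLinearGroup.coe_inv, adjugate_fin_two]
        rcases hg with ⟨b1, b2⟩ | ⟨b1, b2⟩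
        · exact Or.inl (by simp [b1, b2])
        · exact Or.inr (by simp [b1, b2])) h
      simpa [mul_assoc] using this
  have heq : ∀ b : Bool, ∀ a : Fˣ, ∃ g : S, (g : M2) = cond b !![(a : F), 0; 0, ((a⁻¹ : Fˣ) : F)] !![0, (a : F); -((a⁻¹ : Fˣ) : F), 0] := by
    intro b a
    cases b <;> exact ⟨⟨_, by simp [det_fin_two]⟩, rfl⟩
  choose mk hmk using heq
  have hbij : Function.Bijective (fun w : Bool × Fˣ => (⟨mk w.1 w.2, (hNmem _).2 (by
      cases w.1 <;> simp [hmk])⟩ : N)) := by
    constructor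
    · rintro ⟨b, a⟩ ⟨b', a'⟩ h
      have h' := congrArg (fun g : N => ((g : S) : M2)) h
      simp only [hmk] at h'
      cases b <;> cases b' <;> simp at h'
      · rw [Units.ext h']
      · rw [Units.ext h']
    · rintro ⟨g, hg⟩
      have hg' := g.2
      rw [det_fin_two] at hg'
      rcases (hNmem g).1 hg with ⟨e1, e2⟩ | ⟨e1, e2⟩ <;> rw [e1, e2] at hg'
      · simp at hg'
        refine ⟨(true, Units.mk0 _ (left_ne_zero_of_mul (by rw [hg']; exact one_ne_zero))), Subtype.ext (Subtype.ext ?_)⟩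
        simp only [hmk]
        ext i j
        fin_cases i <;> fin_cases j <;> simp [e1, e2]
        exact inv_eq_of_mul_eq_one_right hg'
      · simp at hg'
        refine ⟨(false, Units.mk0 _ (left_ne_zero_of_mul (a := (g : M2) 0 1) (b := (g : M2) 1 0) fun e => by
          simp [e] at hg')), Subtype.ext (Subtype.ext ?_)⟩
        simp only [hmk]
        ext i j
        fin_cases i <;> fin_cases j <;> simp [e1, e2]
        rw [neg_eq_iff_eq_neg]
        exact inv_eq_of_mul_eq_one_right (by linear_combination hg')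
  set e := Equiv.ofBijective _ hbij with he
  have hcardN : Nat.card N = 2 * (Fintype.card F - 1) := by
    rw [← Nat.card_congr e, Nat.card_prod]
    simp [Nat.card_eq_fintype_card, Fintype.card_units]
  refine ⟨hmem, hcardN, ?_, fun g hg hgT => ?_⟩
  · have hcomm : ∀ b b' : Bool, ∀ a a' : Fˣ, Commute (e (b, a)) (e (b', a')) ↔
        (b = true ∧ b' = true) ∨ (b = true ∧ b' = false ∧ a * a = 1) ∨ (b = false ∧ b' = true ∧ a' * a' = 1) ∨
          (b = false ∧ b' = false ∧ (a / a') * (a / a') = 1) := by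
      intro b b' a a'
      have hu : ∀ x : Fˣ, x * x = 1 ↔ (x : F) * x = 1 := fun x => by rw [← Units.val_mul, Units.val_eq_one]
      rw [commute_iff_eq, Subtype.ext_iff, Subgroup.coe_mul, Subgroup.coe_mul, he, Equiv.ofBijective_apply,
        Equiv.ofBijective_apply]
      have hext : ∀ x y : S, x = y ↔ (x : M2) = (y : M2) := fun x y => Subtype.ext_iff
      rw [hext]
      simp only [Matrix.SpecialLinearGroup.coe_mul, hmk]
      cases b <;> cases b' <;> simp [hu, Units.val_div_eq_div_val] <;>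
        (try field_simp) <;> grind
    have h2u : Nat.card {a : Fˣ // a * a = 1} = 2 := by
      rw [Nat.card_eq_two_iff]
      refine ⟨⟨1, by simp⟩, ⟨-1, by simp⟩, fun e => h2 ?_, Set.eq_univ_iff_forall.2 fun ⟨a, ha⟩ => ?_⟩
      · have := congrArg (fun w : {a : Fˣ // a * a = 1} => ((w.1 : Fˣ) : F)) e
        simp at this
        linear_combination this
      · rcases mul_self_eq_one_iff.1 (show (a : F) * a = 1 by rw [← Units.val_mul, ha, Units.val_one]) with e | e
        · exact Or.inl (Subtype.ext (Units.ext e))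
        · exact Or.inr (Subtype.ext (Units.ext e))
    have hpairs : Nat.card {p : N × N // Commute p.1 p.2} =
        (Fintype.card F - 1) * (Fintype.card F - 1) + 2 * (2 * (Fintype.card F - 1)) + 2 * (Fintype.card F - 1) := by
      rw [← Nat.card_congr (Equiv.subtypeEquiv (e.prodCongr e) (fun w => Iff.rfl) :
        {w : (Bool × Fˣ) × (Bool × Fˣ) // Commute (e w.1) (e w.2)} ≃ {p : N × N // Commute p.1 p.2})]
      simp only [Nat.card_eq_fintype_card, Fintype.card_subtype, Finset.card_filter, Fintype.sum_prod_type,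
        Fintype.sum_bool, hcomm, Finset.sum_add_distrib]
      simp only [Bool.false_eq_true, false_and, and_false, or_false, false_or, true_and, if_true,
        Finset.sum_const, Finset.card_univ, smul_eq_mul, mul_one, Fintype.card_units]
      have hA : ∀ a : Fˣ, (∑ x : Fˣ, if x * x = 1 then 1 else 0 : ℕ) = 2 := fun _ => by
        rw [← Finset.card_filter, ← Fintype.card_subtype, ← Nat.card_eq_fintype_card, h2u]
      have hB : ∀ a : Fˣ, (∑ x : Fˣ, if a / x * (a / x) = 1 then 1 else 0 : ℕ) = 2 := fun a => by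
        rw [← hA 1]
        exact Fintype.sum_equiv (Equiv.divLeft a) _ _ fun x => rfl
      simp only [hB, Finset.sum_ite, Finset.sum_const, Finset.sum_const_zero, add_zero, Finset.card_univ,
        smul_eq_mul, Fintype.card_units]
      have hF : (Finset.univ.filter fun x : Fˣ => x * x = 1).card = 2 := by
        rw [← Fintype.card_subtype, ← Nat.card_eq_fintype_card, h2u]
      simp [hF, apply_ite Finset.card, Finset.sum_ite, Fintype.card_units, mul_comm]
      ring
    have h := card_comm_eq_card_conjClasses_mul_card N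
    rw [hpairs, hcardN] at h
    obtain ⟨k, hk⟩ := hodd
    have hk0 : 0 < k := by have := Fintype.one_lt_card (α := F); omega
    rw [hk, show 2 * k + 1 - 1 = 2 * k by omega] at h
    have : Nat.card (ConjClasses N) = k + 3 :=
      Nat.eq_of_mul_eq_mul_right (show 0 < 2 * (2 * k) by omega) (h.symm.trans (by ring))
    rw [this, hk]
    omega
  · rcases (hNmem g).1 hg with h | ⟨b1, b2⟩
    · exact absurd ((hmem g).2 h) hgT
    · have hg' := g.2
      rw [det_fin_two, b1, b2] at hg'
      ext i j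
      fin_cases i <;> fin_cases j <;> simp [Matrix.mul_apply, Fin.sum_univ_two, b1, b2] <;> linear_combination -hg'

end CfsgLib.SL2Table
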