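import Mathlib
import Cfsg.Prelude
import Cfsg.Agent.Lib.SL2Table.SL2Fourier
import Cfsg.Agent.Lib.Spectrum.PGL2

/-!
Cyclic subgroups of order `|F| + 1` of `SL(2, F)`, `|F|` odd.
-/

namespace CfsgLib.SL2Table

open Matrix

variable {F : Type*} [Field F] [Fintype F]

local notation "S" => Matrix.SpecialLinearGroup (Fin 2) F
local notation "M2" => Matrix (Fin 2) (Fin 2) F

/-- No eigenvector. -/
def Ell (M : Matrix (Fin 2) (Fin 2) F) : Prop := ∀ (c : F) (v : Fin 2 → F), v ≠ 0 → M.mulVec v ≠ c • v

omit [Fintype F] in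
theorem ell_nonScalar {M : Matrix (Fin 2) (Fin 2) F} (h : Ell M) : NonScalar M := nonScalar_of_elliptic h

omit [Fintype F] in
theorem ell_trace {g : S} (h2 : (2 : F) ≠ 0) (h : Ell (g : M2)) : (g : M2).trace * (g : M2).trace ≠ 4 := by
  intro e
  have := det_add_smul_eq_zero (M := (g : M2)) h (a := -((g : M2).trace / 2)) (b := 1) (by
    rw [det_add_smul, g.2]
    field_simp
    linear_combination -e)
  exact one_ne_zero this.2

omit [Fintype F] in
theorem ell_of_no_root {M : Matrix (Fin 2) (Fin 2) F} (h : ∀ r : F, r * r - M.trace * r + M.det ≠ 0) : Ell M := by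
  intro c v hv e
  refine h c ?_
  have hd : (c • (1 : Matrix (Fin 2) (Fin 2) F) + (-1 : F) • M).det = 0 := by
    refine Matrix.exists_mulVec_eq_zero_iff.1 ⟨v, hv, ?_⟩
    rw [add_mulVec, smul_mulVec, smul_mulVec, one_mulVec, e]
    simp
  rw [det_add_smul] at hd
  linear_combination hd

theorem pow_card_sub_one_of_root (h2 : (2 : F) ≠ 0) {g : S} {r : F}
    (hr : r * r - (g : M2).trace * r + 1 = 0) (h4 : (g : M2).trace * (g : M2).trace ≠ 4) :
    g ^ (Fintype.card F - 1) = 1 := by
  have hr0 : r ≠ 0 := fun e => by simp [e] at hr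
  obtain ⟨d, hd⟩ : ∃ d : S, (d : M2) = !![r, 0; 0, r⁻¹] := ⟨⟨_, by simp [det_fin_two, hr0]⟩, rfl⟩
  have ht : (d : M2).trace = (g : M2).trace := by
    rw [hd, trace_fin_two]
    simp
    field_simp
    linear_combination hr
  have hg : NonScalar (g : M2) := by
    rintro ⟨a, ha⟩
    apply h4
    have h1 := g.2
    rw [ha, det_fin_two] at h1
    simp at h1
    rw [ha, trace_fin_two]
    simp
    linear_combination 4 * h1
  obtain ⟨v, hv⟩ := exists_qf_ne_zero hg
  obtain ⟨w, hw⟩ := exists_qf_eq h2 (M := (d : M2))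
    (by rw [ht, d.2, mul_one]; exact sub_ne_zero.2 h4) (qf (g : M2) v)
  obtain ⟨c, hc⟩ := isConj_iff.1 (sl_isConj g d ht.symm hv hw)
  have hd1 : d ^ (Fintype.card F - 1) = 1 := by
    apply Subtype.ext
    rw [Matrix.SpecialLinearGroup.coe_pow, hd, Matrix.SpecialLinearGroup.coe_one,
      show (!![r, 0; 0, r⁻¹] : M2) = Matrix.diagonal ![r, r⁻¹] by
        ext i j; fin_cases i <;> fin_cases j <;> simp,
      Matrix.diagonal_pow, ← Matrix.diagonal_one]
    congr 1
    funext i
    fin_cases i <;> simp [FiniteField.pow_card_sub_one_eq_one, hr0]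
  rw [← hc, conj_pow] at hd1
  calc g ^ (Fintype.card F - 1) = c⁻¹ * (c * g ^ (Fintype.card F - 1) * c⁻¹) * c := by group
    _ = 1 := by rw [hd1]; group

omit [Fintype F] in
theorem not_nonScalar_of_sq (h2 : (2 : F) ≠ 0) {g : S} (h : g ^ 2 = 1) : ¬ NonScalar (g : M2) := by
  intro hn
  have hsq := congrArg (fun x : S => (x : M2)) h
  simp only [Matrix.SpecialLinearGroup.coe_pow, pow_two, Matrix.SpecialLinearGroup.coe_one] at hsq
  have h01 := congrFun (congrFun hsq 0) 1
  have h10 := congrFun (congrFun hsq 1) 0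
  have h00 := congrFun (congrFun hsq 0) 0
  have h11 := congrFun (congrFun hsq 1) 1
  have hd := g.2
  rw [det_fin_two] at hd
  simp [Matrix.mul_apply, Fin.sum_univ_two] at h01 h10 h00 h11
  by_cases ht : (g : M2) 0 0 + (g : M2) 1 1 = 0
  · have : (2 : F) = 0 := by linear_combination -h00 - hd + (g : M2) 0 0 * ht
    exact h2 this
  · rw [nonScalar_iff] at hn
    refine hn ⟨mul_left_cancel₀ ht (by linear_combination h01), mul_left_cancel₀ ht (by linear_combination h10),
      mul_left_cancel₀ ht (by linear_combination h00 - h11)⟩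

/-- Hypotheses on a non-split torus. -/
structure Torus (C : Subgroup (Matrix.SpecialLinearGroup (Fin 2) F)) : Prop where
  odd : Odd (Fintype.card F)
  cyclic : IsCyclic C
  card : Nat.card C = Fintype.card F + 1

theorem exists_torus (hodd : Odd (Fintype.card F)) : ∃ C : Subgroup S, Torus C := by
  have h2 := two_ne_zero_of_odd hodd
  obtain ⟨ε, hε⟩ := Spectrum.exists_nonsquare' h2
  exact ⟨Spectrum.sl2Torus ε, hodd, Spectrum.isCyclic_sl2Torus h2 (fun e => hε (e ▸ IsSquare.zero)),
    Spectrum.torus_card_nonsplit h2 hε⟩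

namespace Torus

variable {C : Subgroup (Matrix.SpecialLinearGroup (Fin 2) F)} (hT : Torus C)
include hT

theorem two_ne : (2 : F) ≠ 0 := two_ne_zero_of_odd hT.odd

theorem pow_eq_one {c : S} (hc : c ∈ C) : c ^ (Fintype.card F + 1) = 1 := by
  have := congrArg Subtype.val (pow_card_eq_one' (G := C) (x := ⟨c, hc⟩))
  rw [hT.card] at this
  simpa using this

theorem ell {c : S} (hc : c ∈ C) (hn : NonScalar (c : M2)) : Ell (c : M2) := by
  have h2 := hT.two_ne
  obtain ⟨p, hp⟩ := CharP.exists F
  have hpp : p.Prime := CharP.char_is_prime F p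
  haveI : Fact p.Prime := ⟨hpp⟩
  obtain ⟨k, -, hk⟩ := FiniteField.card F p
  have hq : Fintype.card F % 2 = 1 := Nat.odd_iff.1 hT.odd
  have hno : ∀ m : ℕ, c ^ m = 1 → Nat.gcd m (Fintype.card F + 1) ∣ 2 → False := fun m hm hg =>
    not_nonScalar_of_sq h2 (orderOf_dvd_iff_pow_eq_one.1
      ((Nat.dvd_gcd (orderOf_dvd_of_pow_eq_one hm) (orderOf_dvd_of_pow_eq_one (hT.pow_eq_one hc))).trans hg)) hn
  have h4 : (c : M2).trace * (c : M2).trace ≠ 4 := by
    intro e
    set r := (c : M2).trace / 2 with hr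
    have hr1 : r * r = 1 := by rw [hr]; field_simp; linear_combination e
    have hN : ((c : M2) - r • (1 : M2)) ^ 2 = 0 := by
      have hd := c.2
      rw [det_fin_two] at hd
      rw [hr]
      rw [trace_fin_two] at e ⊢
      ext i j
      fin_cases i <;> fin_cases j <;> simp [pow_two, Matrix.mul_apply, Fin.sum_univ_two] <;> field_simp <;>
        first
        | linear_combination e - 4 * hd
        | ring
    refine hno (2 * p) ?_ ?_
    · have hz := sub_pow_char_of_commute (p := p) (((Commute.one_right (c : M2))).smul_right r)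
      rw [pow_eq_zero_of_le hpp.two_le hN, smul_pow, one_pow] at hz
      apply Subtype.ext
      rw [Matrix.SpecialLinearGroup.coe_pow, mul_comm, pow_mul, sub_eq_zero.1 hz.symm, smul_pow, one_pow,
        ← pow_mul, mul_comm, pow_mul, pow_two, hr1, one_pow, one_smul, Matrix.SpecialLinearGroup.coe_one]
    · have hcop : Nat.Coprime p (Fintype.card F + 1) := by
        rw [Nat.Prime.coprime_iff_not_dvd hpp]
        intro h
        have h1 : p ∣ Fintype.card F := hk ▸ dvd_pow_self p k.ne_zero
        exact hpp.not_dvd_one ((Nat.dvd_add_right h1).1 h)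
      rw [Nat.Coprime.gcd_mul_right_cancel 2 hcop]
      exact Nat.gcd_dvd_left _ _
  refine ell_of_no_root fun r hr => ?_
  rw [c.2] at hr
  refine hno (Fintype.card F - 1) (pow_card_sub_one_of_root h2 hr h4) ?_
  have h1 := Nat.gcd_dvd_left (Fintype.card F - 1) (Fintype.card F + 1)
  have h3 := Nat.gcd_dvd_right (Fintype.card F - 1) (Fintype.card F + 1)
  have := Nat.dvd_sub h3 h1
  rwa [show Fintype.card F + 1 - (Fintype.card F - 1) = 2 by omega] at this

theorem comm {a b : S} (ha : a ∈ C) (hb : b ∈ C) : a * b = b * a := by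
  haveI := hT.cyclic
  have := mul_comm' (⟨a, ha⟩ : C) ⟨b, hb⟩
  exact congrArg Subtype.val this

theorem centralizer_eq {c : S} (hc : c ∈ C) (hn : NonScalar (c : M2)) :
    Subgroup.centralizer ({c} : Set S) = C := by
  classical
  have h2 := hT.two_ne
  have hell := hT.ell hc hn
  have hcard : Nat.card (Subgroup.centralizer ({c} : Set S)) = Fintype.card F + 1 := by
    let T := Subgroup.centralizer ({Matrix.SpecialLinearGroup.toGL c} : Set (GL (Fin 2) F))
    let φ : T →* Fˣ := (Units.map (Matrix.detMonoidHom)).comp T.subtype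
    have hφ : Function.Surjective φ := by
      intro a
      obtain ⟨w, hw⟩ := exists_qf_eq h2 (M := comp (c : M2).trace 1)
        (by
          rw [show (comp (c : M2).trace 1).trace = (c : M2).trace by simp [comp, trace_fin_two],
            show (comp (c : M2).trace 1).det = 1 by simp [comp, det_fin_two], mul_one]
          exact sub_ne_zero.2 (ell_trace h2 hell)) (a : F)
      have hdet : (w 0 • (1 : M2) + w 1 • (c : M2)).det = (a : F) := by
        rw [det_add_smul, c.2, ← hw]
        simp [qf, comp]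
      refine ⟨⟨GeneralLinearGroup.mkOfDetNeZero _ (by rw [hdet]; exact a.ne_zero), ?_⟩, Units.ext ?_⟩
      · rw [mem_centralizer_gl_iff]
        change (w 0 • (1 : M2) + w 1 • (c : M2)) * (c : M2) = (c : M2) * (w 0 • (1 : M2) + w 1 • (c : M2))
        simp [add_mul, mul_add]
      · simpa [φ, Matrix.detMonoidHom] using hdet
    have hker : Nat.card φ.ker = Nat.card (Subgroup.centralizer ({c} : Set S)) := Nat.card_congr
      { toFun := fun x => ⟨⟨((x.1 : GL (Fin 2) F) : M2), by
            have h := congrArg Units.val x.2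
            simpa [φ, Matrix.detMonoidHom] using h⟩,
          mem_centralizer_sl_iff.2 (mem_centralizer_gl_iff.1 x.1.2)⟩
        invFun := fun s => ⟨⟨Matrix.SpecialLinearGroup.toGL (s : S), mem_centralizer_gl_iff.2
            (mem_centralizer_sl_iff.1 s.2)⟩, Units.ext (by simp [φ, Matrix.detMonoidHom])⟩
        left_inv := fun x => Subtype.ext (Subtype.ext (Units.ext rfl))
        right_inv := fun s => Subtype.ext (Subtype.ext rfl) }
    have h4 := φ.ker.index_mul_card
    rw [Subgroup.index_ker, MonoidHom.range_eq_top.2 hφ, Subgroup.card_top, hker,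
      card_centralizer_elliptic (Matrix.SpecialLinearGroup.toGL c) hell, Nat.card_units, Nat.card_eq_fintype_card (α := F)] at h4
    have hq : 2 ≤ Fintype.card F := Fintype.one_lt_card
    refine Nat.eq_of_mul_eq_mul_left (show 0 < Fintype.card F - 1 by omega) (h4.trans ?_)
    obtain ⟨m, hm⟩ : ∃ m, Fintype.card F = m + 1 := ⟨Fintype.card F - 1, by omega⟩
    rw [hm, Nat.add_sub_cancel]
    rw [show (m + 1) ^ 2 = m * (m + 1 + 1) + 1 by ring, Nat.add_sub_cancel]
  refine (Subgroup.eq_of_le_of_card_ge (fun x hx => ?_) (by rw [hcard, hT.card])).symm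
  exact Subgroup.mem_centralizer_singleton_iff.2 (hT.comm hx hc)

theorem exists_nonScalar : ∃ c ∈ C, NonScalar (c : M2) := by
  classical
  by_contra h
  push Not at h
  have hinj : Function.Injective (fun c : C => decide (((c : S) : M2) 0 0 = 1)) → False := by
    intro hi
    have := Nat.card_le_card_of_injective _ hi
    rw [hT.card] at this
    simp [Nat.card_eq_fintype_card] at this
    have := Fintype.one_lt_card (α := F)
    omega
  refine hinj fun a b e => ?_
  obtain ⟨x, hx, hx1⟩ := sl_scalar_val (h _ a.2)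
  obtain ⟨y, hy, hy1⟩ := sl_scalar_val (h _ b.2)
  have hne : (-1 : F) ≠ 1 := fun e' => hT.two_ne (by linear_combination -e')
  refine Subtype.ext (Subtype.ext ?_)
  rw [hx, hy]
  simp [hx, hy] at e
  rcases hx1 with rfl | rfl <;> rcases hy1 with rfl | rfl <;> first | rfl | (exfalso; simp_all)

theorem scalar_mem {g : S} (hg : ¬ NonScalar (g : M2)) : g ∈ C := by
  obtain ⟨c, hc, hn⟩ := hT.exists_nonScalar
  obtain ⟨a, ha⟩ := not_not.1 hg
  rw [← hT.centralizer_eq hc hn, mem_centralizer_sl_iff, ha, smul_mul_assoc, one_mul, mul_smul_comm, mul_one]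

theorem neg_one_mem : (-1 : S) ∈ C := hT.scalar_mem (not_not.2 ⟨-1, by simp⟩)

/-- An element of the torus with the trace of a given one is it or its inverse. -/
theorem eq_or_eq_inv {c d : S} (hc : c ∈ C) (hn : NonScalar (c : M2)) (hd : d ∈ C)
    (ht : (d : M2).trace = (c : M2).trace) : d = c ∨ d = c⁻¹ := by
  have h2 := hT.two_ne
  rw [← hT.centralizer_eq hc hn, mem_centralizer_sl_iff] at hd
  obtain ⟨a, b, hab⟩ := exists_eq_add_of_comm hn hd
  have hdet := d.2
  rw [hab, det_add_smul, c.2] at hdet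
  rw [hab, trace_add, trace_smul, trace_smul, trace_one] at ht
  simp at ht
  have h4 := ell_trace h2 (hT.ell hc hn)
  have h : (1 - b) * (1 + b) * ((c : M2).trace * (c : M2).trace - 4) = 0 := by
    linear_combination 4 * hdet - (a * 2 + b * (c : M2).trace + (c : M2).trace) * ht
  rcases mul_eq_zero.1 ((mul_eq_zero.1 h).resolve_right (sub_ne_zero.2 h4)) with e | e
  · left
    have hb : b = 1 := (sub_eq_zero.1 e).symm
    have ha : a = 0 := by
      refine (mul_eq_zero.1 (show a * 2 = 0 by linear_combination ht - (c : M2).trace * hb)).resolve_right h2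
    exact Subtype.ext (by rw [hab, ha, hb]; simp)
  · right
    have hb : b = -1 := by linear_combination e
    have ha : a = (c : M2).trace := mul_right_cancel₀ h2 (by linear_combination ht - (c : M2).trace * hb)
    refine Subtype.ext ?_
    rw [hab, ha, hb, Matrix.SpecialLinearGroup.coe_inv, adjugate_fin_two, trace_fin_two]
    ext i j
    fin_cases i <;> fin_cases j <;> simp

theorem exists_conj {g : S} (hg : Ell (g : M2)) : ∃ c ∈ C, NonScalar (c : M2) ∧ IsConj g c := by
  classical
  have h2 := hT.two_ne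
  obtain ⟨c₀, hc₀, hn₀⟩ := hT.exists_nonScalar
  have h40 := ell_trace h2 (hT.ell hc₀ hn₀)
  set t := (g : M2).trace with ht
  set t₀ := (c₀ : M2).trace with ht₀
  have hroot : ∀ {x : S}, Ell (x : M2) → ¬ IsSquare ((x : M2).trace * (x : M2).trace - 4) := by
    rintro x hx ⟨s, hs⟩
    have := det_add_smul_eq_zero hx (a := -(((x : M2).trace + s) / 2)) (b := 1) (by
      rw [det_add_smul, x.2]
      field_simp
      linear_combination -hs)
    exact one_ne_zero this.2
  have hsq := isSquare_mul_of_not (hroot hg) (hroot (hT.ell hc₀ hn₀))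
  rw [← ht, ← ht₀] at hsq
  obtain ⟨s, hs⟩ := hsq
  have hne : t₀ * t₀ - 4 ≠ 0 := sub_ne_zero.2 h40
  set b := s / (t₀ * t₀ - 4) with hb
  set a := (t - b * t₀) / 2 with ha
  have hdet : a * a + t₀ * a * b + b * b = 1 := by
    have hb' : b * (t₀ * t₀ - 4) = s := by rw [hb, div_mul_cancel₀ _ hne]
    have ha' : 2 * a = t - b * t₀ := by rw [ha]; field_simp
    have h4n : (4 : F) ≠ 0 := by rw [show (4 : F) = 2 * 2 by norm_num]; exact mul_ne_zero h2 h2
    refine mul_left_cancel₀ (mul_ne_zero h4n hne) ?_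
    linear_combination ((t₀ * t₀ - 4) * (2 * a + t - b * t₀ + 2 * t₀ * b)) * ha' -
      (b * (t₀ * t₀ - 4) + s) * hb' + hs
  obtain ⟨c, hc⟩ : ∃ c : S, (c : M2) = a • (1 : M2) + b • (c₀ : M2) :=
    ⟨⟨_, by rw [det_add_smul, c₀.2, one_mul, ← ht₀]; exact hdet⟩, rfl⟩
  have hcC : c ∈ C := by
    rw [← hT.centralizer_eq hc₀ hn₀, mem_centralizer_sl_iff, hc]
    simp [add_mul, mul_add]
  have htr : (c : M2).trace = t := by
    rw [hc, trace_add, trace_smul, trace_smul, trace_one, ← ht₀]
    simp [ha]
    field_simp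
    ring
  have h4 := ell_trace h2 hg
  have hcn : NonScalar (c : M2) := by
    by_contra hs'
    obtain ⟨x, hx, hx1⟩ := sl_scalar_val hs'
    apply h4
    rw [← ht, ← htr, hx, trace_smul, trace_one]
    rcases hx1 with rfl | rfl <;> simp <;> norm_num
  obtain ⟨v, hv⟩ := exists_qf_ne_zero (ell_nonScalar hg)
  obtain ⟨w, hw⟩ := exists_qf_eq h2 (M := (c : M2)) (by rw [htr, c.2, mul_one]; exact sub_ne_zero.2 h4) (qf (g : M2) v)
  exact ⟨c, hcC, hcn, sl_isConj g c htr.symm hv hw⟩

end Torus

end CfsgLib.SL2Table
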