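import Mathlib
import Cfsg.Prelude
import Cfsg.Agent.Lib.SL2Table.SL2Torus
import Cfsg.Agent.Lib.Char.Generalized

/-!
The class functions giving the cuspidal characters of `SL(2, F)`, `|F|` odd.
-/

namespace CfsgLib.SL2Table

open Matrix
open scoped ComplexConjugate

variable {F : Type*} [Field F]

local notation "S" => Matrix.SpecialLinearGroup (Fin 2) F
local notation "M2" => Matrix (Fin 2) (Fin 2) F

/-- The subgroup of the elements `[[e, x], [0, e]]`. -/
def zu (F : Type*) [Field F] : Subgroup (Matrix.SpecialLinearGroup (Fin 2) F) where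
  carrier := {g | (g : Matrix (Fin 2) (Fin 2) F) 1 0 = 0 ∧ (g : Matrix (Fin 2) (Fin 2) F) 0 0 = (g : Matrix (Fin 2) (Fin 2) F) 1 1}
  one_mem' := by simp
  mul_mem' {a b} ha hb := by
    obtain ⟨a1, a2⟩ := ha
    obtain ⟨b1, b2⟩ := hb
    constructor <;> simp [Matrix.mul_apply, Fin.sum_univ_two, a1, a2, b1, b2]
  inv_mem' {a} ha := by
    obtain ⟨a1, a2⟩ := ha
    constructor <;> simp [Matrix.SpecialLinearGroup.coe_inv, adjugate_fin_two, a1, a2]

theorem zu_sq {g : S} (hg : g ∈ zu F) : (g : M2) 0 0 * (g : M2) 0 0 = 1 := by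
  have h := g.2
  rw [det_fin_two, hg.1, ← hg.2] at h
  simpa using h

theorem pSL_mem_zu (e x : F) (he : e * e = 1) : (pSL e x he : S) ∈ zu F := by
  simp [zu, pSL_mat]

theorem pSL_congr {e e' x x' : F} (he : e * e = 1) (he' : e' * e' = 1) (h1 : e = e') (h2 : x = x') :
    (pSL e x he : S) = pSL e' x' he' := by subst h1; subst h2; rfl

theorem eq_pSL {g : S} (hg : g ∈ zu F) : g = pSL ((g : M2) 0 0) ((g : M2) 0 1) (zu_sq hg) := by
  apply Subtype.ext
  rw [pSL_mat]
  ext i j
  fin_cases i <;> fin_cases j <;> simp [hg.1, hg.2]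

variable [Fintype F] [DecidableEq F]

/-- Signs and field elements parametrise `zu`. -/
noncomputable def zuEquiv (h2 : (2 : F) ≠ 0) : Bool × F ≃ zu F :=
  Equiv.ofBijective (fun p => ⟨pSL (cond p.1 1 (-1)) p.2 (by cases p.1 <;> simp), pSL_mem_zu _ _ _⟩) (by
    constructor
    · rintro ⟨b, x⟩ ⟨b', x'⟩ h
      have h' := congrArg (fun g : zu F => ((g : S) : M2)) h
      simp [pSL_mat] at h'
      cases b <;> cases b' <;> simp at h' ⊢
      · exact h'
      · exact h2 (by linear_combination -h'.2)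
      · exact h2 (by linear_combination h'.2)
      · exact h'
    · rintro ⟨g, hg⟩
      rcases mul_self_eq_one_iff.1 (zu_sq hg) with e | e
      · exact ⟨(true, (g : M2) 0 1), Subtype.ext ((pSL_congr (show cond true 1 (-1) * cond true 1 (-1) = (1 : F) by simp) _ e.symm rfl).trans (eq_pSL hg).symm)⟩
      · exact ⟨(false, (g : M2) 0 1), Subtype.ext ((pSL_congr (show cond false 1 (-1) * cond false 1 (-1) = (1 : F) by simp) _ e.symm rfl).trans (eq_pSL hg).symm)⟩)

theorem zuEquiv_apply (h2 : (2 : F) ≠ 0) (p : Bool × F) :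
    (zuEquiv h2 p : S) = pSL (cond p.1 1 (-1)) p.2 (by cases p.1 <;> simp) := rfl

omit [DecidableEq F] in
theorem card_zu (h2 : (2 : F) ≠ 0) : (Nat.card (zu F) : ℂ) = 2 * Fintype.card F := by
  classical
  rw [← Nat.card_congr (zuEquiv h2)]
  simp [Nat.card_eq_fintype_card]

variable (F) in
/-- A fixed primitive additive character. -/
noncomputable def psi : AddChar F ℂ := AddChar.FiniteField.primitiveChar_to_Complex F

omit [DecidableEq F] in
theorem psi_primitive : (psi F).IsPrimitive := AddChar.FiniteField.primitiveChar_to_Complex_isPrimitive (F := F)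

theorem sum_psi_mul {t : F} (ht : t ≠ 0) : ∑ x : F, psi F (t * x) = 0 := by
  have := AddChar.sum_eq_zero_of_ne_one (psi_primitive ht)
  simpa [AddChar.mulShift_apply] using this

theorem sum_psi_erase {t : F} (ht : t ≠ 0) : ∑ x ∈ Finset.univ.erase (0 : F), psi F (t * x) = -1 := by
  have h := sum_psi_mul ht
  rw [← Finset.add_sum_erase _ _ (Finset.mem_univ (0 : F)), mul_zero, AddChar.map_zero_eq_one] at h
  linear_combination h

/-- Two Gauss sums of opposite classes cancel. -/
theorem sum_psi_squares (h2 : (2 : F) ≠ 0) {t ν : F} (ht : t ≠ 0) (hν : ¬ IsSquare ν) :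
    ∑ a : Fˣ, (psi F (t * ((a : F) * a)) + psi F (ν * t * ((a : F) * a))) = -2 := by
  have hν0 : ν ≠ 0 := fun e => hν (e ▸ IsSquare.zero)
  have hchar : ringChar F ≠ 2 := fun e => h2 (by
    haveI := ringChar.of_eq e
    exact CharTwo.two_eq_zero)
  have hroots : ∀ u : F, u ≠ 0 → ∑ a : F, psi F (u * (a * a)) = gaussSum eta (psi F) * eta u := by
    intro u hu
    rw [← Finset.sum_fiberwise Finset.univ (fun a : F => a * a) (fun a => psi F (u * (a * a)))]
    have : ∀ w : F, ∑ a ∈ Finset.univ.filter (fun a : F => a * a = w), psi F (u * (a * a)) =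
        psi F (u * w) + eta w * psi F (u * w) := by
      intro w
      rw [Finset.sum_congr rfl (fun a ha => by rw [(Finset.mem_filter.1 ha).2]), Finset.sum_const, nsmul_eq_mul]
      have hc := quadraticChar_card_sqrts hchar w
      have hset : ({x : F | x ^ 2 = w} : Set F).toFinset = Finset.univ.filter (fun a : F => a * a = w) := by
        ext a; simp [pow_two]
      rw [hset] at hc
      have hc' : ((Finset.univ.filter (fun a : F => a * a = w)).card : ℂ) = eta w + 1 := by
        rw [eta_apply]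
        exact_mod_cast hc
      rw [hc']
      ring
    simp only [this, Finset.sum_add_distrib, sum_psi_mul hu, zero_add]
    have := gaussSum_mulShift_eq (eta (F := F)) (psi F) (Units.mk0 u hu)
    rw [eta_isQuadratic.inv] at this
    simpa [gaussSum, AddChar.mulShift_apply, mul_comm] using this
  have hsplit : ∀ u : F, ∑ a : Fˣ, psi F (u * ((a : F) * a)) = (∑ a : F, psi F (u * (a * a))) - 1 := by
    intro u
    rw [← Finset.add_sum_erase _ _ (Finset.mem_univ (0 : F)), mul_zero, mul_zero, AddChar.map_zero_eq_one,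
      add_sub_cancel_left]
    refine Finset.sum_bij (fun (a : Fˣ) _ => (a : F)) ?_ ?_ ?_ ?_
    · exact fun a _ => Finset.mem_erase.2 ⟨a.ne_zero, Finset.mem_univ _⟩
    · exact fun a _ b _ e => Units.ext e
    · exact fun a ha => ⟨Units.mk0 a (Finset.mem_erase.1 ha).1, Finset.mem_univ _, rfl⟩
    · exact fun a _ => rfl
  rw [Finset.sum_add_distrib, hsplit, hsplit, hroots t ht, hroots (ν * t) (mul_ne_zero hν0 ht), map_mul,
    eta_neg_one hν]
  ring

/-- The function induced from one linear character of `zu`, on a transvection type element. -/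
theorem indFun_zu_transvection (φ : zu F → ℂ) (e z : F) (he : e * e = 1) (hz : z ≠ 0) :
    Cfsg.indFun (zu F) φ (pSL e z he) =
      (Nat.card (zu F) : ℂ)⁻¹ * ((Fintype.card F : ℂ) *
        ∑ a : Fˣ, φ ⟨pSL e (z * ((a : F) * a)) he, pSL_mem_zu _ _ _⟩) := by
  classical
  rw [Char.indFun_apply, ← (slLine (F := F)).cosetEquiv.sum_comp, Fintype.sum_prod_type, Fintype.sum_option]
  congr 1
  have hs : ∀ (s : F) (b : (slLine (F := F)).borel),
      ((slLine (F := F)).cosetEquiv (some s, b))⁻¹ * pSL e z he * (slLine (F := F)).cosetEquiv (some s, b) ∉ zu F := by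
    intro s b h
    rw [(slLine (F := F)).cosetEquiv_some] at h
    set r := (slLine (F := F)).rep s with hr
    have hy : r⁻¹ * pSL e z he * r ∈ (slLine (F := F)).borel := by
      have hm : ((r * (b : S))⁻¹ * pSL e z he * (r * (b : S)) : S) ∈ (slLine (F := F)).borel :=
        (mem_borelSL _).2 h.1
      have := mul_mem (mul_mem b.2 hm) (inv_mem b.2)
      simpa [mul_assoc] using this
    rw [(slLine (F := F)).mem_iff, (slLine (F := F)).mat_conj_rep] at hy
    simp [slLine_mat, pSL_mat] at hy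
    exact hz hy
  rw [Finset.sum_eq_zero (s := (Finset.univ : Finset F))
    (fun s _ => Finset.sum_eq_zero fun b _ => Char.extendByZero_of_notMem _ (hs s b)), add_zero]
  simp only [(slLine (F := F)).cosetEquiv_none]
  rw [show (∑ b : (slLine (F := F)).borel, Cfsg.extendByZero (zu F) φ ((b : S)⁻¹ * pSL e z he * b)) =
      ∑ p : Fˣ × F, Cfsg.extendByZero (zu F) φ ((slBorelEquiv p : S)⁻¹ * pSL e z he * slBorelEquiv p) from
    (slBorelEquiv.sum_comp (fun b : (slLine (F := F)).borel =>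
      Cfsg.extendByZero (zu F) φ ((b : S)⁻¹ * pSL e z he * b))).symm]
  have hb : ∀ p : Fˣ × F, (slBorelEquiv p : S)⁻¹ * pSL e z he * slBorelEquiv p =
      pSL e (z * (((p.1⁻¹ : Fˣ) : F) * ((p.1⁻¹ : Fˣ) : F))) he := by
    intro p
    apply Subtype.ext
    rw [Matrix.SpecialLinearGroup.coe_mul, Matrix.SpecialLinearGroup.coe_mul, Matrix.SpecialLinearGroup.coe_inv,
      slBorelEquiv_apply, pSL_mat, pSL_mat, adjugate_fin_two_of]
    ext i j
    fin_cases i <;> fin_cases j <;> simp [Matrix.mul_apply, Fin.sum_univ_two] <;> field_simp <;> ring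
  simp only [hb, Char.extendByZero_of_mem _ (pSL_mem_zu e _ he), Fintype.sum_prod_type, Finset.sum_const,
    Finset.card_univ, nsmul_eq_mul, ← Finset.mul_sum]
  rw [← Equiv.sum_comp (Equiv.inv Fˣ)]
  simp [Finset.mul_sum]
  exact Finset.sum_congr rfl fun a _ => (Finset.sum_const (s := (Finset.univ : Finset F))
    (φ ⟨pSL e (z * ((a : F) * a)) he, pSL_mem_zu _ _ _⟩)).trans (by rw [Finset.card_univ, nsmul_eq_mul])

variable {C : Subgroup (Matrix.SpecialLinearGroup (Fin 2) F)} (hT : Torus C)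

/-- The scalar part of an element of `zu`, in the torus. -/
noncomputable def scalHom : zu F →* C where
  toFun g := ⟨pSL (((g : S) : M2) 0 0) 0 (zu_sq g.2), hT.scalar_mem (not_not.2
    ⟨((g : S) : M2) 0 0, by rw [pSL_mat]; ext i j; fin_cases i <;> fin_cases j <;> simp⟩)⟩
  map_one' := Subtype.ext (Subtype.ext (by simp [pSL_mat, one_fin_two]))
  map_mul' g h := Subtype.ext (Subtype.ext (by
    have hg : ((g : S) : M2) 1 0 = 0 := g.2.1
    have hh : ((h : S) : M2) 1 0 = 0 := h.2.1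
    simp [pSL_mat, Matrix.mul_apply, Fin.sum_univ_two, hg, hh]))

/-- The linear character of `zu` attached to a character of the torus. -/
noncomputable def phi (ν : F) (θ : C →* ℂˣ) : zu F →* ℂ where
  toFun g := (θ (scalHom hT g) : ℂ) * psi F (ν * (((g : S) : M2) 0 0 * ((g : S) : M2) 0 1))
  map_one' := by simp
  map_mul' g h := by
    have hg : ((g : S) : M2) 1 0 = 0 := g.2.1
    have hg2 : ((g : S) : M2) 0 0 = ((g : S) : M2) 1 1 := g.2.2
    have hh : ((h : S) : M2) 1 0 = 0 := h.2.1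
    have hh2 : ((h : S) : M2) 0 0 = ((h : S) : M2) 1 1 := h.2.2
    rw [map_mul (scalHom hT), map_mul θ, Units.val_mul, Subgroup.coe_mul, Matrix.SpecialLinearGroup.coe_mul,
      mul_mul_mul_comm, ← AddChar.map_add_eq_mul]
    congr 2
    simp [Matrix.mul_apply, Fin.sum_univ_two, hg, hh, ← hg2, ← hh2]
    linear_combination (ν * ((h : S) : M2) 0 0 * ((h : S) : M2) 0 1) * zu_sq g.2 +
      (ν * ((g : S) : M2) 0 0 * ((g : S) : M2) 0 1) * zu_sq h.2

theorem phi_pSL (ν : F) (θ : C →* ℂˣ) (e x : F) (he : e * e = 1) :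
    phi hT ν θ ⟨pSL e x he, pSL_mem_zu e x he⟩ =
      (θ ⟨pSL e 0 he, hT.scalar_mem (not_not.2 ⟨e, by rw [pSL_mat]; ext i j; fin_cases i <;> fin_cases j <;> simp⟩)⟩ : ℂ) *
        psi F (ν * (e * x)) := by
  change (θ (scalHom hT _) : ℂ) * _ = _
  congr 1

include hT in
theorem torus_nonSquare : ∃ ν : F, ¬ IsSquare ν := Spectrum.exists_nonsquare' hT.two_ne

/-- The nonsquare used in the definition. -/
noncomputable def nu : F := (torus_nonSquare hT).choose

theorem nu_spec : ¬ IsSquare (nu hT) := (torus_nonSquare hT).choose_spec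

/-- The cuspidal class function. -/
noncomputable def wFun (θ : C →* ℂˣ) : S → ℂ :=
  Cfsg.indFun (zu F) (fun g => phi hT 1 θ g) + Cfsg.indFun (zu F) (fun g => phi hT (nu hT) θ g) -
    Cfsg.indFun C (fun c => ((θ c : ℂˣ) : ℂ))

theorem wFun_apply (θ : C →* ℂˣ) (g : S) :
    wFun hT θ g = Cfsg.indFun (zu F) (fun g => phi hT 1 θ g) g + Cfsg.indFun (zu F) (fun g => phi hT (nu hT) θ g) g -
      Cfsg.indFun C (fun c => ((θ c : ℂˣ) : ℂ)) g := rfl

theorem isClassFunction_wFun (θ : C →* ℂˣ) : Cfsg.IsClassFunction S (wFun hT θ) :=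
  Char.isClassFunction_sub (Char.isClassFunction_add (Char.isClassFunction_indFun _ _)
    (Char.isClassFunction_indFun _ _)) (Char.isClassFunction_indFun _ _)

theorem isGen_wFun (θ : C →* ℂˣ) : Cfsg.IsGeneralizedCharacter S (wFun hT θ) :=
  Char.isGen_sub (Char.isGen_add (Char.isGen_of_char (Char.isCharacter_indFun _
      (Char.isCharacter_of_isIrr (Char.isIrrCharacter_hom _))))
    (Char.isGen_of_char (Char.isCharacter_indFun _ (Char.isCharacter_of_isIrr (Char.isIrrCharacter_hom _)))))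
    (Char.isGen_of_char (Char.isCharacter_indFun _ (Char.isCharacter_of_isIrr (Char.isIrrCharacter_units_hom _))))

theorem indFun_central_mul {H : Subgroup S} (θ : H →* ℂ) {z : S} (hz : z ∈ H)
    (hc : ∀ x : S, x * z = z * x) (g : S) :
    Cfsg.indFun H (fun h => θ h) (z * g) = θ ⟨z, hz⟩ * Cfsg.indFun H (fun h => θ h) g := by
  rw [Char.indFun_apply, Char.indFun_apply, mul_left_comm]
  congr 1
  rw [Finset.mul_sum]
  refine Finset.sum_congr rfl fun x _ => ?_
  have e : x⁻¹ * (z * g) * x = z * (x⁻¹ * g * x) := by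
    rw [← mul_assoc x⁻¹, hc x⁻¹]; group
  rw [e]
  by_cases h : x⁻¹ * g * x ∈ H
  · rw [Char.extendByZero_of_mem _ h, Char.extendByZero_of_mem _ (mul_mem hz h), ← map_mul]
    rfl
  · rw [Char.extendByZero_of_notMem _ h, mul_zero, Char.extendByZero_of_notMem]
    intro h'
    apply h
    simpa using mul_mem (inv_mem hz) h'

omit [Fintype F] [DecidableEq F] in
theorem scalar_comm {z : S} (h : ¬ NonScalar (z : M2)) (x : S) : x * z = z * x := by
  obtain ⟨a, ha⟩ := not_not.1 h
  apply Subtype.ext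
  rw [Matrix.SpecialLinearGroup.coe_mul, Matrix.SpecialLinearGroup.coe_mul, ha]
  simp

theorem wFun_one (θ : C →* ℂˣ) : wFun hT θ 1 = (Fintype.card F : ℂ) - 1 := by
  have hq : (Fintype.card F : ℂ) ≠ 0 := by exact_mod_cast Fintype.card_ne_zero
  have hcard : (Nat.card S : ℂ) = Fintype.card F * ((Fintype.card F : ℂ) ^ 2 - 1) := by
    rw [card_sl_two, Nat.cast_mul, Nat.cast_sub (Nat.one_le_pow _ _ Fintype.card_pos)]
    simp
  have h1 : ((zu F).index : ℂ) * (2 * Fintype.card F) = Nat.card S := by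
    rw [← card_zu hT.two_ne, ← Nat.cast_mul, Subgroup.index_mul_card]
  have h2 : (C.index : ℂ) * ((Fintype.card F : ℂ) + 1) = Nat.card S := by
    rw [show (Fintype.card F : ℂ) + 1 = (Nat.card C : ℂ) by rw [hT.card]; simp, ← Nat.cast_mul,
      Subgroup.index_mul_card]
  have hne : (Fintype.card F : ℂ) + 1 ≠ 0 := by exact_mod_cast (Nat.succ_ne_zero (Fintype.card F))
  have e1 : ((zu F).index : ℂ) * 2 = (Fintype.card F : ℂ) ^ 2 - 1 :=
    mul_right_cancel₀ hq (by linear_combination h1 + hcard)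
  have e2 : (C.index : ℂ) = Fintype.card F * ((Fintype.card F : ℂ) - 1) :=
    mul_right_cancel₀ hne (by linear_combination h2 + hcard)
  rw [wFun_apply, Char.indFun_one, Char.indFun_one, Char.indFun_one]
  simp
  linear_combination e1 - e2

theorem wFun_scalar_mul (θ : C →* ℂˣ) {z : S} (hz : ¬ NonScalar (z : M2)) (g : S) :
    wFun hT θ (z * g) = (θ ⟨z, hT.scalar_mem hz⟩ : ℂ) * wFun hT θ g := by
  obtain ⟨a, ha, ha1⟩ := sl_scalar_val hz
  have hsq : a * a = 1 := mul_self_eq_one_iff.2 ha1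
  have hzP : z ∈ zu F := by simp [zu, ha]
  have hz' : z = pSL a 0 hsq := Subtype.ext (by rw [ha, pSL_mat]; ext i j; fin_cases i <;> fin_cases j <;> simp)
  have hφ : ∀ ν : F, phi hT ν θ ⟨z, hzP⟩ = (θ ⟨z, hT.scalar_mem hz⟩ : ℂ) := by
    intro ν
    subst hz'
    rw [phi_pSL]
    simp
  have hc : Cfsg.indFun C (fun c => ((θ c : ℂˣ) : ℂ)) (z * g) =
      (θ ⟨z, hT.scalar_mem hz⟩ : ℂ) * Cfsg.indFun C (fun c => ((θ c : ℂˣ) : ℂ)) g :=
    indFun_central_mul ((Units.coeHom ℂ).comp θ) (hT.scalar_mem hz) (scalar_comm hz) g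
  rw [wFun_apply, wFun_apply, indFun_central_mul (phi hT 1 θ) hzP (scalar_comm hz),
    indFun_central_mul (phi hT (nu hT) θ) hzP (scalar_comm hz), hc, hφ, hφ]
  ring

theorem wFun_scalar (θ : C →* ℂˣ) {z : S} (hz : ¬ NonScalar (z : M2)) :
    wFun hT θ z = ((Fintype.card F : ℂ) - 1) * (θ ⟨z, hT.scalar_mem hz⟩ : ℂ) := by
  have := wFun_scalar_mul hT θ hz 1
  rw [mul_one, wFun_one] at this
  rw [this, mul_comm]

theorem wFun_pSL (θ : C →* ℂˣ) (e x : F) (he : e * e = 1) (hx : x ≠ 0) :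
    wFun hT θ (pSL e x he) =
      -(θ ⟨pSL e 0 he, hT.scalar_mem (not_not.2 ⟨e, by rw [pSL_mat]; ext i j; fin_cases i <;> fin_cases j <;> simp⟩)⟩ : ℂ) := by
  obtain ⟨-, hn, -⟩ := pSL_spec e x he hx
  have h0 : Cfsg.indFun C (fun c => ((θ c : ℂˣ) : ℂ)) (pSL e x he) = 0 := by
    refine Char.indFun_eq_zero_of_forall _ fun y hy => ?_
    exfalso
    have hc : IsConj (pSL e x he : S) (y⁻¹ * pSL e x he * y) := isConj_iff.2 ⟨y⁻¹, by simp⟩
    have hn' := (sl_nonScalar_conj hc).1 hn
    apply ell_trace hT.two_ne (hT.ell hy hn')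
    rw [trace_eq_of_isConj hc, (pSL_spec e x he hx).1]
    linear_combination 4 * he
  have he0 : e ≠ 0 := fun h => by simp [h] at he
  rw [wFun_apply, h0, sub_zero, indFun_zu_transvection _ e x he hx, indFun_zu_transvection _ e x he hx]
  simp only [phi_pSL, one_mul, ← Finset.mul_sum]
  rw [card_zu hT.two_ne]
  have hsum := sum_psi_squares hT.two_ne (t := e * x) (mul_ne_zero he0 hx) (nu_spec hT)
  rw [Finset.sum_add_distrib] at hsum
  have hq : (Fintype.card F : ℂ) ≠ 0 := by exact_mod_cast Fintype.card_ne_zero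
  simp only [← mul_assoc, one_mul] at hsum ⊢
  generalize (∑ a : Fˣ, psi F (e * x * (a : F) * (a : F))) = A at hsum ⊢
  generalize (∑ a : Fˣ, psi F (nu hT * e * x * (a : F) * (a : F))) = B at hsum ⊢
  field_simp
  linear_combination hsum

theorem wFun_eq_zero (θ : C →* ℂˣ) {g : S} (h4 : (g : M2).trace * (g : M2).trace ≠ 4) (hell : ¬ Ell (g : M2)) :
    wFun hT θ g = 0 := by
  have hP : ∀ φ : zu F → ℂ, Cfsg.indFun (zu F) φ g = 0 := fun φ => by
    refine Char.indFun_eq_zero_of_forall _ fun y hy => ?_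
    exfalso
    apply h4
    have hc : IsConj g (y⁻¹ * g * y) := isConj_iff.2 ⟨y⁻¹, by simp⟩
    rw [← trace_eq_of_isConj hc, trace_fin_two, ← hy.2]
    linear_combination 4 * zu_sq hy
  have hC : Cfsg.indFun C (fun c => ((θ c : ℂˣ) : ℂ)) g = 0 := by
    refine Char.indFun_eq_zero_of_forall _ fun y hy => ?_
    exfalso
    apply hell
    have hn : NonScalar ((y⁻¹ * g * y : S) : M2) := by
      by_contra hn
      obtain ⟨a, ha, ha1⟩ := sl_scalar_val hn
      apply h4
      rw [← trace_eq_of_isConj (isConj_iff.2 ⟨y⁻¹, by simp⟩ : IsConj g (y⁻¹ * g * y)), ha, trace_smul, trace_one]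
      rcases ha1 with rfl | rfl <;> simp <;> norm_num
    have he := hT.ell hy hn
    intro c v hv hev
    refine he c ((((y⁻¹ : S)) : M2).mulVec v) (fun h => hv ?_) ?_
    · have := congrArg (fun w => (y : M2).mulVec w) h
      simp only [mulVec_mulVec, mulVec_zero, ← Matrix.SpecialLinearGroup.coe_mul, mul_inv_cancel,
        Matrix.SpecialLinearGroup.coe_one, one_mulVec] at this
      exact this
    · rw [mulVec_mulVec, ← Matrix.SpecialLinearGroup.coe_mul, mul_inv_cancel_right,
        Matrix.SpecialLinearGroup.coe_mul, ← mulVec_mulVec, hev, mulVec_smul]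
  rw [wFun_apply, hP, hP, hC]
  ring

include hT in
theorem inv_ne_self {c : S} (hn : NonScalar (c : M2)) : c⁻¹ ≠ c := fun h => by
  refine not_nonScalar_of_sq hT.two_ne ?_ hn
  rw [pow_two]
  nth_rewrite 1 [← h]
  exact inv_mul_cancel c

theorem wFun_torus (θ : C →* ℂˣ) {c : S} (hc : c ∈ C) (hn : NonScalar (c : M2)) :
    wFun hT θ c = -((θ ⟨c, hc⟩ : ℂ) + ((θ ⟨c, hc⟩)⁻¹ : ℂˣ)) := by
  classical
  have hell := hT.ell hc hn
  have h4 := ell_trace hT.two_ne hell
  have hP : ∀ φ : zu F → ℂ, Cfsg.indFun (zu F) φ c = 0 := fun φ => by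
    refine Char.indFun_eq_zero_of_forall _ fun y hy => ?_
    exfalso
    apply h4
    rw [← trace_eq_of_isConj (isConj_iff.2 ⟨y⁻¹, by simp⟩ : IsConj c (y⁻¹ * c * y)), trace_fin_two, ← hy.2]
    linear_combination 4 * zu_sq hy
  obtain ⟨x₀, hx₀⟩ : ∃ x₀ : S, x₀⁻¹ * c * x₀ = c⁻¹ := by
    have ht : ((c⁻¹ : S) : M2).trace = (c : M2).trace := by
      rw [Matrix.SpecialLinearGroup.coe_inv, adjugate_fin_two, trace_fin_two, trace_fin_two]
      simp [add_comm]
    obtain ⟨v, hv⟩ := exists_qf_ne_zero hn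
    obtain ⟨w, hw⟩ := exists_qf_eq hT.two_ne (M := ((c⁻¹ : S) : M2))
      (by rw [ht, (c⁻¹ : S).2, mul_one]; exact sub_ne_zero.2 h4) (qf (c : M2) v)
    obtain ⟨y, hy⟩ := isConj_iff.1 (sl_isConj c c⁻¹ ht.symm hv hw)
    exact ⟨y⁻¹, by rw [inv_inv, hy]⟩
  set A := Finset.univ.filter (fun x : S => x⁻¹ * c * x = c) with hA
  set B := Finset.univ.filter (fun x : S => x⁻¹ * c * x = c⁻¹) with hB
  have hAc : A.card = Fintype.card F + 1 := by
    rw [hA, ← Fintype.card_subtype, ← Nat.card_eq_fintype_card, ← hT.card, ← hT.centralizer_eq hc hn]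
    exact Nat.card_congr (Equiv.subtypeEquivRight fun x => by
      rw [Subgroup.mem_centralizer_singleton_iff]
      constructor
      · intro h
        calc x * c = x * (x⁻¹ * c * x) := by rw [h]
          _ = c * x := by group
      · intro h
        rw [mul_assoc, ← h, inv_mul_cancel_left])
  have hBc : B.card = Fintype.card F + 1 := by
    rw [← hAc]
    symm
    refine Finset.card_bij (fun x _ => x * x₀) (fun x hx => ?_) (fun _ _ _ _ e => mul_right_cancel e) (fun y hy => ?_)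
    · simp only [hA, hB, Finset.mem_filter, Finset.mem_univ, true_and] at hx ⊢
      calc (x * x₀)⁻¹ * c * (x * x₀) = x₀⁻¹ * (x⁻¹ * c * x) * x₀ := by group
        _ = c⁻¹ := by rw [hx, hx₀]
    · simp only [hB, Finset.mem_filter, Finset.mem_univ, true_and] at hy
      refine ⟨y * x₀⁻¹, ?_, inv_mul_cancel_right y x₀⟩
      simp only [hA, Finset.mem_filter, Finset.mem_univ, true_and]
      calc (y * x₀⁻¹)⁻¹ * c * (y * x₀⁻¹) = x₀ * (y⁻¹ * c * y) * x₀⁻¹ := by group
        _ = x₀ * (x₀⁻¹ * c * x₀) * x₀⁻¹ := by rw [hy, hx₀]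
        _ = c := by group
  have hdisj : Disjoint A B := Finset.disjoint_left.2 fun x h1 h2 => inv_ne_self hT hn
    ((Finset.mem_filter.1 h2).2.symm.trans (Finset.mem_filter.1 h1).2)
  have hsum : ∑ x : S, Cfsg.extendByZero C (fun c : C => ((θ c : ℂˣ) : ℂ)) (x⁻¹ * c * x) =
      ((Fintype.card F : ℂ) + 1) * ((θ ⟨c, hc⟩ : ℂ) + ((θ ⟨c, hc⟩)⁻¹ : ℂˣ)) := by
    rw [← Finset.sum_subset (Finset.subset_univ (A ∪ B)) (fun x _ hx => by
      refine Char.extendByZero_of_notMem _ fun hm => hx ?_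
      rcases hT.eq_or_eq_inv hc hn hm (trace_eq_of_isConj (isConj_iff.2 ⟨x⁻¹, by simp⟩)) with e | e
      · exact Finset.mem_union_left _ (Finset.mem_filter.2 ⟨Finset.mem_univ _, e⟩)
      · exact Finset.mem_union_right _ (Finset.mem_filter.2 ⟨Finset.mem_univ _, e⟩)),
      Finset.sum_union hdisj,
      Finset.sum_congr (rfl : A = A) (fun x hx => by rw [(Finset.mem_filter.1 hx).2, Char.extendByZero_of_mem _ hc]),
      Finset.sum_congr (rfl : B = B) (fun x hx => by
        rw [(Finset.mem_filter.1 hx).2, Char.extendByZero_of_mem _ (inv_mem hc)]),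
      Finset.sum_const, Finset.sum_const, hAc, hBc, nsmul_eq_mul, nsmul_eq_mul]
    rw [show (⟨c⁻¹, inv_mem hc⟩ : C) = (⟨c, hc⟩ : C)⁻¹ from rfl, map_inv]
    push_cast
    ring
  rw [wFun_apply, hP, hP, Char.indFun_apply C _ c, hsum, hT.card]
  have hne : (Fintype.card F : ℂ) + 1 ≠ 0 := by exact_mod_cast (Nat.succ_ne_zero (Fintype.card F))
  push_cast
  field_simp
  ring

end CfsgLib.SL2Table
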