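import Mathlib
import Cfsg.Prelude
import Cfsg.Agent.Lib.SL2Table.SL2Cusp

/-!
Inner products of the cuspidal class functions of `SL(2, F)`.
-/

namespace CfsgLib.SL2Table

open Matrix
open scoped ComplexConjugate

variable {F : Type*} [Field F] [Fintype F] [DecidableEq F]

local notation "S" => Matrix.SpecialLinearGroup (Fin 2) F
local notation "M2" => Matrix (Fin 2) (Fin 2) F

variable {C : Subgroup (Matrix.SpecialLinearGroup (Fin 2) F)} (hT : Torus C)

/-- The element `-1` of the torus. -/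
def negC : C := ⟨-1, hT.neg_one_mem⟩

omit [DecidableEq F] in
theorem negC_sq : negC hT * negC hT = 1 := Subtype.ext (by simp [negC])

omit [DecidableEq F] in
theorem theta_negC (θ : C →* ℂˣ) : (θ (negC hT) : ℂ) = 1 ∨ (θ (negC hT) : ℂ) = -1 := by
  refine mul_self_eq_one_iff.1 ?_
  rw [← Units.val_mul, ← map_mul, negC_sq, map_one, Units.val_one]

omit [DecidableEq F] in
theorem conj_theta (θ : C →* ℂˣ) (c : C) : conj (θ c : ℂ) = ((θ c)⁻¹ : ℂˣ) := by
  have hfin : IsOfFinOrder (θ c) := θ.isOfFinOrder (isOfFinOrder_of_finite c)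
  rw [Units.val_inv_eq_inv_val, Complex.inv_eq_conj]
  obtain ⟨n, hn, h⟩ := isOfFinOrder_iff_pow_eq_one.1 hfin
  exact Complex.norm_eq_one_of_pow_eq_one (by rw [← Units.val_pow_eq_pow_val, h, Units.val_one]) hn.ne'

omit [DecidableEq F] in
theorem conj_negC (θ : C →* ℂˣ) : conj (θ (negC hT) : ℂ) = (θ (negC hT) : ℂ) := by
  rcases theta_negC hT θ with e | e <;> simp [e]

include hT in
theorem sum_theta_mul_conj (θ θ' : C →* ℂˣ) [Fintype C] [Decidable (θ = θ')] :
    ∑ c : C, (θ c : ℂ) * conj (θ' c : ℂ) = if θ = θ' then (Fintype.card F : ℂ) + 1 else 0 := by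
  classical
  have h := Char.card_mul_classInner (fun c : C => ((θ c : ℂˣ) : ℂ)) (fun c => ((θ' c : ℂˣ) : ℂ))
  have hc : (Nat.card C : ℂ) = (Fintype.card F : ℂ) + 1 := by rw [hT.card]; simp
  rw [← h, hc]
  split_ifs with e
  · subst e
    rw [Char.classInner_irr_self (Char.isIrrCharacter_units_hom θ), mul_one]
  · rw [Char.classInner_irr_ne (Char.isIrrCharacter_units_hom θ) (Char.isIrrCharacter_units_hom θ'), mul_zero]
    exact fun h => e (MonoidHom.ext fun c => Units.ext (congrFun h c))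

omit [DecidableEq F] in
theorem pSL_sign_mem (b : Bool) : ∃ h : (pSL (cond b (1 : F) (-1)) 0 (by cases b <;> simp) : S) ∈ C,
    (⟨_, h⟩ : C) = cond b 1 (negC hT) := by
  cases b
  · refine ⟨?_, Subtype.ext (Subtype.ext ?_)⟩
    · have e : (pSL (cond false (1 : F) (-1)) 0 (by simp) : S) = -1 :=
        Subtype.ext (by rw [pSL_mat]; ext i j; fin_cases i <;> fin_cases j <;> simp)
      rw [e]; exact hT.neg_one_mem
    · simp [negC, pSL_mat]; ext i j; fin_cases i <;> fin_cases j <;> simp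
  · refine ⟨?_, Subtype.ext (Subtype.ext ?_)⟩
    · have e : (pSL (cond true (1 : F) (-1)) 0 (by simp) : S) = 1 := pSL_zero
      rw [e]; exact one_mem _
    · simp [pSL_mat, one_fin_two]

/-- Values on `zu`. -/
theorem wFun_zuEquiv (θ : C →* ℂˣ) (b : Bool) (x : F) :
    wFun hT θ (zuEquiv hT.two_ne (b, x) : S) =
      (if x = 0 then (Fintype.card F : ℂ) - 1 else -1) * (θ (cond b 1 (negC hT)) : ℂ) := by
  obtain ⟨h, he⟩ := pSL_sign_mem hT b
  rw [zuEquiv_apply]
  simp only
  split_ifs with hx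
  · subst hx
    rw [wFun_scalar, ← he]
    exact not_not.2 ⟨cond b 1 (-1), by rw [pSL_mat]; ext i j; fin_cases i <;> fin_cases j <;> simp⟩
  · rw [wFun_pSL hT θ _ _ _ hx, ← he]
    ring

omit [DecidableEq F] in
theorem bool_sum_eq (θ θ' : C →* ℂˣ) :
    ∑ b : Bool, (θ (cond b 1 (negC hT)) : ℂ) * conj (θ' (cond b 1 (negC hT)) : ℂ) =
      1 + (θ (negC hT) : ℂ) * (θ' (negC hT) : ℂ) := by
  simp [conj_negC hT]

theorem inner_phi_wFun (θ θ' : C →* ℂˣ) {ν : F} (hν : ν ≠ 0) [Fintype (zu F)] :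
    Cfsg.classInner (fun g => phi hT ν θ g) (fun g : zu F => wFun hT θ' g) =
      (1 + (θ (negC hT) : ℂ) * (θ' (negC hT) : ℂ)) / 2 := by
  classical
  rw [Char.classInner_def, card_zu hT.two_ne, ← (zuEquiv hT.two_ne).sum_comp, Fintype.sum_prod_type]
  have hphi : ∀ (b : Bool) (x : F), phi hT ν θ (zuEquiv hT.two_ne (b, x)) =
      (θ (cond b 1 (negC hT)) : ℂ) * psi F (ν * (cond b 1 (-1) * x)) := by
    intro b x
    obtain ⟨h, he⟩ := pSL_sign_mem hT b
    rw [← he]
    exact phi_pSL hT ν θ _ x _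
  have hin : ∀ b : Bool, ∑ x : F, phi hT ν θ (zuEquiv hT.two_ne (b, x)) * conj (wFun hT θ' (zuEquiv hT.two_ne (b, x) : S)) =
      (Fintype.card F : ℂ) * ((θ (cond b 1 (negC hT)) : ℂ) * conj (θ' (cond b 1 (negC hT)) : ℂ)) := by
    intro b
    simp only [hphi, wFun_zuEquiv, map_mul, apply_ite conj, map_sub, map_one, map_natCast, map_neg]
    rw [← Finset.add_sum_erase _ _ (Finset.mem_univ (0 : F)), if_pos rfl, mul_zero, mul_zero,
      AddChar.map_zero_eq_one, Finset.sum_congr rfl (fun x hx => by rw [if_neg (Finset.mem_erase.1 hx).1]),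
      ← Finset.sum_mul, ← Finset.mul_sum]
    have hp : ∑ x ∈ Finset.univ.erase (0 : F), psi F (ν * (cond b 1 (-1) * x)) = -1 := by
      simp only [← mul_assoc]
      exact sum_psi_erase (mul_ne_zero hν (by cases b <;> simp))
    rw [hp]
    ring
  rw [Finset.sum_congr rfl (fun b _ => hin b), ← Finset.mul_sum, bool_sum_eq]
  have hq : (Fintype.card F : ℂ) ≠ 0 := by exact_mod_cast Fintype.card_ne_zero
  field_simp

theorem wFun_torus_all (θ : C →* ℂˣ) (c : C) :
    wFun hT θ (c : S) = -((θ c : ℂ) + ((θ c)⁻¹ : ℂˣ)) +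
      (if c = 1 ∨ c = negC hT then ((Fintype.card F : ℂ) + 1) * (θ c : ℂ) else 0) := by
  by_cases hn : NonScalar ((c : S) : M2)
  · rw [wFun_torus hT θ c.2 hn, if_neg, add_zero]
    rintro (rfl | rfl)
    · exact hn ⟨1, by simp⟩
    · exact hn ⟨-1, by simp [negC]⟩
  · have hc : c = 1 ∨ c = negC hT := by
      obtain ⟨a, ha, ha1⟩ := sl_scalar_val hn
      rcases ha1 with rfl | rfl
      · exact Or.inl (Subtype.ext (Subtype.ext (by simp [ha])))
      · exact Or.inr (Subtype.ext (Subtype.ext (by simp [negC, ha])))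
    have hsq : (θ c : ℂ) * (θ c : ℂ) = 1 := by
      rcases hc with rfl | rfl
      · simp
      · rw [← Units.val_mul, ← map_mul, negC_sq, map_one, Units.val_one]
    rw [wFun_scalar hT θ hn, if_pos hc]
    rw [show ((θ c)⁻¹ : ℂˣ) = θ c from inv_eq_of_mul_eq_one_right (Units.ext hsq)]
    ring

theorem inner_theta_wFun (θ θ' : C →* ℂˣ) [Fintype C] [Decidable (θ = θ')] [Decidable (θ = θ'⁻¹)] :
    Cfsg.classInner (fun c => ((θ c : ℂˣ) : ℂ)) (fun c : C => wFun hT θ' c) =
      (1 + (θ (negC hT) : ℂ) * (θ' (negC hT) : ℂ)) - (if θ = θ' then 1 else 0) - (if θ = θ'⁻¹ then 1 else 0) := by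
  classical
  have hq : (Fintype.card F : ℂ) + 1 ≠ 0 := by exact_mod_cast (Nat.succ_ne_zero (Fintype.card F))
  rw [Char.classInner_def, show (Nat.card C : ℂ) = (Fintype.card F : ℂ) + 1 by rw [hT.card]; simp]
  simp only [wFun_torus_all, map_add, map_neg, apply_ite conj, map_zero, map_mul, map_natCast, map_one,
    mul_add, mul_neg, mul_ite, mul_zero, Finset.sum_add_distrib, Finset.sum_neg_distrib]
  have h1 : ∑ c : C, (θ c : ℂ) * conj (((θ' c)⁻¹ : ℂˣ) : ℂ) = if θ = θ'⁻¹ then (Fintype.card F : ℂ) + 1 else 0 :=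
    sum_theta_mul_conj hT θ θ'⁻¹
  rw [sum_theta_mul_conj hT, h1, ← Finset.sum_filter]
  have hne : (1 : C) ≠ negC hT := fun e => by
    have := congrArg (fun c : C => ((c : S) : M2) 0 0) e
    simp [negC] at this
    exact hT.two_ne (by linear_combination this)
  rw [show (Finset.univ.filter fun c : C => c = 1 ∨ c = negC hT) = {1, negC hT} from Finset.ext fun c => by simp,
    Finset.sum_pair hne, conj_negC hT]
  simp
  split_ifs <;> field_simp <;> ring

theorem classInner_wFun (θ θ' : C →* ℂˣ) [Decidable (θ = θ')] [Decidable (θ = θ'⁻¹)] :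
    Cfsg.classInner (wFun hT θ) (wFun hT θ') = (if θ = θ' then 1 else 0) + (if θ = θ'⁻¹ then 1 else 0) := by
  classical
  have h1 := Char.frobenius_reciprocity (zu F) (fun g => phi hT 1 θ g) (isClassFunction_wFun hT θ')
  have h2 := Char.frobenius_reciprocity (zu F) (fun g => phi hT (nu hT) θ g) (isClassFunction_wFun hT θ')
  have h3 := Char.frobenius_reciprocity C (fun c => ((θ c : ℂˣ) : ℂ)) (isClassFunction_wFun hT θ')
  have hν : nu hT ≠ 0 := fun e => nu_spec hT (e ▸ IsSquare.zero)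
  rw [wFun, Char.classInner_sub_left, Char.classInner_add_left, h1, h2, h3, inner_phi_wFun hT θ θ' one_ne_zero,
    inner_phi_wFun hT θ θ' hν, inner_theta_wFun hT θ θ']
  ring

theorem classInner_wFun_pr (θ : C →* ℂˣ) (α : MulChar F ℂ) :
    Cfsg.classInner (wFun hT θ) (pr α) = 0 := by
  classical
  have hfr := Char.frobenius_reciprocity' (Subgroup.comap (Matrix.SpecialLinearGroup.toGL (n := Fin 2) (R := F))
    (Cfsg.upperTriangularGL 2 F)) (fun b => α (((b : S) : M2) 0 0)) (isClassFunction_wFun hT θ)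
  refine hfr.trans ?_
  rw [Char.classInner_def, ← slBorelEquiv.sum_comp, Fintype.sum_prod_type]
  refine mul_eq_zero_of_right _ (Finset.sum_eq_zero fun a _ => ?_)
  simp only [slBorelEquiv_apply, cons_val', cons_val_zero, empty_val', cons_val_fin_one, of_apply, ← Finset.sum_mul]
  refine mul_eq_zero_of_left ?_ _
  by_cases ha : (a : F) * a = 1
  · have hval : ∀ x : F, (slBorelEquiv (a, x) : S) = pSL (a : F) x ha := fun x => by
      apply Subtype.ext
      rw [slBorelEquiv_apply, pSL_mat, show (a⁻¹ : Fˣ) = a from inv_eq_of_mul_eq_one_right (Units.ext ha)]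
    simp only [hval]
    rw [← Finset.add_sum_erase _ _ (Finset.mem_univ (0 : F)),
      Finset.sum_congr rfl (fun x hx => wFun_pSL hT θ (a : F) x ha (Finset.mem_erase.1 hx).1),
      Finset.sum_const, Finset.card_erase_of_mem (Finset.mem_univ _), Finset.card_univ, nsmul_eq_mul,
      wFun_scalar hT θ (z := pSL (a : F) 0 ha) (not_not.2 ⟨(a : F), by rw [pSL_mat]; ext i j; fin_cases i <;> fin_cases j <;> simp⟩),
      Nat.cast_sub Fintype.card_pos]
    simp
  · refine Finset.sum_eq_zero fun x _ => wFun_eq_zero hT θ ?_ ?_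
    · rw [slBorelEquiv_apply, trace_fin_two_of, Units.val_inv_eq_inv_val]
      intro e
      apply ha
      have hsq : ((a : F) * a - 1) * ((a : F) * a - 1) = 0 := by
        field_simp at e
        linear_combination e
      exact sub_eq_zero.1 (mul_self_eq_zero.1 hsq)
    · intro he
      refine he (a : F) ![1, 0] (by simp) ?_
      rw [slBorelEquiv_apply]
      funext i; fin_cases i <;> simp [mulVec, dotProduct]

theorem classInner_wFun_one (θ : C →* ℂˣ) (hθ : θ ≠ 1) : Cfsg.classInner (wFun hT θ) (fun _ => 1) = 0 := by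
  classical
  have hc : Cfsg.IsClassFunction S (fun _ : S => (1 : ℂ)) := Char.isClassFunction_const 1
  have hφ : ∀ ν : F, ν ≠ 0 → (fun g => phi hT ν θ g) ≠ (fun _ : zu F => (1 : ℂ)) := by
    intro ν hν h
    have hne : ∃ x : F, psi F (ν * x) ≠ 1 := by
      by_contra hall
      push Not at hall
      have := sum_psi_mul hν
      simp [hall] at this
    obtain ⟨x, hx⟩ := hne
    have := congrFun h ⟨pSL 1 x (mul_one 1), pSL_mem_zu _ _ _⟩
    rw [phi_pSL] at this
    rw [show (⟨pSL (1 : F) 0 (mul_one 1), _⟩ : C) = 1 from Subtype.ext pSL_zero, map_one, Units.val_one,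
      one_mul, one_mul] at this
    exact hx this
  rw [wFun, Char.classInner_sub_left, Char.classInner_add_left, Char.frobenius_reciprocity _ _ hc,
    Char.frobenius_reciprocity _ _ hc, Char.frobenius_reciprocity _ _ hc,
    Char.classInner_irr_ne (Char.isIrrCharacter_hom _) Char.isIrrCharacter_one (hφ 1 one_ne_zero),
    Char.classInner_irr_ne (Char.isIrrCharacter_hom _) Char.isIrrCharacter_one (hφ _ fun e => nu_spec hT (by rw [e]; exact IsSquare.zero)),
    Char.classInner_irr_ne (Char.isIrrCharacter_units_hom _) Char.isIrrCharacter_one]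
  · simp
  · exact fun h => hθ (MonoidHom.ext fun c => Units.ext (congrFun h c))

theorem wFun_unipotent (θ : C →* ℂˣ) {g : S} (hn : NonScalar (g : M2)) {e : F} (he : e * e = 1)
    (ht : (g : M2).trace = 2 * e) :
    wFun hT θ g = -(θ ⟨pSL e 0 he, hT.scalar_mem (not_not.2 ⟨e, by rw [pSL_mat]; ext i j; fin_cases i <;> fin_cases j <;> simp⟩)⟩ : ℂ) := by
  obtain ⟨v, hv⟩ := exists_qf_ne_zero hn
  have hne : -qf (g : M2) v ≠ 0 := neg_ne_zero.2 hv
  obtain ⟨a1, a2, a3⟩ := pSL_spec e (-qf (g : M2) v) he hne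
  have hconj : IsConj g (pSL e (-qf (g : M2) v) he) :=
    sl_isConj _ _ (ht.trans a1.symm) hv (w := ![0, 1]) (by rw [a3, neg_neg])
  rw [Char.isClassFunction_iff.mp (isClassFunction_wFun hT θ) _ _ hconj, wFun_pSL hT θ _ _ _ hne]

/-- The cuspidal class functions are invariant under `GL(2, F)`. -/
theorem wFun_slConj (θ : C →* ℂˣ) (x : GL (Fin 2) F) (g : S) : wFun hT θ (slConj x g) = wFun hT θ g := by
  have h2 := hT.two_ne
  obtain ⟨ht, -⟩ := gl_trace_conj x (Matrix.SpecialLinearGroup.toGL g)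
  rw [← toGL_slConj] at ht
  change ((slConj x g : S) : M2).trace = (g : M2).trace at ht
  have hns : NonScalar ((slConj x g : S) : M2) ↔ NonScalar (g : M2) := by
    have := nonScalar_conj x (Matrix.SpecialLinearGroup.toGL g)
    rw [← toGL_slConj] at this
    exact this
  by_cases hn : NonScalar (g : M2)
  · by_cases h4 : (g : M2).trace * (g : M2).trace = 4
    · obtain ⟨e, he, hte⟩ : ∃ e : F, e * e = 1 ∧ (g : M2).trace = 2 * e := by
        rcases mul_self_eq_mul_self_iff.1 (show (g : M2).trace * (g : M2).trace = 2 * 2 by rw [h4]; norm_num) with e | e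
        · exact ⟨1, by simp, by rw [e, mul_one]⟩
        · exact ⟨-1, by simp, by rw [e]; ring⟩
      rw [wFun_unipotent hT θ hn he hte, wFun_unipotent hT θ (hns.2 hn) he (ht.trans hte)]
    · obtain ⟨v, hv⟩ := exists_qf_ne_zero hn
      obtain ⟨w, hw⟩ := exists_qf_eq h2 (M := ((slConj x g : S) : M2))
        (by rw [ht, (slConj x g).2, mul_one]; exact sub_ne_zero.2 h4) (qf (g : M2) v)
      exact (Char.isClassFunction_iff.mp (isClassFunction_wFun hT θ) _ _ (sl_isConj g _ ht.symm hv hw)).symm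
  · congr 1
    obtain ⟨a, ha⟩ := not_not.1 hn
    apply Subtype.ext
    change (x : M2) * (g : M2) * ((x⁻¹ : GL (Fin 2) F) : M2) = (g : M2)
    rw [ha, mul_smul_comm, mul_one, smul_mul_assoc, ← GeneralLinearGroup.coe_mul, mul_inv_cancel]
    simp

end CfsgLib.SL2Table
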