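import Mathlib
import Cfsg.Prelude
import Cfsg.Agent.Lib.SL2Table.SL2CuspInner
import Cfsg.Agent.Lib.Char.Integral

/-!
Sums of two irreducible characters of `SL(2, F)` invariant under `GL(2, F)`.
-/

namespace CfsgLib.SL2Table

open Matrix
open scoped ComplexConjugate

variable {F : Type*} [Field F] [Fintype F] [DecidableEq F]

local notation "S" => Matrix.SpecialLinearGroup (Fin 2) F
local notation "M2" => Matrix (Fin 2) (Fin 2) F

omit [Fintype F] [DecidableEq F] in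
theorem slConj_mul (x y : GL (Fin 2) F) (g : S) : slConj (x * y) g = slConj x (slConj y g) :=
  (eq_slConj (x := x) (g := slConj y g) (by rw [toGL_slConj, toGL_slConj, _root_.mul_inv_rev]; group) :
    slConj (x * y) g = slConj x (slConj y g))

omit [Fintype F] [DecidableEq F] in
theorem slConj_toGL (s g : S) : slConj (Matrix.SpecialLinearGroup.toGL s) g = s * g * s⁻¹ :=
  (eq_slConj (by simp only [map_mul, map_inv])).symm

omit [Fintype F] [DecidableEq F] in
theorem slConj_one (g : S) : slConj (1 : GL (Fin 2) F) g = g := by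
  rw [← map_one (Matrix.SpecialLinearGroup.toGL (n := Fin 2) (R := F)), slConj_toGL]; group

omit [Fintype F] [DecidableEq F] in
theorem slConj_scalar {c : F} (hc : c ≠ 0) (g : S) :
    slConj (GeneralLinearGroup.mkOfDetNeZero (c • (1 : M2)) (by simp [hc])) g = g := by
  apply Subtype.ext
  set x : GL (Fin 2) F := GeneralLinearGroup.mkOfDetNeZero (c • (1 : M2)) (by simp [hc]) with hx
  have h : ((x⁻¹ : GL (Fin 2) F) : M2) = c⁻¹ • (1 : M2) := by
    have h1 : ((x⁻¹ : GL (Fin 2) F) : M2) * (x : M2) = 1 := by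
      rw [← GeneralLinearGroup.coe_mul, inv_mul_cancel]; simp
    refine left_inv_eq_right_inv h1 ?_
    simp [hx, smul_smul, mul_inv_cancel₀ hc, inv_mul_cancel₀ hc]
  change (x : M2) * (g : M2) * ((x⁻¹ : GL (Fin 2) F) : M2) = (g : M2)
  rw [h, hx]
  simp [smul_smul, inv_mul_cancel₀ hc]

/-- Conjugation by an element of `GL(2, F)` as an automorphism of `SL(2, F)`. -/
def slConjEquiv (x : GL (Fin 2) F) : S ≃* S where
  toFun := slConj x
  invFun := slConj x⁻¹
  left_inv g := by rw [← slConj_mul, inv_mul_cancel, slConj_one]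
  right_inv g := by rw [← slConj_mul, mul_inv_cancel, slConj_one]
  map_mul' := map_mul (slConj x)

theorem isIrr_slConj {χ : S → ℂ} (hχ : Cfsg.IsIrrCharacter S χ) (x : GL (Fin 2) F) :
    Cfsg.IsIrrCharacter S (fun g => χ (slConj x g)) := by
  refine Char.irr_iff_norm_one.2 ⟨Char.isCharacter_comp (Char.isCharacter_of_isIrr hχ) (slConj x), ?_⟩
  exact (Char.classInner_comp_mulEquiv (slConjEquiv x) χ χ).trans (Char.classInner_irr_self hχ)

theorem swap_or_fix {χ ψ : S → ℂ} (hχ : Cfsg.IsIrrCharacter S χ) (hψ : Cfsg.IsIrrCharacter S ψ) (hne : χ ≠ ψ)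
    (hR : ∀ x g, χ (slConj x g) + ψ (slConj x g) = χ g + ψ g) (x : GL (Fin 2) F) :
    ((∀ g, χ (slConj x g) = χ g) ∧ ∀ g, ψ (slConj x g) = ψ g) ∨
      ((∀ g, χ (slConj x g) = ψ g) ∧ ∀ g, ψ (slConj x g) = χ g) := by
  classical
  have hχ' := isIrr_slConj hχ x
  have hψ' := isIrr_slConj hψ x
  have heq : (fun g => χ (slConj x g)) + (fun g => ψ (slConj x g)) = χ + ψ := funext (hR x)
  have h1 := congrArg (fun f => Cfsg.classInner f (fun g => χ (slConj x g))) heq
  simp only [Char.classInner_add_left, Char.classInner_irr_self hχ', Char.classInner_irr hψ' hχ',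
    Char.classInner_irr hχ hχ', Char.classInner_irr hψ hχ'] at h1
  by_cases e1 : χ = fun g => χ (slConj x g)
  · left
    refine ⟨fun g => (congrFun e1 g).symm, fun g => ?_⟩
    have := hR x g
    rw [← congrFun e1 g] at this
    linear_combination this
  · by_cases e2 : ψ = fun g => χ (slConj x g)
    · right
      refine ⟨fun g => (congrFun e2 g).symm, fun g => ?_⟩
      have := hR x g
      rw [← congrFun e2 g] at this
      linear_combination this
    · exfalso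
      rw [if_neg e1, if_neg e2] at h1
      split_ifs at h1 <;> norm_num at h1

/-- A linear character trivial on the upper unipotent subgroup is trivial. -/
theorem linear_trivial {χ : S → ℂ} (hχ : Cfsg.IsCharacter S χ) (h1 : χ 1 = 1)
    (hu : ∀ x : F, χ (pSL 1 x (mul_one 1)) = 1) (g : S) : χ g = 1 := by
  have hcl := Char.isClassFunction_of_isCharacter hχ
  obtain ⟨w, hw⟩ := exists_qf_ne_zero (cSL_spec (0 : F)).2
  choose l hl using fun x : F => (⟨⟨!![1, 0; x, 1], by simp [det_fin_two]⟩, rfl⟩ :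
    ∃ s : S, (s : M2) = !![1, 0; x, 1])
  have hl1 : ∀ x : F, χ (l x) = 1 := by
    intro x
    obtain ⟨j, hj⟩ : ∃ j : S, (j : M2) = !![0, 1; -1, 0] := ⟨⟨_, by simp [det_fin_two]⟩, rfl⟩
    rw [← hu (-x)]
    refine Char.isClassFunction_iff.mp hcl _ _ (isConj_iff.2 ⟨j, ?_⟩)
    apply Subtype.ext
    rw [Matrix.SpecialLinearGroup.coe_mul, Matrix.SpecialLinearGroup.coe_mul, Matrix.SpecialLinearGroup.coe_inv,
      hj, hl, pSL_mat, adjugate_fin_two_of]
    ext a b
    fin_cases a <;> fin_cases b <;> simp [Matrix.mul_apply, Fin.sum_univ_two]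
  have hgen : ∀ g : S, (g : M2) 1 0 ≠ 0 → χ g = 1 := by
    intro g hg
    have e : g = pSL 1 (((g : M2) 0 0 - 1) / (g : M2) 1 0) (mul_one 1) * l ((g : M2) 1 0) *
        pSL 1 (((g : M2) 1 1 - 1) / (g : M2) 1 0) (mul_one 1) := by
      apply Subtype.ext
      have hd := g.2
      rw [det_fin_two] at hd
      rw [Matrix.SpecialLinearGroup.coe_mul, Matrix.SpecialLinearGroup.coe_mul, hl, pSL_mat, pSL_mat]
      ext a b
      fin_cases a <;> fin_cases b <;> simp [Matrix.mul_apply, Fin.sum_univ_two] <;> field_simp <;>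
        first
        | linear_combination hd
        | linear_combination -hd
        | ring
    rw [e, Char.linear_map_mul hχ h1, Char.linear_map_mul hχ h1, hu, hu, hl1, one_mul, one_mul]
  by_cases hg : (g : M2) 1 0 = 0
  · have h11 : (g : M2) 1 1 ≠ 0 := by
      have hd := g.2
      rw [det_fin_two, hg, mul_zero, sub_zero] at hd
      exact right_ne_zero_of_mul (by rw [hd]; exact one_ne_zero)
    have := hgen (g * l 1) (by
      rw [Matrix.SpecialLinearGroup.coe_mul, hl]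
      simp [Matrix.mul_apply, Fin.sum_univ_two, hg, h11])
    rwa [Char.linear_map_mul hχ h1, hl1, mul_one] at this
  · exact hgen g hg

omit [DecidableEq F] in
theorem det_ne_zero_gl (x : GL (Fin 2) F) : (x : M2).det ≠ 0 := gl_det_ne_zero x

theorem swap_all {χ ψ : S → ℂ} (hχ : Cfsg.IsClassFunction S χ) (hψ : Cfsg.IsClassFunction S ψ) {ν : F} (hν : ν ≠ 0)
    (hnsq : ¬ IsSquare ν)
    (h : (∀ g, χ (slConj (diagGL ν hν) g) = ψ g) ∧ ∀ g, ψ (slConj (diagGL ν hν) g) = χ g)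
    (x : GL (Fin 2) F) (hx : ¬ IsSquare (x : M2).det) (g : S) :
    χ (slConj x g) = ψ g ∧ ψ (slConj x g) = χ g := by
  have hsq := isSquare_mul_of_not hx hnsq
  obtain ⟨r, hr⟩ := hsq
  have hr0 : r ≠ 0 := fun e => mul_ne_zero (det_ne_zero_gl x) hν (by rw [hr, e, mul_zero])
  set c := r / ν with hc
  have hc0 : c ≠ 0 := div_ne_zero hr0 hν
  set z : GL (Fin 2) F := GeneralLinearGroup.mkOfDetNeZero (c • (1 : M2)) (by simp [hc0]) with hz
  obtain ⟨s, hs⟩ : ∃ s : S, x = z * diagGL ν hν * Matrix.SpecialLinearGroup.toGL s := by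
    set y := (z * diagGL ν hν)⁻¹ * x with hy
    have hdz : ((z * diagGL ν hν : GL (Fin 2) F) : M2).det = (x : M2).det := by
      rw [GeneralLinearGroup.coe_mul, det_mul]
      simp [hz, diagGL, det_fin_two, hc]
      rw [det_fin_two] at hr
      field_simp
      linear_combination -hr
    have hdy : (y : M2).det = 1 := by
      have h1 : ((z * diagGL ν hν : GL (Fin 2) F) : M2) * (y : M2) = (x : M2) := by
        rw [← GeneralLinearGroup.coe_mul, hy, mul_inv_cancel_left]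
      have h2 := congrArg Matrix.det h1
      rw [det_mul, hdz] at h2
      exact mul_left_cancel₀ (det_ne_zero_gl x) (h2.trans (mul_one _).symm)
    refine ⟨⟨(y : M2), hdy⟩, ?_⟩
    rw [show Matrix.SpecialLinearGroup.toGL (⟨(y : M2), hdy⟩ : S) = y from Units.ext rfl, hy, mul_inv_cancel_left]
  have key : ∀ φ : S → ℂ, φ (slConj x g) = φ (slConj (diagGL ν hν) (s * g * s⁻¹)) := by
    intro φ
    rw [hs, slConj_mul, slConj_mul, slConj_scalar hc0, slConj_toGL]
  rw [key χ, key ψ, h.1, h.2]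
  exact ⟨hψ g s, hχ g s⟩

/-- The two constituents of an invariant character without proper invariant constituent. -/
theorem halves_general (h2 : (2 : F) ≠ 0) {χ ψ : S → ℂ} (hχ : Cfsg.IsIrrCharacter S χ) (hψ : Cfsg.IsIrrCharacter S ψ)
    (hne : χ ≠ ψ) (hR : ∀ x g, χ (slConj x g) + ψ (slConj x g) = χ g + ψ g) (ε : ℕ)
    (hsumχ : ∑ x : F, χ (pSL 1 x (mul_one 1)) = (ε : ℂ) * Fintype.card F)
    (hsumψ : ∑ x : F, ψ (pSL 1 x (mul_one 1)) = (ε : ℂ) * Fintype.card F)
    (hd : χ 1 + ψ 1 = (Fintype.card F : ℂ) - 1 + 2 * ε)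
    (hexcl : ∀ φ : S → ℂ, (φ = χ ∨ φ = ψ) → φ 1 = (ε : ℂ) → (∀ x : F, φ (pSL 1 x (mul_one 1)) = (ε : ℂ)) → False) :
    (2 * χ 1 = (Fintype.card F : ℂ) - 1 + 2 * ε ∧ 2 * ψ 1 = (Fintype.card F : ℂ) - 1 + 2 * ε) ∧
    (∀ (x : GL (Fin 2) F), ¬ IsSquare (x : M2).det → ∀ g, χ (slConj x g) = ψ g ∧ ψ (slConj x g) = χ g) ∧
    ∀ ν : F, ¬ IsSquare ν → χ (pSL 1 1 (mul_one 1)) + χ (pSL 1 ν (mul_one 1)) = 2 * (ε : ℂ) - 1 ∧
      (χ (pSL 1 1 (mul_one 1)) - χ (pSL 1 ν (mul_one 1))) ^ 2 = eta (-1 : F) * Fintype.card F := by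
  classical
  have hq : (Fintype.card F : ℂ) ≠ 0 := by exact_mod_cast Fintype.card_ne_zero
  have hq1 : (Fintype.card F : ℂ) - 1 ≠ 0 := card_sub_one_ne
  have key : ∀ φ : S → ℂ, Cfsg.IsIrrCharacter S φ → ∑ x : F, φ (pSL 1 x (mul_one 1)) = (ε : ℂ) * Fintype.card F →
      ∀ ν : F, ¬ IsSquare ν → ∃ m₁ m₂ : ℕ,
        2 * φ 1 = ((m₁ : ℂ) + m₂) * ((Fintype.card F : ℂ) - 1) + 2 * ε ∧
        φ (pSL 1 1 (mul_one 1)) + φ (pSL 1 ν (mul_one 1)) = 2 * ε - ((m₁ : ℂ) + m₂) ∧
        (φ (pSL 1 1 (mul_one 1)) - φ (pSL 1 ν (mul_one 1))) ^ 2 =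
          eta (-1 : F) * Fintype.card F * ((m₁ : ℂ) - m₂) ^ 2 := by
    intro φ hφ hsum ν hν
    obtain ⟨m₁, m₂, h1, h3⟩ := unipotent_data φ h2 (Char.isCharacter_of_isIrr hφ) hν
    rw [sum_unipotent_formula φ h2 (Char.isClassFunction_of_isIrr hφ) hν] at hsum
    have hA : φ (pSL 1 1 (mul_one 1)) + φ (pSL 1 ν (mul_one 1)) = 2 * ε - ((m₁ : ℂ) + m₂) :=
      mul_left_cancel₀ hq (by linear_combination 2 * hsum + h1)
    refine ⟨m₁, m₂, ?_, hA, h3⟩
    linear_combination 2 * hsum - ((Fintype.card F : ℂ) - 1) * hA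
  obtain ⟨ν, hν⟩ := FiniteField.exists_nonsquare (F := F) fun e => h2 (by
    haveI := ringChar.of_eq e
    exact CharTwo.two_eq_zero)
  have hν0 : ν ≠ 0 := fun e => hν (e ▸ IsSquare.zero)
  have hswap : (∀ g, χ (slConj (diagGL ν hν0) g) = ψ g) ∧ ∀ g, ψ (slConj (diagGL ν hν0) g) = χ g := by
    refine (swap_or_fix hχ hψ hne hR (diagGL ν hν0)).resolve_left fun hfix => ?_
    have hAB : ∀ φ : S → ℂ, (∀ g, φ (slConj (diagGL ν hν0) g) = φ g) →
        φ (pSL 1 1 (mul_one 1)) - φ (pSL 1 ν (mul_one 1)) = 0 := by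
      intro φ hf
      have := hf (pSL 1 1 (mul_one 1))
      rw [slConj_pSL, pSL_congr (mul_one 1) (mul_one 1) rfl (mul_one ν)] at this
      rw [this, sub_self]
    have heq : ∀ {a b : ℕ}, (0 : ℂ) ^ 2 = eta (-1 : F) * Fintype.card F * ((a : ℂ) - b) ^ 2 → a = b := by
      intro a b h
      have he : eta (-1 : F) ≠ 0 := fun e => by
        have : eta (-1 : F) * eta (-1 : F) = 1 := by rw [← map_mul, neg_mul_neg, one_mul, map_one]
        rw [e, mul_zero] at this
        exact zero_ne_one this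
      simpa [he, hq, sub_eq_zero] using h.symm
    obtain ⟨a₁, a₂, a3, a4, a5⟩ := key χ hχ hsumχ ν hν
    obtain ⟨b₁, b₂, b3, b4, b5⟩ := key ψ hψ hsumψ ν hν
    rw [hAB χ hfix.1] at a5
    rw [hAB ψ hfix.2] at b5
    have ea := heq a5
    have eb := heq b5
    subst ea eb
    have hsum1 : a₁ + b₁ = 1 := by
      have e : ((a₁ + b₁ : ℕ) : ℂ) = ((1 : ℕ) : ℂ) := by
        push_cast
        exact mul_right_cancel₀ hq1 (mul_left_cancel₀ (two_ne_zero' ℂ) (by linear_combination 2 * hd - a3 - b3))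
      exact_mod_cast e
    have hfinish : ∀ φ : S → ℂ, Cfsg.IsIrrCharacter S φ → (φ = χ ∨ φ = ψ) →
        φ (pSL 1 1 (mul_one 1)) - φ (pSL 1 ν (mul_one 1)) = 0 →
        φ (pSL 1 1 (mul_one 1)) + φ (pSL 1 ν (mul_one 1)) = 2 * ε - (((0 : ℕ) : ℂ) + ((0 : ℕ) : ℂ)) →
        2 * φ 1 = (((0 : ℕ) : ℂ) + ((0 : ℕ) : ℂ)) * ((Fintype.card F : ℂ) - 1) + 2 * ε → False := by
      intro φ hφ hor hdiff hsum hdeg
      have h1φ : φ 1 = (ε : ℂ) := by push_cast at hdeg; linear_combination hdeg / 2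
      refine hexcl φ hor h1φ fun x => ?_
      by_cases hx : x = 0
      · rw [hx, pSL_zero, h1φ]
      · rw [unipotent_value φ (Char.isClassFunction_of_isIrr hφ) hν hx, hdiff, hsum]
        push_cast
        ring
    rcases Nat.add_eq_one_iff.1 hsum1 with ⟨e, -⟩ | ⟨-, e⟩ <;> subst e
    · exact hfinish χ hχ (Or.inl rfl) (hAB χ hfix.1) a4 a3
    · exact hfinish ψ hψ (Or.inr rfl) (hAB ψ hfix.2) b4 b3
  have hdeg : χ 1 = ψ 1 := by rw [← hswap.1 1, map_one]
  refine ⟨⟨by linear_combination hd + hdeg, by linear_combination hd - hdeg⟩,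
    fun x hx g => swap_all (Char.isClassFunction_of_isIrr hχ) (Char.isClassFunction_of_isIrr hψ) hν0 hν hswap x hx g,
    fun μ hμ => ?_⟩
  obtain ⟨m₁, m₂, a3, a4, a5⟩ := key χ hχ hsumχ μ hμ
  have h1 : (m₁ : ℂ) + m₂ = 1 := mul_right_cancel₀ hq1 (by linear_combination hd + hdeg - a3)
  have h1' : m₁ + m₂ = 1 := by exact_mod_cast h1
  refine ⟨by rw [a4, h1], ?_⟩
  rw [a5]
  rcases Nat.add_eq_one_iff.1 h1' with ⟨e, e'⟩ | ⟨e, e'⟩ <;> subst e e' <;> simp

end CfsgLib.SL2Table
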