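import Mathlib
import Cfsg.Prelude
import Cfsg.Agent.Lib.SL2Table.SL2Halves

/-!
The character table of `SL(2, F)`, `|F|` odd.
-/

namespace CfsgLib.SL2Table

open Matrix
open scoped ComplexConjugate

theorem exists_two_of_gen_norm_two {G : Type*} [Group G] [Fintype G] {θ : G → ℂ}
    (h : Cfsg.IsGeneralizedCharacter G θ) (h2 : Cfsg.classInner θ θ = 2) :
    ∃ (χ ψ : G → ℂ) (a b : ℤ), Cfsg.IsIrrCharacter G χ ∧ Cfsg.IsIrrCharacter G ψ ∧ χ ≠ ψ ∧
      (a = 1 ∨ a = -1) ∧ (b = 1 ∨ b = -1) ∧ θ = (a : ℂ) • χ + (b : ℂ) • ψ := by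
  classical
  obtain ⟨m, hm, -, hsq⟩ := Char.gen_decomp h
  rw [h2] at hsq
  have hsq' : ∑ χ, m χ ^ 2 = 2 := by exact_mod_cast hsq.symm
  set T := Finset.univ.filter fun χ => m χ ≠ 0 with hT
  have hT2 : ∀ χ ∈ T, m χ ^ 2 = 1 := by
    intro χ hχ
    have hle : m χ ^ 2 ≤ 2 := hsq' ▸ Finset.single_le_sum (fun ψ _ => sq_nonneg (m ψ)) (Finset.mem_univ χ)
    have h0 := (Finset.mem_filter.1 hχ).2
    have h1 : 0 < m χ ^ 2 := by positivity
    by_contra hne
    have h22 : m χ ^ 2 = 2 := by omega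
    have hb : -2 < m χ ∧ m χ < 2 := ⟨by nlinarith, by nlinarith⟩
    obtain ⟨e1, e2⟩ := hb
    interval_cases m χ <;> norm_num at h22
  have hcard : T.card = 2 := by
    have hs : ∑ χ ∈ T, m χ ^ 2 = ∑ χ, m χ ^ 2 :=
      Finset.sum_subset (Finset.filter_subset _ _) fun χ _ hχ => by
        simp only [hT, Finset.mem_filter, Finset.mem_univ, true_and, not_not] at hχ
        rw [hχ]; ring
    rw [hsq', Finset.sum_congr rfl hT2, Finset.sum_const, nsmul_eq_mul, mul_one] at hs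
    exact_mod_cast hs
  obtain ⟨χ, ψ, hne, hTeq⟩ := Finset.card_eq_two.1 hcard
  refine ⟨χ, ψ, m χ, m ψ, χ.2, ψ.2, fun e => hne (Subtype.ext e), sq_eq_one_iff.1 (hT2 χ (by simp [hTeq])),
    sq_eq_one_iff.1 (hT2 ψ (by simp [hTeq])), ?_⟩
  rw [hm, ← Finset.sum_subset (Finset.subset_univ T) (fun φ _ hφ => by
    simp only [hT, Finset.mem_filter, Finset.mem_univ, true_and, not_not] at hφ
    simp [hφ]), hTeq, Finset.sum_pair hne]

theorem classInner_smul_int_left {G : Type*} [Group G] [Fintype G] (a b : ℤ) (χ ψ φ : G → ℂ) :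
    Cfsg.classInner ((a : ℂ) • χ + (b : ℂ) • ψ) φ =
      (a : ℂ) * Cfsg.classInner χ φ + (b : ℂ) * Cfsg.classInner ψ φ := by
  rw [Char.classInner_add_left, Char.classInner_smul_left, Char.classInner_smul_left]

variable {F : Type*} [Field F] [Fintype F] [DecidableEq F]

local notation "S" => Matrix.SpecialLinearGroup (Fin 2) F
local notation "M2" => Matrix (Fin 2) (Fin 2) F

theorem eta_inv : (eta (F := F))⁻¹ = eta := eta_isQuadratic.inv

theorem pr_eta_ne (h2 : (2 : F) ≠ 0) {α : MulChar F ℂ} (hα : α ≠ eta) :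
    α ≠ eta ∧ α ≠ (eta (F := F))⁻¹ := ⟨hα, by rwa [eta_inv]⟩

/-- The two halves of the principal series of the quadratic character. -/
def IsPrHalves (χ ψ : Matrix.SpecialLinearGroup (Fin 2) F → ℂ) : Prop :=
  Cfsg.IsIrrCharacter S χ ∧ Cfsg.IsIrrCharacter S ψ ∧ χ ≠ ψ ∧ pr eta = χ + ψ ∧
    (χ 1 = (((Fintype.card F + 1) / 2 : ℕ) : ℂ) ∧ ψ 1 = (((Fintype.card F + 1) / 2 : ℕ) : ℂ)) ∧
    (∀ (x : GL (Fin 2) F), ¬ IsSquare (x : M2).det → ∀ g, χ (slConj x g) = ψ g ∧ ψ (slConj x g) = χ g) ∧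
    ∀ ν : F, ¬ IsSquare ν →
      (χ (pSL 1 1 (mul_one 1)) + χ (pSL 1 ν (mul_one 1)) = 1 ∧
        (χ (pSL 1 1 (mul_one 1)) - χ (pSL 1 ν (mul_one 1))) ^ 2 = eta (-1 : F) * Fintype.card F) ∧
      (ψ (pSL 1 1 (mul_one 1)) + ψ (pSL 1 ν (mul_one 1)) = 1 ∧
        (ψ (pSL 1 1 (mul_one 1)) - ψ (pSL 1 ν (mul_one 1))) ^ 2 = eta (-1 : F) * Fintype.card F)

theorem half_cast (hodd : Odd (Fintype.card F)) :
    2 * (((Fintype.card F + 1) / 2 : ℕ) : ℂ) = (Fintype.card F : ℂ) + 1 ∧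
      2 * (((Fintype.card F - 1) / 2 : ℕ) : ℂ) = (Fintype.card F : ℂ) - 1 := by
  obtain ⟨k, hk⟩ := hodd
  rw [hk, show (2 * k + 1 + 1) / 2 = k + 1 by omega, show (2 * k + 1 - 1) / 2 = k by omega]
  constructor <;> push_cast <;> ring

theorem exists_prHalves (hodd : Odd (Fintype.card F)) : ∃ χ ψ : S → ℂ, IsPrHalves χ ψ := by
  classical
  haveI : Fintype (MulChar F ℂ) := Fintype.ofFinite _
  have h2 := two_ne_zero_of_odd hodd
  have hnorm : Cfsg.classInner (pr eta : S → ℂ) (pr eta) = 2 := by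
    rw [classInner_pr, eta_inv, if_pos rfl]; norm_num
  obtain ⟨χ, ψ, a, b, hχ, hψ, hne, ha, hb, heq⟩ :=
    exists_two_of_gen_norm_two (Char.isGen_of_char (isCharacter_pr eta)) hnorm
  have hχeta : Cfsg.classInner (pr eta : S → ℂ) χ = (a : ℂ) := by
    rw [heq, classInner_smul_int_left, Char.classInner_irr_self hχ, Char.classInner_irr_ne hψ hχ (Ne.symm hne)]
    ring
  have hψeta : Cfsg.classInner (pr eta : S → ℂ) ψ = (b : ℂ) := by
    rw [heq, classInner_smul_int_left, Char.classInner_irr_self hψ, Char.classInner_irr_ne hχ hψ hne]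
    ring
  have ha1 : a = 1 := by
    obtain ⟨n, hn⟩ := Char.classInner_char_nat (isCharacter_pr eta) (Char.isCharacter_of_isIrr hχ)
    rw [hχeta] at hn
    have : a = (n : ℤ) := by exact_mod_cast hn
    omega
  have hb1 : b = 1 := by
    obtain ⟨n, hn⟩ := Char.classInner_char_nat (isCharacter_pr eta) (Char.isCharacter_of_isIrr hψ)
    rw [hψeta] at hn
    have : b = (n : ℤ) := by exact_mod_cast hn
    omega
  subst ha1 hb1
  have heq' : (pr eta : S → ℂ) = χ + ψ := by rw [heq]; simp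
  have hinner : ∀ α : MulChar F ℂ, ∀ φ : S → ℂ, (φ = χ ∨ φ = ψ) →
      Cfsg.classInner φ (pr α) = if α = eta then 1 else 0 := by
    intro α φ hφ
    obtain ⟨m, hm⟩ := Char.classInner_char_nat (Char.isCharacter_of_isIrr hχ) (isCharacter_pr α)
    obtain ⟨n, hn⟩ := Char.classInner_char_nat (Char.isCharacter_of_isIrr hψ) (isCharacter_pr α)
    split_ifs with e
    · subst e
      rw [← Char.classInner_conj_symm]
      rcases hφ with rfl | rfl
      · rw [hχeta]; simp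
      · rw [hψeta]; simp
    · have h0 : Cfsg.classInner (pr eta : S → ℂ) (pr α) = 0 := by
        rw [classInner_pr, if_neg (Ne.symm e), if_neg]
        · ring
        · intro e'; exact e (by rw [← inv_inv α, ← e', eta_inv])
      rw [heq', Char.classInner_add_left, hm, hn] at h0
      have h0' : m + n = 0 := by exact_mod_cast h0
      rcases hφ with rfl | rfl
      · rw [hm, show m = 0 by omega]; simp
      · rw [hn, show n = 0 by omega]; simp
  have hsum : ∀ φ : S → ℂ, Cfsg.IsIrrCharacter S φ → (φ = χ ∨ φ = ψ) →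
      ∑ x : F, φ (pSL 1 x (mul_one 1)) = ((1 : ℕ) : ℂ) * Fintype.card F := by
    intro φ hφ hor
    rw [sum_unipotent_eq (Char.isClassFunction_of_isIrr hφ), Finset.sum_congr rfl (fun α _ => hinner α φ hor),
      Finset.sum_ite_eq' Finset.univ (eta (F := F)) (fun _ => (1 : ℂ)), if_pos (Finset.mem_univ _)]
    simp
  have hR : ∀ x g, χ (slConj x g) + ψ (slConj x g) = χ g + ψ g := by
    intro x g
    have h1 := pr_conj_gl eta x g (slConj x g) (toGL_slConj x g)
    rw [heq'] at h1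
    simpa using h1
  have hd : χ 1 + ψ 1 = (Fintype.card F : ℂ) - 1 + 2 * ((1 : ℕ) : ℂ) := by
    have := congrFun heq' 1
    rw [pr_one] at this
    push_cast
    simp at this
    linear_combination -this
  have hexcl : ∀ φ : S → ℂ, (φ = χ ∨ φ = ψ) → φ 1 = ((1 : ℕ) : ℂ) →
      (∀ x : F, φ (pSL 1 x (mul_one 1)) = ((1 : ℕ) : ℂ)) → False := by
    intro φ hor h1 hu
    have hφ : Cfsg.IsIrrCharacter S φ := by rcases hor with rfl | rfl <;> assumption
    simp only [Nat.cast_one] at h1 hu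
    have htriv : φ = fun _ => 1 := funext fun g => linear_trivial (Char.isCharacter_of_isIrr hφ) h1 hu g
    have := hinner eta φ hor
    rw [if_pos rfl, htriv, ← Char.classInner_conj_symm, classInner_pr_one, if_neg (eta_ne_one h2), map_zero] at this
    exact zero_ne_one this
  obtain ⟨⟨d1, d2⟩, hsw, hv⟩ := halves_general h2 hχ hψ hne hR 1 (hsum χ hχ (Or.inl rfl)) (hsum ψ hψ (Or.inr rfl)) hd hexcl
  obtain ⟨-, -, hv'⟩ := halves_general h2 hψ hχ (Ne.symm hne) (fun x g => by rw [add_comm, hR, add_comm]) 1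
    (hsum ψ hψ (Or.inr rfl)) (hsum χ hχ (Or.inl rfl)) (by rw [add_comm]; exact hd)
    (fun φ hor => hexcl φ hor.symm)
  obtain ⟨hc, -⟩ := half_cast (F := F) hodd
  refine ⟨χ, ψ, hχ, hψ, hne, heq', ⟨?_, ?_⟩, hsw, fun ν hν => ?_⟩
  · push_cast at d1; exact mul_left_cancel₀ (two_ne_zero' ℂ) (by rw [hc, d1]; ring)
  · push_cast at d2; exact mul_left_cancel₀ (two_ne_zero' ℂ) (by rw [hc, d2]; ring)
  · have e1 := hv ν hν
    have e2 := hv' ν hν
    norm_num at e1 e2
    exact ⟨e1, e2⟩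

/-- The degree of a character orthogonal to the principal series is a multiple of `(q - 1) / 2`. -/
theorem cusp_degree_multiple (hodd : Odd (Fintype.card F)) {φ : S → ℂ} (hφ : Cfsg.IsIrrCharacter S φ)
    (hc : IsCuspS φ) :
    ∃ k : ℕ, 0 < k ∧ 2 * φ 1 = (k : ℂ) * ((Fintype.card F : ℂ) - 1) ∧
      ∀ ν : F, ¬ IsSquare ν → φ (pSL 1 1 (mul_one 1)) + φ (pSL 1 ν (mul_one 1)) = -(k : ℂ) := by
  have h2 := two_ne_zero_of_odd hodd
  have hq : (Fintype.card F : ℂ) - 1 ≠ 0 := card_sub_one_ne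
  obtain ⟨ν, hν⟩ := Spectrum.exists_nonsquare' h2
  obtain ⟨d, hd0, hd⟩ := Char.exists_degree_pos hφ
  have hform : ∀ μ : F, ¬ IsSquare μ →
      (d : ℂ) + ((Fintype.card F : ℂ) - 1) / 2 * (φ (pSL 1 1 (mul_one 1)) + φ (pSL 1 μ (mul_one 1))) = 0 := by
    intro μ hμ
    rw [← hd, ← sum_unipotent_formula φ h2 (Char.isClassFunction_of_isIrr hφ) hμ,
      cuspS_sum_unipotent (Char.isClassFunction_of_isIrr hφ) hc]
  have hdvd : (Fintype.card F - 1) / 2 ∣ d := by
    obtain ⟨k, hk⟩ := hodd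
    have hk0 : 0 < k := by have := Fintype.one_lt_card (α := F); omega
    refine Char.dvd_of_isIntegral_div (by omega) ?_
    have hkC : ((Fintype.card F : ℂ) - 1) / 2 = (k : ℂ) := by rw [hk]; push_cast; ring
    have hk' : (k : ℂ) ≠ 0 := by exact_mod_cast hk0.ne'
    have e : (d : ℂ) / (((Fintype.card F - 1) / 2 : ℕ) : ℂ) = -(φ (pSL 1 1 (mul_one 1)) + φ (pSL 1 ν (mul_one 1))) := by
      rw [show (Fintype.card F - 1) / 2 = k by omega, div_eq_iff hk']
      have := hform ν hν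
      rw [hkC] at this
      linear_combination this
    rw [e]
    exact ((Char.char_isIntegral (Char.isCharacter_of_isIrr hφ) _).add
      (Char.char_isIntegral (Char.isCharacter_of_isIrr hφ) _)).neg
  obtain ⟨k, rfl⟩ := hdvd
  refine ⟨k, pos_of_mul_pos_right hd0 (Nat.zero_le _), ?_, fun μ hμ => ?_⟩
  · rw [hd, Nat.cast_mul, ← mul_assoc, (half_cast (F := F) hodd).2, mul_comm]
  · have := hform μ hμ
    rw [Nat.cast_mul] at this
    have hc := (half_cast (F := F) hodd).2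
    exact mul_left_cancel₀ hq (by linear_combination 2 * this - (k : ℂ) * hc)

variable {C : Subgroup (Matrix.SpecialLinearGroup (Fin 2) F)} (hT : Torus C)

include hT in
theorem card_torus_chars : Nat.card (C →* ℂˣ) = Fintype.card F + 1 := by
  letI : CommGroup C := { (inferInstance : Group C) with
    mul_comm := fun a b => Subtype.ext (hT.comm a.2 b.2) }
  rw [CommGroup.card_monoidHom_of_hasEnoughRootsOfUnity C ℂ, hT.card]

include hT in
theorem exists_theta0 : ∃ θ : C →* ℂˣ, θ ≠ 1 ∧ θ = θ⁻¹ ∧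
    (∀ θ' : C →* ℂˣ, θ' = θ'⁻¹ → θ' = 1 ∨ θ' = θ) ∧
    ∀ c : C, (θ c : ℂ) = if (c : S) ^ ((Fintype.card F + 1) / 2) = 1 then 1 else -1 := by
  classical
  haveI := hT.cyclic
  obtain ⟨γ, hγ⟩ := IsCyclic.exists_generator (α := C)
  have hord : orderOf γ = Fintype.card F + 1 := by rw [orderOf_eq_card_of_forall_mem_zpowers hγ, hT.card]
  obtain ⟨h, hh⟩ : ∃ h, Fintype.card F + 1 = 2 * h := by obtain ⟨k, hk⟩ := hT.odd; exact ⟨k + 1, by omega⟩
  have hh0 : 0 < h := by omega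
  have hm1 : orderOf (-1 : ℂˣ) ∣ orderOf γ := by
    rw [hord, hh]; exact Dvd.dvd.mul_right (orderOf_dvd_of_pow_eq_one (by simp)) _
  refine ⟨monoidHomOfForallMemZpowers hγ hm1, fun e => ?_, ?_, fun θ' hθ' => ?_, fun c => ?_⟩
  · have := congrArg (fun f : C →* ℂˣ => (f γ : ℂ)) e
    simp [monoidHomOfForallMemZpowers_apply_gen] at this
    norm_num at this
  · refine (MonoidHom.eq_iff_eq_on_generator hγ _ _).2 ?_
    rw [MonoidHom.inv_apply, monoidHomOfForallMemZpowers_apply_gen]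
    simp
  · have hsq : (θ' γ : ℂ) * (θ' γ : ℂ) = 1 := by
      nth_rewrite 2 [hθ']
      rw [MonoidHom.inv_apply, ← Units.val_mul, mul_inv_cancel, Units.val_one]
    rcases mul_self_eq_one_iff.1 hsq with e | e
    · exact Or.inl ((MonoidHom.eq_iff_eq_on_generator hγ _ _).2 (Units.ext (by rw [e]; simp)))
    · exact Or.inr ((MonoidHom.eq_iff_eq_on_generator hγ _ _).2
        (Units.ext (by rw [e, monoidHomOfForallMemZpowers_apply_gen]; simp)))
  · obtain ⟨n, rfl⟩ := Subgroup.mem_zpowers_iff.1 (hγ c)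
    rw [map_zpow, monoidHomOfForallMemZpowers_apply_gen, show (Fintype.card F + 1) / 2 = h by omega]
    have hiff : ((γ ^ n : C) : S) ^ h = 1 ↔ Even n := by
      rw [← SubmonoidClass.coe_pow, ← Subgroup.coe_one, Subtype.coe_inj, ← zpow_natCast, ← _root_.zpow_mul,
        ← orderOf_dvd_iff_zpow_eq_one, hord, hh, Nat.cast_mul, mul_dvd_mul_iff_right (by omega : (h : ℤ) ≠ 0),
        even_iff_two_dvd]
      rfl
    rcases Int.even_or_odd n with he | ho
    · rw [if_pos (hiff.2 he), he.neg_one_zpow]; simp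
    · rw [if_neg (fun e => Int.not_even_iff_odd.2 ho (hiff.1 e)), ho.neg_one_zpow]; simp

theorem isIrr_wFun {θ : C →* ℂˣ} (hθ : θ ≠ θ⁻¹) : Cfsg.IsIrrCharacter S (wFun hT θ) := by
  classical
  refine Char.gen_norm_one_pos (isGen_wFun hT θ) ?_ ?_
  · rw [classInner_wFun, if_pos rfl, if_neg hθ, add_zero]
  · rw [wFun_one]
    simp
    exact_mod_cast Fintype.one_lt_card (α := F)

/-- The two halves of the cuspidal function of the quadratic character of the torus. -/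
def IsWHalves (θ₀ : C →* ℂˣ) (χ ψ : Matrix.SpecialLinearGroup (Fin 2) F → ℂ) : Prop :=
  Cfsg.IsIrrCharacter S χ ∧ Cfsg.IsIrrCharacter S ψ ∧ χ ≠ ψ ∧ wFun hT θ₀ = χ + ψ ∧
    (IsCuspS χ ∧ IsCuspS ψ) ∧
    (χ 1 = (((Fintype.card F - 1) / 2 : ℕ) : ℂ) ∧ ψ 1 = (((Fintype.card F - 1) / 2 : ℕ) : ℂ)) ∧
    (∀ (x : GL (Fin 2) F), ¬ IsSquare (x : M2).det → ∀ g, χ (slConj x g) = ψ g ∧ ψ (slConj x g) = χ g) ∧
    ∀ ν : F, ¬ IsSquare ν →
      (χ (pSL 1 1 (mul_one 1)) + χ (pSL 1 ν (mul_one 1)) = -1 ∧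
        (χ (pSL 1 1 (mul_one 1)) - χ (pSL 1 ν (mul_one 1))) ^ 2 = eta (-1 : F) * Fintype.card F) ∧
      (ψ (pSL 1 1 (mul_one 1)) + ψ (pSL 1 ν (mul_one 1)) = -1 ∧
        (ψ (pSL 1 1 (mul_one 1)) - ψ (pSL 1 ν (mul_one 1))) ^ 2 = eta (-1 : F) * Fintype.card F)

/-- Families of irreducible characters. -/
def InFamily (χ₁ χ₂ : Matrix.SpecialLinearGroup (Fin 2) F → ℂ) (φ : Matrix.SpecialLinearGroup (Fin 2) F → ℂ) : Prop :=
  (φ = fun _ => 1) ∨ φ = stS ∨ (∃ α : MulChar F ℂ, α ^ 2 ≠ 1 ∧ φ = pr α) ∨ φ = χ₁ ∨ φ = χ₂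

theorem irrS_cases {χ₁ χ₂ : S → ℂ} (hH : IsPrHalves χ₁ χ₂) {φ : S → ℂ} (hφ : Cfsg.IsIrrCharacter S φ) :
    InFamily χ₁ χ₂ φ ∨ IsCuspS φ := by
  classical
  by_contra h
  simp only [InFamily, not_or, not_exists, not_and] at h
  obtain ⟨⟨h1, h2, h3, h4, h5⟩, h6⟩ := h
  apply h6
  intro α
  by_cases e : α ^ 2 = 1
  · rcases mulChar_sq_eq_one e with rfl | rfl
    · rw [show (pr 1 : S → ℂ) = stS + (fun _ => 1) by rw [stS, sub_add_cancel], Char.classInner_add_right,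
        Char.classInner_irr_ne hφ isIrr_stS h2, Char.classInner_irr_ne hφ Char.isIrrCharacter_one h1, add_zero]
    · rw [hH.2.2.2.1, Char.classInner_add_right, Char.classInner_irr_ne hφ hH.1 h4,
        Char.classInner_irr_ne hφ hH.2.1 h5, add_zero]
  · exact Char.classInner_irr_ne hφ ((isIrr_pr_iff α).2 e) (h3 α e)

theorem not_cusp_of_inFamily {χ₁ χ₂ : S → ℂ} (hH : IsPrHalves χ₁ χ₂) {φ : S → ℂ} (h : InFamily χ₁ χ₂ φ) :
    ¬ IsCuspS φ := by
  classical
  intro hc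
  obtain ⟨i1, i2, hne, heq, -⟩ := hH
  rcases h with rfl | rfl | ⟨α, hα, rfl⟩ | rfl | rfl
  · have := hc 1
    rw [← Char.classInner_conj_symm, classInner_pr_one, if_pos rfl, map_one] at this
    exact one_ne_zero this
  · have := hc 1
    rw [stS, Char.classInner_sub_left, classInner_pr, inv_one, if_pos rfl, ← Char.classInner_conj_symm,
      classInner_pr_one, if_pos rfl, map_one] at this
    norm_num at this
  · have := hc α
    rw [Char.classInner_irr_self ((isIrr_pr_iff α).2 hα)] at this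
    exact one_ne_zero this
  · have := hc eta
    rw [heq, Char.classInner_add_right, Char.classInner_irr_self i1, Char.classInner_irr_ne i1 i2 hne, add_zero] at this
    exact one_ne_zero this
  · have := hc eta
    rw [heq, Char.classInner_add_right, Char.classInner_irr_self i2, Char.classInner_irr_ne i2 i1 (Ne.symm hne), zero_add] at this
    exact one_ne_zero this

theorem wFun_ortho {χ₁ χ₂ : S → ℂ} (hH : IsPrHalves χ₁ χ₂) {θ₀ : C →* ℂˣ} (h1 : θ₀ ≠ 1)
    {χ ψ : S → ℂ} {a b : ℤ} (hχ : Cfsg.IsIrrCharacter S χ) (hψ : Cfsg.IsIrrCharacter S ψ) (hne : χ ≠ ψ)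
    (ha : a = 1 ∨ a = -1) (hb : b = 1 ∨ b = -1) (heq : wFun hT θ₀ = (a : ℂ) • χ + (b : ℂ) • ψ) :
    ¬ InFamily χ₁ χ₂ χ := by
  classical
  have hW : ∀ φ : S → ℂ, Cfsg.IsIrrCharacter S φ → Cfsg.classInner (wFun hT θ₀) φ =
      (a : ℂ) * (if χ = φ then 1 else 0) + (b : ℂ) * (if ψ = φ then 1 else 0) := by
    intro φ hφ
    rw [heq, classInner_smul_int_left, Char.classInner_irr hχ hφ, Char.classInner_irr hψ hφ]
  have ha0 : (a : ℂ) ≠ 0 := by rcases ha with rfl | rfl <;> simp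
  have kill : Cfsg.classInner (wFun hT θ₀) χ ≠ 0 := by
    rw [hW χ hχ, if_pos rfl, if_neg (Ne.symm hne)]; simpa using ha0
  obtain ⟨i1, i2, hne12, heq12, ⟨d1, d2⟩, -⟩ := hH
  rintro (h | h | ⟨α, hα, h⟩ | h | h)
  · exact kill (h ▸ classInner_wFun_one hT θ₀ h1)
  · apply kill
    rw [h, stS, Char.classInner_sub_right, classInner_wFun_pr, classInner_wFun_one hT θ₀ h1, sub_zero]
  · exact kill (h ▸ classInner_wFun_pr hT θ₀ α)
  all_goals
    have hz := classInner_wFun_pr hT θ₀ (eta (F := F))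
    rw [heq12, Char.classInner_add_right, hW χ₁ i1, hW χ₂ i2] at hz
    have hdeg := congrFun heq 1
    rw [wFun_one] at hdeg
    simp only [Pi.add_apply, Pi.smul_apply, smul_eq_mul] at hdeg
    subst h
  · rw [if_pos rfl, if_neg (Ne.symm hne), if_neg hne12] at hz
    by_cases e : ψ = χ₂
    · rw [if_pos e] at hz
      subst e
      rw [d1, d2] at hdeg
      exact card_sub_one_ne (F := F) (by linear_combination hdeg + (((Fintype.card F + 1) / 2 : ℕ) : ℂ) * hz)
    · rw [if_neg e] at hz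
      exact ha0 (by linear_combination hz)
  · rw [if_pos rfl, if_neg (Ne.symm hne), if_neg (Ne.symm hne12)] at hz
    by_cases e : ψ = χ₁
    · rw [if_pos e] at hz
      subst e
      rw [d1, d2] at hdeg
      exact card_sub_one_ne (F := F) (by linear_combination hdeg + (((Fintype.card F + 1) / 2 : ℕ) : ℂ) * hz)
    · rw [if_neg e] at hz
      exact ha0 (by linear_combination hz)

end CfsgLib.SL2Table
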