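import Mathlib
import Cfsg.Prelude
import Cfsg.Agent.Lib.SL2Table.SL2OddTable

/-!
Completeness of the character table of `SL(2, F)`, `|F|` odd.
-/

namespace CfsgLib.SL2Table

open Matrix
open scoped ComplexConjugate

theorem card_image_two {α β : Type*} [DecidableEq β] (O : Finset α) (f : α → β) (σ : α → α)
    (hσ : ∀ a ∈ O, σ a ∈ O ∧ σ a ≠ a) (hf : ∀ a ∈ O, ∀ b ∈ O, f a = f b ↔ (b = a ∨ b = σ a)) :
    2 * (O.image f).card = O.card := by
  classical
  rw [Finset.card_eq_sum_card_image f O, Finset.sum_congr rfl (fun c hc => ?_), Finset.sum_const, smul_eq_mul,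
    mul_comm]
  obtain ⟨a, ha, rfl⟩ := Finset.mem_image.1 hc
  rw [show O.filter (fun b => f b = f a) = {a, σ a} from Finset.ext fun b => ?_,
    Finset.card_pair (hσ a ha).2.symm]
  simp only [Finset.mem_filter, Finset.mem_insert, Finset.mem_singleton]
  constructor
  · rintro ⟨hb, e⟩
    exact (hf a ha b hb).1 e.symm
  · intro h
    have hb : b ∈ O := by rcases h with rfl | rfl; exacts [ha, (hσ a ha).1]
    exact ⟨hb, ((hf a ha b hb).2 h).symm⟩

variable {F : Type*} [Field F] [Fintype F] [DecidableEq F]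

local notation "S" => Matrix.SpecialLinearGroup (Fin 2) F
local notation "M2" => Matrix (Fin 2) (Fin 2) F

variable {C : Subgroup (Matrix.SpecialLinearGroup (Fin 2) F)} (hT : Torus C)

omit [Fintype F] [DecidableEq F] in
theorem theta_inv_inv (θ : C →* ℂˣ) : θ⁻¹⁻¹ = θ := MonoidHom.ext fun c => inv_inv (θ c)

include hT in
theorem wFun_eq_iff (θ θ' : C →* ℂˣ) : wFun hT θ = wFun hT θ' ↔ θ = θ' ∨ θ = θ'⁻¹ := by
  classical
  constructor
  · intro h
    by_contra hc
    push Not at hc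
    have h2 : Cfsg.classInner (wFun hT θ) (wFun hT θ) = Cfsg.classInner (wFun hT θ) (wFun hT θ') := by rw [← h]
    rw [classInner_wFun, classInner_wFun, if_neg hc.1, if_neg hc.2, if_pos rfl] at h2
    split_ifs at h2 <;> norm_num at h2
  · rintro (rfl | rfl)
    · rfl
    · refine sub_eq_zero.1 (Char.eq_zero_of_classInner_self_eq_zero ?_)
      rw [Char.classInner_sub_left, Char.classInner_sub_right, Char.classInner_sub_right,
        classInner_wFun, classInner_wFun, classInner_wFun, classInner_wFun, theta_inv_inv]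
      by_cases e : θ' = θ'⁻¹
      · rw [← e]; simp
      · simp [e, Ne.symm e]

/-- The complete character table. -/
structure Table (θ₀ : C →* ℂˣ) (χ₁ χ₂ χ₃ χ₄ : Matrix.SpecialLinearGroup (Fin 2) F → ℂ) : Prop where
  theta_ne : θ₀ ≠ 1
  theta_real : θ₀ = θ₀⁻¹
  prHalves : IsPrHalves χ₁ χ₂
  wHalves : IsWHalves hT θ₀ χ₃ χ₄
  complete : ∀ φ : Matrix.SpecialLinearGroup (Fin 2) F → ℂ, Cfsg.IsIrrCharacter S φ →
    InFamily χ₁ χ₂ φ ∨ (∃ θ : C →* ℂˣ, θ ≠ θ⁻¹ ∧ φ = wFun hT θ) ∨ φ = χ₃ ∨ φ = χ₄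
  card_pr : Nat.card {φ : Cfsg.IrrCharacter S // ∃ α : MulChar F ℂ, α ^ 2 ≠ 1 ∧ (φ : Matrix.SpecialLinearGroup (Fin 2) F → ℂ) = pr α} =
    (Fintype.card F - 3) / 2
  card_w : Nat.card {φ : Cfsg.IrrCharacter S // ∃ θ : C →* ℂˣ, θ ≠ θ⁻¹ ∧ (φ : Matrix.SpecialLinearGroup (Fin 2) F → ℂ) = wFun hT θ} =
    (Fintype.card F - 1) / 2

theorem exists_table : ∃ θ₀ χ₁ χ₂ χ₃ χ₄, Table hT θ₀ χ₁ χ₂ χ₃ χ₄ := by
  classical
  haveI : Fintype (MulChar F ℂ) := Fintype.ofFinite _
  haveI : Finite (C →* ℂˣ) := Nat.finite_of_card_ne_zero (by rw [card_torus_chars hT]; omega)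
  haveI : Fintype (C →* ℂˣ) := Fintype.ofFinite _
  have hodd := hT.odd
  have h2 := hT.two_ne
  obtain ⟨χ₁, χ₂, hH⟩ := exists_prHalves (F := F) hodd
  obtain ⟨θ₀, h0, h0', huniq, -⟩ := exists_theta0 hT
  have hnorm : Cfsg.classInner (wFun hT θ₀) (wFun hT θ₀) = 2 := by
    rw [classInner_wFun, if_pos rfl, if_pos h0']; norm_num
  obtain ⟨χ, ψ, a, b, hχ, hψ, hne, ha, hb, heq⟩ := exists_two_of_gen_norm_two (isGen_wFun hT θ₀) hnorm
  have hcχ : IsCuspS χ := (irrS_cases hH hχ).resolve_left (wFun_ortho hT hH h0 hχ hψ hne ha hb heq)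
  have hcψ : IsCuspS ψ := (irrS_cases hH hψ).resolve_left
    (wFun_ortho hT hH h0 hψ hχ (Ne.symm hne) hb ha (by rw [heq, add_comm]))
  set q := Fintype.card F with hqdef
  have hq3 : 3 ≤ q := by
    obtain ⟨k, hk⟩ := hodd
    have := Fintype.one_lt_card (α := F)
    omega
  obtain ⟨hc1, hc2⟩ := half_cast (F := F) hodd
  rw [← hqdef] at hc1 hc2
  -- principal series
  set O : Finset (MulChar F ℂ) := Finset.univ.filter fun α => α ^ 2 ≠ 1 with hO
  let R : MulChar F ℂ → Cfsg.IrrCharacter S := fun α =>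
    if h : α ^ 2 ≠ 1 then ⟨pr α, (isIrr_pr_iff α).2 h⟩ else ⟨χ, hχ⟩
  have hR : ∀ α ∈ O, (R α : S → ℂ) = pr α := fun α h => by simp only [R, dif_pos (Finset.mem_filter.1 h).2]
  set P := O.image R with hP
  have hOc : O.card + 2 = q - 1 := by
    have hcompl : Finset.univ.filter (fun α : MulChar F ℂ => ¬ α ^ 2 ≠ 1) = {1, eta} := by
      ext α
      simp only [Finset.mem_filter, Finset.mem_univ, true_and, not_not, Finset.mem_insert, Finset.mem_singleton]
      refine ⟨mulChar_sq_eq_one, ?_⟩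
      rintro (rfl | rfl)
      · simp
      · exact eta_sq
    have h := Finset.card_filter_add_card_filter_not (s := (Finset.univ : Finset (MulChar F ℂ))) (fun α => α ^ 2 ≠ 1)
    rw [hcompl, Finset.card_pair (Ne.symm (eta_ne_one h2)), Finset.card_univ, ← Nat.card_eq_fintype_card,
      MulChar.card_eq_card_units_of_hasEnoughRootsOfUnity F ℂ, Nat.card_units,
      Nat.card_eq_fintype_card] at h
    exact h
  have hPc : 2 * P.card = O.card := by
    refine card_image_two O R (fun α => α⁻¹) (fun α h => ⟨?_, ?_⟩) (fun α h β h' => ?_)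
    · simp only [hO, Finset.mem_filter, Finset.mem_univ, true_and] at h ⊢
      rwa [inv_pow, Ne, inv_eq_one]
    · intro e
      exact (Finset.mem_filter.1 h).2 (by rw [pow_two]; exact mul_eq_one_iff_eq_inv.2 e.symm)
    · constructor
      · intro e
        have := congrArg Subtype.val e
        rw [hR α h, hR β h', pr_eq_iff] at this
        rcases this with rfl | rfl
        · exact Or.inl rfl
        · exact Or.inr (inv_inv β).symm
      · intro e
        refine Subtype.ext ?_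
        rw [hR α h, hR β h', pr_eq_iff]
        rcases e with rfl | rfl
        · exact Or.inl rfl
        · exact Or.inr (inv_inv α).symm
  have hPmem : ∀ φ, φ ∈ P ↔ ∃ α : MulChar F ℂ, α ^ 2 ≠ 1 ∧ (φ : S → ℂ) = pr α := by
    intro φ
    constructor
    · intro h
      obtain ⟨α, hα, rfl⟩ := Finset.mem_image.1 h
      exact ⟨α, (Finset.mem_filter.1 hα).2, hR α hα⟩
    · rintro ⟨α, hα, e⟩
      have h : α ∈ O := Finset.mem_filter.2 ⟨Finset.mem_univ _, hα⟩
      exact Finset.mem_image.2 ⟨α, h, Subtype.ext (by rw [hR α h, e])⟩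
  -- cuspidal series
  set O' : Finset (C →* ℂˣ) := Finset.univ.filter fun θ => θ ≠ θ⁻¹ with hO'
  let R' : (C →* ℂˣ) → Cfsg.IrrCharacter S := fun θ =>
    if h : θ ≠ θ⁻¹ then ⟨wFun hT θ, isIrr_wFun hT h⟩ else ⟨χ, hχ⟩
  have hR' : ∀ θ ∈ O', (R' θ : S → ℂ) = wFun hT θ := fun θ h => by simp only [R', dif_pos (Finset.mem_filter.1 h).2]
  set Q := O'.image R' with hQ
  have hO'c : O'.card + 2 = q + 1 := by
    have hcompl : Finset.univ.filter (fun θ : C →* ℂˣ => ¬ θ ≠ θ⁻¹) = {1, θ₀} := by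
      ext θ
      simp only [Finset.mem_filter, Finset.mem_univ, true_and, not_not, Finset.mem_insert, Finset.mem_singleton]
      refine ⟨huniq θ, ?_⟩
      rintro (rfl | rfl)
      · exact MonoidHom.ext fun c => inv_one.symm
      · exact h0'
    have h := Finset.card_filter_add_card_filter_not (s := (Finset.univ : Finset (C →* ℂˣ))) (fun θ => θ ≠ θ⁻¹)
    rw [hcompl, Finset.card_pair (Ne.symm h0), Finset.card_univ, ← Nat.card_eq_fintype_card,
      card_torus_chars hT] at h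
    exact h
  have hQc : 2 * Q.card = O'.card := by
    refine card_image_two O' R' (fun θ => θ⁻¹) (fun θ h => ⟨?_, ?_⟩) (fun θ h η h' => ?_)
    · simp only [hO', Finset.mem_filter, Finset.mem_univ, true_and] at h ⊢
      rw [theta_inv_inv]; exact Ne.symm h
    · exact Ne.symm (Finset.mem_filter.1 h).2
    · constructor
      · intro e
        have := congrArg Subtype.val e
        rw [hR' θ h, hR' η h', wFun_eq_iff] at this
        rcases this with rfl | rfl
        · exact Or.inl rfl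
        · exact Or.inr (theta_inv_inv η).symm
      · intro e
        refine Subtype.ext ?_
        rw [hR' θ h, hR' η h', wFun_eq_iff]
        rcases e with rfl | rfl
        · exact Or.inl rfl
        · exact Or.inr (theta_inv_inv θ).symm
  have hQmem : ∀ φ, φ ∈ Q ↔ ∃ θ : C →* ℂˣ, θ ≠ θ⁻¹ ∧ (φ : S → ℂ) = wFun hT θ := by
    intro φ
    constructor
    · intro h
      obtain ⟨θ, hθ, rfl⟩ := Finset.mem_image.1 h
      exact ⟨θ, (Finset.mem_filter.1 hθ).2, hR' θ hθ⟩
    · rintro ⟨θ, hθ, e⟩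
      have h : θ ∈ O' := Finset.mem_filter.2 ⟨Finset.mem_univ _, hθ⟩
      exact Finset.mem_image.2 ⟨θ, h, Subtype.ext (by rw [hR' θ h, e])⟩
  -- the six parts
  obtain ⟨i1, i2, hne12, -, ⟨d1, d2⟩, -⟩ := id hH
  let c0 : Cfsg.IrrCharacter S := ⟨fun _ => 1, Char.isIrrCharacter_one⟩
  let cS : Cfsg.IrrCharacter S := ⟨stS, isIrr_stS⟩
  set H : Finset (Cfsg.IrrCharacter S) := {⟨χ₁, i1⟩, ⟨χ₂, i2⟩} with hHdef
  set E : Finset (Cfsg.IrrCharacter S) := {⟨χ, hχ⟩, ⟨ψ, hψ⟩} with hE
  have hHc : H.card = 2 := Finset.card_pair fun e => hne12 (congrArg Subtype.val e)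
  have hEc : E.card = 2 := Finset.card_pair fun e => hne (congrArg Subtype.val e)
  have hfam : ∀ φ : Cfsg.IrrCharacter S, φ ∈ ({c0} ∪ {cS} ∪ P ∪ H : Finset (Cfsg.IrrCharacter S)) →
      InFamily χ₁ χ₂ (φ : S → ℂ) := by
    intro φ h
    simp only [Finset.mem_union, Finset.mem_singleton, hHdef, Finset.mem_insert] at h
    rcases h with ((rfl | rfl) | h) | rfl | rfl
    · exact Or.inl rfl
    · exact Or.inr (Or.inl rfl)
    · exact Or.inr (Or.inr (Or.inl ((hPmem φ).1 h)))
    · exact Or.inr (Or.inr (Or.inr (Or.inl rfl)))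
    · exact Or.inr (Or.inr (Or.inr (Or.inr rfl)))
  have dP : ∀ φ ∈ P, (φ : S → ℂ) 1 = (q : ℂ) + 1 := fun φ h => by
    obtain ⟨α, -, e⟩ := (hPmem φ).1 h
    rw [e, pr_one]
  have dQ : ∀ φ ∈ Q, (φ : S → ℂ) 1 = (q : ℂ) - 1 := fun φ h => by
    obtain ⟨α, -, e⟩ := (hQmem φ).1 h
    rw [e, wFun_one]
  have dH : ∀ φ ∈ H, (φ : S → ℂ) 1 = (((q + 1) / 2 : ℕ) : ℂ) := fun φ h => by
    simp only [hHdef, Finset.mem_insert, Finset.mem_singleton] at h
    rcases h with rfl | rfl
    · exact d1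
    · exact d2
  have e01 : c0 ≠ cS := fun e => by
    have := congrFun (congrArg Subtype.val e) 1
    simp only [c0, cS, stS_one] at this
    have h : q = 1 := by exact_mod_cast this.symm
    omega
  have j1 : Disjoint ({c0} : Finset (Cfsg.IrrCharacter S)) {cS} := by simpa using e01
  have j2 : Disjoint ({c0} ∪ {cS} : Finset (Cfsg.IrrCharacter S)) P := Finset.disjoint_left.2 fun φ h h' => by
    have hd := dP φ h'
    simp only [Finset.mem_union, Finset.mem_singleton] at h
    rcases h with rfl | rfl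
    · simp only [c0] at hd
      have e : q + 1 = 1 := by exact_mod_cast hd.symm
      omega
    · rw [show (cS : S → ℂ) 1 = q from stS_one] at hd
      simp at hd
  have j3 : Disjoint ({c0} ∪ {cS} ∪ P : Finset (Cfsg.IrrCharacter S)) H := Finset.disjoint_left.2 fun φ h h' => by
    have hd := dH φ h'
    simp only [Finset.mem_union, Finset.mem_singleton] at h
    rcases h with (rfl | rfl) | h
    · simp only [c0] at hd
      have e : (q + 1) / 2 = 1 := by exact_mod_cast hd.symm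
      omega
    · rw [show (cS : S → ℂ) 1 = q from stS_one] at hd
      have e : (q + 1) / 2 = q := by exact_mod_cast hd.symm
      omega
    · rw [dP φ h] at hd
      have e : (q + 1) / 2 = q + 1 := by exact_mod_cast hd.symm
      omega
  have j4 : Disjoint ({c0} ∪ {cS} ∪ P ∪ H : Finset (Cfsg.IrrCharacter S)) (Q ∪ E) :=
    Finset.disjoint_left.2 fun φ h h' => by
      refine not_cusp_of_inFamily hH (hfam φ h) ?_
      rcases Finset.mem_union.1 h' with h' | h'
      · obtain ⟨θ, -, e⟩ := (hQmem φ).1 h'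
        rw [e]
        exact classInner_wFun_pr hT θ
      · simp only [hE, Finset.mem_insert, Finset.mem_singleton] at h'
        rcases h' with rfl | rfl
        · exact hcχ
        · exact hcψ
  have j5 : Disjoint Q E := Finset.disjoint_left.2 fun φ h h' => by
    obtain ⟨θ, hθ, e⟩ := (hQmem φ).1 h
    have hz : Cfsg.classInner (wFun hT θ₀) (φ : S → ℂ) = 0 := by
      rw [e, classInner_wFun, if_neg, if_neg, add_zero]
      · intro e'; apply hθ; rw [show θ = θ₀⁻¹ by rw [e', theta_inv_inv], theta_inv_inv, ← h0']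
      · intro e'; exact hθ (e' ▸ h0')
    rw [heq, classInner_smul_int_left] at hz
    simp only [hE, Finset.mem_insert, Finset.mem_singleton] at h'
    rcases h' with rfl | rfl
    · rw [Char.classInner_irr_self hχ, Char.classInner_irr_ne hψ hχ (Ne.symm hne)] at hz
      rcases ha with rfl | rfl <;> simp at hz
    · rw [Char.classInner_irr_self hψ, Char.classInner_irr_ne hχ hψ hne] at hz
      rcases hb with rfl | rfl <;> simp at hz
  have huniv : (Finset.univ : Finset (Cfsg.IrrCharacter S)) = {c0} ∪ {cS} ∪ P ∪ H ∪ (Q ∪ E) := by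
    refine (Finset.eq_univ_of_card _ ?_).symm
    rw [Finset.card_union_of_disjoint j4, Finset.card_union_of_disjoint j3, Finset.card_union_of_disjoint j2,
      Finset.card_union_of_disjoint j1, Finset.card_union_of_disjoint j5, Finset.card_singleton,
      Finset.card_singleton, hHc, hEc, ← Nat.card_eq_fintype_card, Char.card_irr_eq_card_conjClasses,
      card_conjClasses_sl_odd hodd, ← hqdef]
    obtain ⟨k, hk⟩ := hodd
    omega
  obtain ⟨k, hk0, hk, -⟩ := cusp_degree_multiple hodd hχ hcχ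
  obtain ⟨l, hl0, hl, -⟩ := cusp_degree_multiple hodd hψ hcψ
  rw [← hqdef] at hk hl
  have hsq : k = 1 ∧ l = 1 := by
    have h := Char.sum_degree_sq (G := S)
    rw [huniv, Finset.sum_union j4, Finset.sum_union j3, Finset.sum_union j2, Finset.sum_union j1,
      Finset.sum_union j5, Finset.sum_singleton, Finset.sum_singleton,
      Finset.sum_congr (rfl : P = P) (fun φ hφ => by rw [dP φ hφ]),
      Finset.sum_congr (rfl : Q = Q) (fun φ hφ => by rw [dQ φ hφ]),
      Finset.sum_congr (rfl : H = H) (fun φ hφ => by rw [dH φ hφ]),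
      show (c0 : S → ℂ) 1 = 1 from rfl, show (cS : S → ℂ) 1 = (q : ℂ) from stS_one, Finset.sum_const,
      Finset.sum_const, Finset.sum_const, hHc,
      hE, Finset.sum_pair (fun e => hne (congrArg Subtype.val e)), card_sl_two, ← hqdef,
      Nat.cast_mul, Nat.cast_sub (Nat.one_le_pow _ _ (by omega))] at h
    simp only [nsmul_eq_mul] at h
    push_cast at h
    have hPc' : 2 * (P.card : ℂ) + 2 = (q : ℂ) - 1 := by
      have e : 2 * P.card + 3 = q := by omega
      rw [← e]; push_cast; ring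
    have hQc' : 2 * (Q.card : ℂ) + 2 = (q : ℂ) + 1 := by
      have e : 2 * Q.card + 1 = q := by omega
      rw [← e]; push_cast; ring
    have hne0 : ((q : ℂ) - 1) ^ 2 ≠ 0 := pow_ne_zero _ card_sub_one_ne
    have e : ((q : ℂ) - 1) ^ 2 * ((k ^ 2 + l ^ 2 : ℕ) : ℂ) = ((q : ℂ) - 1) ^ 2 * ((2 : ℕ) : ℂ) := by
      push_cast
      linear_combination 4 * h - 2 * ((q : ℂ) + 1) ^ 2 * hPc' - 2 * ((q : ℂ) - 1) ^ 2 * hQc' -
        2 * (2 * (((q + 1) / 2 : ℕ) : ℂ) + ((q : ℂ) + 1)) * hc1 -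
        (2 * χ 1 + (k : ℂ) * ((q : ℂ) - 1)) * hk - (2 * ψ 1 + (l : ℂ) * ((q : ℂ) - 1)) * hl
    have e' : k ^ 2 + l ^ 2 = 2 := by exact_mod_cast mul_left_cancel₀ hne0 e
    constructor <;> nlinarith
  obtain ⟨rfl, rfl⟩ := hsq
  push_cast at hk hl
  rw [one_mul] at hk hl
  have hdeg := congrFun heq 1
  rw [wFun_one, ← hqdef] at hdeg
  simp only [Pi.add_apply, Pi.smul_apply, smul_eq_mul] at hdeg
  have hab : a = 1 ∧ b = 1 := by
    have e : ((a + b : ℤ) : ℂ) = ((2 : ℤ) : ℂ) := by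
      push_cast
      refine mul_right_cancel₀ (card_sub_one_ne (F := F)) ?_
      rw [← hqdef]
      linear_combination -(2 : ℂ) * hdeg - (a : ℂ) * hk - (b : ℂ) * hl
    have e' : a + b = 2 := by exact_mod_cast e
    omega
  obtain ⟨rfl, rfl⟩ := hab
  have heq' : wFun hT θ₀ = χ + ψ := by rw [heq]; simp
  have hinv : ∀ x g, χ (slConj x g) + ψ (slConj x g) = χ g + ψ g := by
    intro x g
    have h := wFun_slConj hT θ₀ x g
    rw [heq'] at h
    simpa using h
  have hsum : ∀ φ : S → ℂ, Cfsg.IsIrrCharacter S φ → IsCuspS φ →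
      ∑ x : F, φ (pSL 1 x (mul_one 1)) = ((0 : ℕ) : ℂ) * Fintype.card F := fun φ h h' => by
    rw [cuspS_sum_unipotent (Char.isClassFunction_of_isIrr h) h']; simp
  have hexcl : ∀ φ : S → ℂ, (φ = χ ∨ φ = ψ) → φ 1 = ((0 : ℕ) : ℂ) →
      (∀ x : F, φ (pSL 1 x (mul_one 1)) = ((0 : ℕ) : ℂ)) → False := by
    intro φ hor h1 _
    have hφ : Cfsg.IsIrrCharacter S φ := by rcases hor with rfl | rfl <;> assumption
    exact Char.irr_one_ne_zero hφ (by simpa using h1)
  have hd : χ 1 + ψ 1 = (Fintype.card F : ℂ) - 1 + 2 * ((0 : ℕ) : ℂ) := by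
    rw [← hqdef]; push_cast; linear_combination hk / 2 + hl / 2
  obtain ⟨-, hsw, hv⟩ := halves_general h2 hχ hψ hne hinv 0 (hsum χ hχ hcχ) (hsum ψ hψ hcψ) hd hexcl
  obtain ⟨-, -, hv'⟩ := halves_general h2 hψ hχ (Ne.symm hne) (fun x g => by rw [add_comm, hinv, add_comm]) 0
    (hsum ψ hψ hcψ) (hsum χ hχ hcχ) (by rw [add_comm]; exact hd) (fun φ hor => hexcl φ hor.symm)
  have hW : IsWHalves hT θ₀ χ ψ := by
    refine ⟨hχ, hψ, hne, heq', ⟨hcχ, hcψ⟩, ⟨?_, ?_⟩, hsw, fun ν hν => ?_⟩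
    · exact mul_left_cancel₀ (two_ne_zero' ℂ) (by rw [hk, hc2])
    · exact mul_left_cancel₀ (two_ne_zero' ℂ) (by rw [hl, hc2])
    · have e1 := hv ν hν
      have e2 := hv' ν hν
      norm_num at e1 e2
      exact ⟨e1, e2⟩
  refine ⟨θ₀, χ₁, χ₂, χ, ψ, h0, h0', hH, hW, fun φ hφ => ?_, ?_, ?_⟩
  · have h : (⟨φ, hφ⟩ : Cfsg.IrrCharacter S) ∈ ({c0} ∪ {cS} ∪ P ∪ H ∪ (Q ∪ E) : Finset (Cfsg.IrrCharacter S)) :=
      huniv ▸ Finset.mem_univ _
    rcases Finset.mem_union.1 h with h | h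
    · exact Or.inl (hfam _ h)
    · rcases Finset.mem_union.1 h with h | h
      · exact Or.inr (Or.inl ((hQmem _).1 h))
      · simp only [hE, Finset.mem_insert, Finset.mem_singleton, Subtype.mk.injEq] at h
        exact Or.inr (Or.inr h)
  · rw [Nat.card_eq_fintype_card, Fintype.card_subtype,
      show (Finset.univ.filter fun φ : Cfsg.IrrCharacter S => ∃ α : MulChar F ℂ, α ^ 2 ≠ 1 ∧ (φ : S → ℂ) = pr α) = P from
        Finset.ext fun φ => by simp [hPmem]]
    omega
  · rw [Nat.card_eq_fintype_card, Fintype.card_subtype,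
      show (Finset.univ.filter fun φ : Cfsg.IrrCharacter S => ∃ θ : C →* ℂˣ, θ ≠ θ⁻¹ ∧ (φ : S → ℂ) = wFun hT θ) = Q from
        Finset.ext fun φ => by simp [hQmem]]
    omega

end CfsgLib.SL2Table
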