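import Mathlib
import Cfsg.Prelude
import Cfsg.Agent.Lib.SL2Table.SL2OddComplete

/-!
The character table of `SL(2, F)` in characteristic two.
-/

namespace CfsgLib.SL2Table

open Matrix
open scoped ComplexConjugate

variable {F : Type*} [Field F] [Fintype F] [DecidableEq F] [CharP F 2]

local notation "S" => Matrix.SpecialLinearGroup (Fin 2) F
local notation "M2" => Matrix (Fin 2) (Fin 2) F

omit [DecidableEq F] in
theorem mulChar_sq_even {α : MulChar F ℂ} (h : α ^ 2 = 1) : α = 1 := by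
  refine MulChar.ext fun a => ?_
  rw [MulChar.one_apply a.isUnit]
  obtain ⟨b, hb⟩ := FiniteField.isSquare_of_char_two (ringChar.eq F 2) (a : F)
  have hb0 : b ≠ 0 := fun e => a.ne_zero (by rw [hb, e, mul_zero])
  have := congrArg (fun χ : MulChar F ℂ => χ b) h
  rw [hb, map_mul]
  simpa [pow_two, MulChar.one_apply hb0.isUnit] using this

theorem cusp_even_value {φ : S → ℂ} (hφ : Cfsg.IsIrrCharacter S φ) (hc : IsCuspS φ) :
    ∃ k : ℕ, 0 < k ∧ φ 1 = (k : ℂ) * ((Fintype.card F : ℂ) - 1) ∧ φ (pSL 1 1 (mul_one 1)) = -(k : ℂ) := by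
  have hcl := Char.isClassFunction_of_isIrr hφ
  have h := cuspS_sum_unipotent hcl hc
  obtain ⟨d, hd0, hd⟩ := Char.exists_degree_pos hφ
  have hval : ∀ x ∈ Finset.univ.erase (0 : F), φ (pSL 1 x (mul_one 1)) = φ (pSL 1 1 (mul_one 1)) := fun x hx => by
    obtain ⟨t1, n1, -⟩ := pSL_spec (1 : F) x (mul_one 1) (Finset.mem_erase.1 hx).1
    obtain ⟨t2, n2, -⟩ := pSL_spec (1 : F) 1 (mul_one 1) one_ne_zero
    exact Char.isClassFunction_iff.mp hcl _ _ (sl_conj_even n1 n2 (t1.trans t2.symm))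
  rw [← Finset.add_sum_erase _ _ (Finset.mem_univ (0 : F)), pSL_zero, Finset.sum_congr rfl hval, Finset.sum_const,
    Finset.card_erase_of_mem (Finset.mem_univ _), Finset.card_univ, nsmul_eq_mul, hd,
    Nat.cast_sub Fintype.card_pos, Nat.cast_one] at h
  have hq : 1 < Fintype.card F := Fintype.one_lt_card
  have hne : (Fintype.card F : ℂ) - 1 ≠ 0 := card_sub_one_ne
  have hdvd : Fintype.card F - 1 ∣ d := by
    refine Char.dvd_of_isIntegral_div (by omega) ?_
    have e : ((d : ℂ) / ((Fintype.card F - 1 : ℕ) : ℂ)) = - φ (pSL 1 1 (mul_one 1)) := by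
      rw [Nat.cast_sub Fintype.card_pos, Nat.cast_one, div_eq_iff hne]
      linear_combination h
    rw [e]
    exact (Char.char_isIntegral (Char.isCharacter_of_isIrr hφ) _).neg
  obtain ⟨n, rfl⟩ := hdvd
  refine ⟨n, pos_of_mul_pos_right hd0 (Nat.zero_le _), ?_, ?_⟩
  · rw [hd, Nat.cast_mul, Nat.cast_sub Fintype.card_pos, Nat.cast_one]; ring
  · rw [Nat.cast_mul, Nat.cast_sub Fintype.card_pos, Nat.cast_one] at h
    exact mul_left_cancel₀ hne (by linear_combination h)

theorem irrE_cases {φ : S → ℂ} (hφ : Cfsg.IsIrrCharacter S φ) :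
    (φ = fun _ => 1) ∨ φ = stS ∨ (∃ α : MulChar F ℂ, α ≠ 1 ∧ φ = pr α) ∨ IsCuspS φ := by
  classical
  by_contra h
  simp only [not_or, not_exists, not_and] at h
  obtain ⟨h1, h2, h3, h4⟩ := h
  apply h4
  intro α
  by_cases e : α = 1
  · subst e
    rw [show (pr 1 : S → ℂ) = stS + (fun _ => 1) by rw [stS, sub_add_cancel], Char.classInner_add_right,
      Char.classInner_irr_ne hφ isIrr_stS h2, Char.classInner_irr_ne hφ Char.isIrrCharacter_one h1, add_zero]
  · exact Char.classInner_irr_ne hφ ((isIrr_pr_iff α).2 fun e' => e (mulChar_sq_even e')) (h3 α e)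

theorem even_counts :
    Nat.card {φ : Cfsg.IrrCharacter S // ∃ α : MulChar F ℂ, α ≠ 1 ∧ (φ : S → ℂ) = pr α} = (Fintype.card F - 2) / 2 ∧
    Nat.card {φ : Cfsg.IrrCharacter S // IsCuspS (φ : S → ℂ)} = Fintype.card F / 2 ∧
    ∀ φ : S → ℂ, Cfsg.IsIrrCharacter S φ → IsCuspS φ →
      φ 1 = (Fintype.card F : ℂ) - 1 ∧ φ (pSL 1 1 (mul_one 1)) = -1 := by
  classical
  haveI : Fintype (MulChar F ℂ) := Fintype.ofFinite _
  set q := Fintype.card F with hqdef
  have hq2 : 2 ≤ q := Fintype.one_lt_card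
  let c0 : Cfsg.IrrCharacter S := ⟨fun _ => 1, Char.isIrrCharacter_one⟩
  let cS : Cfsg.IrrCharacter S := ⟨stS, isIrr_stS⟩
  set O : Finset (MulChar F ℂ) := Finset.univ.erase 1 with hO
  let R : MulChar F ℂ → Cfsg.IrrCharacter S := fun α =>
    if h : α ^ 2 ≠ 1 then ⟨pr α, (isIrr_pr_iff α).2 h⟩ else c0
  have hR : ∀ α ∈ O, (R α : S → ℂ) = pr α := fun α h => by
    have h' : α ^ 2 ≠ 1 := fun e => (Finset.mem_erase.1 h).1 (mulChar_sq_even e)
    simp only [R, dif_pos h']
  set P := O.image R with hP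
  have hOc : O.card + 2 = q := by
    rw [hO, Finset.card_erase_of_mem (Finset.mem_univ _), Finset.card_univ, ← Nat.card_eq_fintype_card,
      MulChar.card_eq_card_units_of_hasEnoughRootsOfUnity F ℂ, Nat.card_units, Nat.card_eq_fintype_card, ← hqdef]
    omega
  have hPc : 2 * P.card = O.card := by
    refine card_image_two O R (fun α => α⁻¹) (fun α h => ⟨?_, ?_⟩) (fun α h β h' => ?_)
    · simp only [hO, Finset.mem_erase, Finset.mem_univ, and_true] at h ⊢
      rwa [Ne, inv_eq_one]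
    · intro e
      exact (Finset.mem_erase.1 h).1 (mulChar_sq_even (by rw [pow_two]; exact mul_eq_one_iff_eq_inv.2 e.symm))
    · constructor
      · intro e
        have := congrArg Subtype.val e
        rw [hR α h, hR β h', pr_eq_iff] at this
        rcases this with rfl | rfl
        · exact Or.inl rfl
        · exact Or.inr (inv_inv β).symm
      · intro e
        refine Subtype.ext ?_
        rw [hR α h, hR β h', pr_eq_iff]
        rcases e with rfl | rfl
        · exact Or.inl rfl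
        · exact Or.inr (inv_inv α).symm
  have hPmem : ∀ φ, φ ∈ P ↔ ∃ α : MulChar F ℂ, α ≠ 1 ∧ (φ : S → ℂ) = pr α := by
    intro φ
    constructor
    · intro h
      obtain ⟨α, hα, rfl⟩ := Finset.mem_image.1 h
      exact ⟨α, (Finset.mem_erase.1 hα).1, hR α hα⟩
    · rintro ⟨α, hα, e⟩
      have h : α ∈ O := Finset.mem_erase.2 ⟨hα, Finset.mem_univ _⟩
      exact Finset.mem_image.2 ⟨α, h, Subtype.ext (by rw [hR α h, e])⟩
  set Q : Finset (Cfsg.IrrCharacter S) := Finset.univ.filter fun φ => IsCuspS (φ : S → ℂ) with hQ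
  have dP : ∀ φ ∈ P, (φ : S → ℂ) 1 = (q : ℂ) + 1 := fun φ h => by
    obtain ⟨α, -, e⟩ := (hPmem φ).1 h
    rw [e, pr_one]
  have j1 : Disjoint ({c0} : Finset (Cfsg.IrrCharacter S)) {cS} := by
    rw [Finset.disjoint_singleton]
    intro e
    have := congrFun (congrArg Subtype.val e) 1
    simp only [c0, cS, stS_one] at this
    have h : q = 1 := by exact_mod_cast this.symm
    omega
  have j2 : Disjoint ({c0} ∪ {cS} : Finset (Cfsg.IrrCharacter S)) P := Finset.disjoint_left.2 fun φ h h' => by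
    have hd := dP φ h'
    simp only [Finset.mem_union, Finset.mem_singleton] at h
    rcases h with rfl | rfl
    · simp only [c0] at hd
      have e : q + 1 = 1 := by exact_mod_cast hd.symm
      omega
    · rw [show (cS : S → ℂ) 1 = q from stS_one] at hd
      simp at hd
  have j3 : Disjoint ({c0} ∪ {cS} ∪ P : Finset (Cfsg.IrrCharacter S)) Q := Finset.disjoint_left.2 fun φ h h' => by
    have hc := (Finset.mem_filter.1 h').2
    simp only [Finset.mem_union, Finset.mem_singleton] at h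
    rcases h with (rfl | rfl) | h
    · have hz : Cfsg.classInner (fun _ : S => (1 : ℂ)) (pr 1) = 0 := hc 1
      rw [← Char.classInner_conj_symm, classInner_pr_one, if_pos rfl, map_one] at hz
      exact one_ne_zero hz
    · have hz : Cfsg.classInner (stS : S → ℂ) (pr 1) = 0 := hc 1
      rw [stS, Char.classInner_sub_left, classInner_pr, inv_one, if_pos rfl, ← Char.classInner_conj_symm,
        classInner_pr_one, if_pos rfl, map_one] at hz
      norm_num at hz
    · obtain ⟨α, hα, e⟩ := (hPmem φ).1 h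
      have hz : Cfsg.classInner (pr α : S → ℂ) (pr α) = 0 := e ▸ hc α
      rw [classInner_pr, if_pos rfl] at hz
      split_ifs at hz <;> norm_num at hz
  have huniv : (Finset.univ : Finset (Cfsg.IrrCharacter S)) = {c0} ∪ {cS} ∪ P ∪ Q := by
    refine (Finset.eq_univ_iff_forall.2 fun φ => ?_).symm
    rcases irrE_cases φ.2 with h | h | h | h
    · exact Finset.mem_union_left _ (Finset.mem_union_left _ (Finset.mem_union_left _ (Finset.mem_singleton.2 (Subtype.ext h))))
    · exact Finset.mem_union_left _ (Finset.mem_union_left _ (Finset.mem_union_right _ (Finset.mem_singleton.2 (Subtype.ext h))))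
    · exact Finset.mem_union_left _ (Finset.mem_union_right _ ((hPmem φ).2 h))
    · exact Finset.mem_union_right _ (Finset.mem_filter.2 ⟨Finset.mem_univ _, h⟩)
  have hQc : 2 * Q.card = q := by
    have h := congrArg Finset.card huniv
    rw [Finset.card_union_of_disjoint j3, Finset.card_union_of_disjoint j2, Finset.card_union_of_disjoint j1,
      Finset.card_singleton, Finset.card_singleton, Finset.card_univ, ← Nat.card_eq_fintype_card,
      Char.card_irr_eq_card_conjClasses, card_conjClasses_sl_even, ← hqdef] at h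
    omega
  choose n hn0 hn hnu using fun (φ : Cfsg.IrrCharacter S) (h : IsCuspS (φ : S → ℂ)) => cusp_even_value φ.2 h
  let m : Cfsg.IrrCharacter S → ℕ := fun φ => if h : IsCuspS (φ : S → ℂ) then n φ h else 1
  have hm : ∀ φ ∈ Q, (φ : S → ℂ) 1 = (m φ : ℂ) * ((q : ℂ) - 1) ∧ 1 ≤ m φ ∧
      (φ : S → ℂ) (pSL 1 1 (mul_one 1)) = -(m φ : ℂ) := fun φ h => by
    have h' := (Finset.mem_filter.1 h).2
    simp only [m, dif_pos h']
    exact ⟨hn φ h', hn0 φ h', hnu φ h'⟩
  have hsum : ∑ φ ∈ Q, (m φ) ^ 2 = Q.card := by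
    have h := Char.sum_degree_sq (G := S)
    rw [huniv, Finset.sum_union j3, Finset.sum_union j2, Finset.sum_union j1, Finset.sum_singleton,
      Finset.sum_singleton, Finset.sum_congr (rfl : P = P) (fun φ hφ => by rw [dP φ hφ]),
      Finset.sum_congr (rfl : Q = Q) (fun φ hφ => by rw [(hm φ hφ).1, mul_pow]), ← Finset.sum_mul,
      show (c0 : S → ℂ) 1 = 1 from rfl, show (cS : S → ℂ) 1 = (q : ℂ) from stS_one, Finset.sum_const,
      card_sl_two, ← hqdef, Nat.cast_mul, Nat.cast_sub (Nat.one_le_pow _ _ (by omega))] at h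
    simp only [nsmul_eq_mul] at h
    push_cast at h
    have hPc' : 2 * (P.card : ℂ) + 2 = (q : ℂ) := by
      have e : 2 * P.card + 2 = q := by omega
      rw [← e]; push_cast; ring
    have hQc' : 2 * (Q.card : ℂ) = (q : ℂ) := by exact_mod_cast congrArg (fun k : ℕ => (k : ℂ)) hQc
    have hne : (2 : ℂ) * ((q : ℂ) - 1) ^ 2 ≠ 0 := mul_ne_zero two_ne_zero (pow_ne_zero _ card_sub_one_ne)
    have e : (2 : ℂ) * ((q : ℂ) - 1) ^ 2 * ((∑ φ ∈ Q, (m φ) ^ 2 : ℕ) : ℂ) = 2 * ((q : ℂ) - 1) ^ 2 * (Q.card : ℂ) := by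
      push_cast
      linear_combination 2 * h - ((q : ℂ) + 1) ^ 2 * hPc' - ((q : ℂ) - 1) ^ 2 * hQc'
    exact_mod_cast mul_left_cancel₀ hne e
  have hall : ∀ φ ∈ Q, m φ = 1 := by
    intro φ hφ
    by_contra hne
    have hlt : ∑ _φ ∈ Q, 1 < ∑ φ ∈ Q, (m φ) ^ 2 := Finset.sum_lt_sum (fun ψ hψ => Nat.one_le_pow _ _ (hm ψ hψ).2.1)
      ⟨φ, hφ, Nat.one_lt_pow two_ne_zero (by have := (hm φ hφ).2.1; omega)⟩
    rw [hsum, Finset.sum_const, smul_eq_mul, mul_one] at hlt
    exact lt_irrefl _ hlt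
  refine ⟨?_, ?_, fun φ hφ hc => ?_⟩
  · rw [Nat.card_eq_fintype_card, Fintype.card_subtype,
      show (Finset.univ.filter fun φ : Cfsg.IrrCharacter S => ∃ α : MulChar F ℂ, α ≠ 1 ∧ (φ : S → ℂ) = pr α) = P from
        Finset.ext fun φ => by simp [hPmem]]
    omega
  · rw [Nat.card_eq_fintype_card, Fintype.card_subtype]
    change Q.card = _
    omega
  · have h : (⟨φ, hφ⟩ : Cfsg.IrrCharacter S) ∈ Q := Finset.mem_filter.2 ⟨Finset.mem_univ _, hc⟩
    obtain ⟨e1, -, e2⟩ := hm _ h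
    simp only [hall _ h, Nat.cast_one, one_mul] at e1 e2
    exact ⟨e1, e2⟩

theorem degreeE_cases {φ : S → ℂ} (hφ : Cfsg.IsIrrCharacter S φ) :
    (φ 1 = 1 ∧ φ = fun _ => 1) ∨ (φ 1 = (Fintype.card F : ℂ) ∧ φ = stS) ∨
      (φ 1 = (Fintype.card F : ℂ) + 1 ∧ ∃ α : MulChar F ℂ, α ≠ 1 ∧ φ = pr α) ∨
      (φ 1 = (Fintype.card F : ℂ) - 1 ∧ IsCuspS φ) := by
  rcases irrE_cases hφ with h | h | ⟨α, hα, h⟩ | h
  · exact Or.inl ⟨by rw [h], h⟩
  · exact Or.inr (Or.inl ⟨by rw [h, stS_one], h⟩)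
  · exact Or.inr (Or.inr (Or.inl ⟨by rw [h, pr_one], α, hα, h⟩))
  · exact Or.inr (Or.inr (Or.inr ⟨(even_counts.2.2 φ hφ h).1, h⟩))

end CfsgLib.SL2Table
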