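import Mathlib
import Cfsg.Prelude
import Cfsg.Agent.Lib.Char.Linear
import Cfsg.Agent.Lib.Char.Integral
import Cfsg.Agent.Lib.Char.Ito
import Cfsg.Agent.Lib.CharBlocks.Degree
import Cfsg.Agent.Lib.CharNormal.Basic

/-!
Counting characters of degree prime to a prime: generalities for the McKay equality.
-/

set_option autoImplicit false

namespace CfsgLib.SL2Table.McKay

open CfsgLib.Char

/-- The number of irreducible characters of degree prime to `ℓ`. -/
noncomputable def pdCount (ℓ : ℕ) (G : Type*) [Group G] [Finite G] : ℕ :=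
  Nat.card {χ : Cfsg.IrrCharacter G // ¬ ℓ ∣ Cfsg.charDegree (χ : G → ℂ)}

theorem deg_iff {G : Type*} [Group G] [Finite G] (χ : Cfsg.IrrCharacter G) (n : ℕ) :
    Cfsg.charDegree (χ : G → ℂ) = n ↔ (χ : G → ℂ) 1 = (n : ℂ) := by
  have := Fintype.ofFinite G
  refine ⟨fun h => ?_, fun h => CfsgLib.CharBlocks.charDegree_eq h⟩
  rw [← h]
  exact (CfsgLib.CharBlocks.coe_charDegree (isCharacter_of_isIrr χ.2)).symm

variable {G H : Type*} [Group G] [Finite G] [Group H] [Finite H]

theorem pdCount_equiv (ℓ : ℕ) (e : G ≃* H) : pdCount ℓ G = pdCount ℓ H := by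
  have := Fintype.ofFinite G
  have := Fintype.ofFinite H
  let f : Cfsg.IrrCharacter H ≃ Cfsg.IrrCharacter G :=
    { toFun := fun χ => ⟨(χ : H → ℂ) ∘ e, CfsgLib.CharNormal.isIrr_comp_mulEquiv χ.2 e⟩
      invFun := fun χ => ⟨(χ : G → ℂ) ∘ e.symm, CfsgLib.CharNormal.isIrr_comp_mulEquiv χ.2 e.symm⟩
      left_inv := fun χ => Subtype.ext (funext fun x => by simp)
      right_inv := fun χ => Subtype.ext (funext fun x => by simp) }
  refine (Nat.card_congr (f.subtypeEquiv fun χ => ?_)).symm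
  have h : (f χ : G → ℂ) 1 = (χ : H → ℂ) 1 := by simp [f]
  rw [(deg_iff χ (Cfsg.charDegree (f χ : G → ℂ))).mpr (h ▸ (deg_iff _ _).mp rfl)]

/-- It is enough to treat one Sylow subgroup. -/
theorem mckay_of_sylow {p : ℕ} [Fact p.Prime] (P Q : Sylow p G)
    (h : pdCount p G = pdCount p (Subgroup.normalizer ((Q : Subgroup G) : Set G))) :
    pdCount p G = pdCount p (Subgroup.normalizer ((P : Subgroup G) : Set G)) := by
  obtain ⟨g, rfl⟩ := MulAction.exists_smul_eq G Q P
  rw [h]
  refine pdCount_equiv p (((MulAut.conj g).subgroupMap _).trans (MulEquiv.subgroupCongr ?_))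
  exact Subgroup.map_equiv_normalizer_eq (Q : Subgroup G) (MulAut.conj g)

theorem mckay_of_normal {p : ℕ} (P : Subgroup G) [P.Normal] :
    pdCount p G = pdCount p (Subgroup.normalizer ((P : Subgroup G) : Set G)) :=
  (pdCount_equiv p ((MulEquiv.subgroupCongr (Subgroup.normalizer_eq_top_iff.mpr ‹_›)).trans Subgroup.topEquiv)).symm

omit [Group H] [Finite H] in
theorem pdCount_eq_classes (ℓ : ℕ) (h : ∀ χ : Cfsg.IrrCharacter G, ¬ ℓ ∣ Cfsg.charDegree (χ : G → ℂ)) :
    pdCount ℓ G = Nat.card (ConjClasses G) := by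
  have := Fintype.ofFinite G
  rw [← card_irr_eq_card_conjClasses]
  exact Nat.card_congr (Equiv.subtypeUnivEquiv h)

/-- With an abelian normal subgroup of index prime to `ℓ` every degree is prime to `ℓ`. -/
theorem pdCount_of_abelian_normal {ℓ : ℕ} (A : Subgroup G) [A.Normal]
    (hA : ∀ a ∈ A, ∀ b ∈ A, a * b = b * a) (hidx : ¬ ℓ ∣ A.index) :
    pdCount ℓ G = Nat.card (ConjClasses G) := by
  have := Fintype.ofFinite G
  refine pdCount_eq_classes ℓ fun χ hd => hidx (hd.trans ?_)
  exact degree_dvd_index_abelian_normal A hA χ.2 ((deg_iff χ _).mp rfl)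

/-- In a `2`-group only the linear characters have odd degree. -/
theorem pdCount_two_group (hG : IsPGroup 2 G) : pdCount 2 G = (commutator G).index := by
  have := Fintype.ofFinite G
  have : Fact (Nat.Prime 2) := ⟨Nat.prime_two⟩
  rw [← card_linear]
  refine Nat.card_congr (Equiv.subtypeEquivRight fun χ => ?_)
  rw [show ((χ : G → ℂ) 1 = 1) ↔ Cfsg.charDegree (χ : G → ℂ) = 1 by rw [deg_iff, Nat.cast_one]]
  refine ⟨fun h => ?_, fun h => by rw [h]; omega⟩
  obtain ⟨k, hk⟩ := IsPGroup.iff_card.mp hG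
  obtain ⟨j, -, hj⟩ := (Nat.dvd_prime_pow Nat.prime_two).mp (hk ▸ degree_dvd_card χ.2 ((deg_iff χ _).mp rfl))
  rcases j with _ | j
  · simpa using hj
  · exact absurd (hj ▸ dvd_pow_self 2 (Nat.succ_ne_zero j)) h

/-- A group of order `24` with seven classes or three linear characters. -/
theorem pdCount_twenty_four (hcard : Nat.card G = 24)
    (h : Nat.card (ConjClasses G) = 7 ∨ (commutator G).index = 3) : pdCount 2 G = 4 := by
  classical
  have := Fintype.ofFinite G
  let N : ℕ → ℕ := fun d => (Finset.univ.filter fun χ : Cfsg.IrrCharacter G => Cfsg.charDegree (χ : G → ℂ) = d).card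
  have hsq : ∑ χ : Cfsg.IrrCharacter G, Cfsg.charDegree (χ : G → ℂ) ^ 2 = 24 := by
    refine Nat.cast_injective (R := ℂ) ?_
    rw [Nat.cast_sum, ← hcard, ← sum_degree_sq]
    exact Finset.sum_congr rfl fun χ _ => by rw [Nat.cast_pow, (deg_iff χ _).mp rfl]
  have hmem : ∀ χ : Cfsg.IrrCharacter G, Cfsg.charDegree (χ : G → ℂ) ∈ ({1, 2, 3, 4} : Finset ℕ) := by
    intro χ
    have h1 : Cfsg.charDegree (χ : G → ℂ) ^ 2 ≤ 24 :=
      hsq ▸ Finset.single_le_sum (f := fun χ : Cfsg.IrrCharacter G => Cfsg.charDegree (χ : G → ℂ) ^ 2)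
        (fun _ _ => Nat.zero_le _) (Finset.mem_univ χ)
    have h2 : Cfsg.charDegree (χ : G → ℂ) < 5 := by
      by_contra h5
      push Not at h5
      nlinarith
    have h0 : Cfsg.charDegree (χ : G → ℂ) ≠ 0 := fun e => irr_one_ne_zero χ.2 (by
      rw [(deg_iff χ 0).mp e, Nat.cast_zero])
    simp only [Finset.mem_insert, Finset.mem_singleton]
    omega
  have hfib : ∀ f : ℕ → ℕ, ∑ χ : Cfsg.IrrCharacter G, f (Cfsg.charDegree (χ : G → ℂ)) =
      N 1 * f 1 + N 2 * f 2 + N 3 * f 3 + N 4 * f 4 := by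
    intro f
    rw [← Finset.sum_fiberwise_of_maps_to (fun χ _ => hmem χ)]
    simp only [Finset.sum_insert (show (1 : ℕ) ∉ ({2, 3, 4} : Finset ℕ) by decide),
      Finset.sum_insert (show (2 : ℕ) ∉ ({3, 4} : Finset ℕ) by decide),
      Finset.sum_insert (show (3 : ℕ) ∉ ({4} : Finset ℕ) by decide), Finset.sum_singleton]
    have hd : ∀ d, ∑ χ ∈ Finset.univ.filter (fun χ : Cfsg.IrrCharacter G => Cfsg.charDegree (χ : G → ℂ) = d),
        f (Cfsg.charDegree (χ : G → ℂ)) = N d * f d := fun d => by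
      rw [Finset.sum_congr rfl fun χ hχ => congrArg f (Finset.mem_filter.mp hχ).2, Finset.sum_const, smul_eq_mul]
    rw [hd, hd, hd, hd]
    ring
  have e1 := hfib fun d => d ^ 2
  rw [hsq] at e1
  have hk : Nat.card (ConjClasses G) = N 1 + N 2 + N 3 + N 4 := by
    rw [← card_irr_eq_card_conjClasses, Nat.card_eq_fintype_card, ← Finset.card_univ]
    have := hfib fun _ => 1
    rw [Finset.sum_const, smul_eq_mul, mul_one] at this
    simp only [mul_one] at this
    exact this
  have hlin : (commutator G).index = N 1 := by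
    rw [← card_linear, Nat.card_eq_fintype_card, Fintype.card_subtype]
    congr 1
    ext χ
    simp only [Finset.mem_filter, Finset.mem_univ, true_and, deg_iff, Nat.cast_one]
  have hodd : pdCount 2 G = N 1 + N 3 := by
    have := hfib fun d => if 2 ∣ d then 0 else 1
    norm_num at this
    rw [pdCount, Nat.card_eq_fintype_card, Fintype.card_subtype, ← this, Finset.sum_ite, Finset.sum_const_zero,
      zero_add, Finset.sum_const, smul_eq_mul, mul_one]
  rw [hk, hlin] at h
  have b1 : N 2 ≤ 6 := by omega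
  have b2 : N 3 ≤ 2 := by omega
  have b3 : N 4 ≤ 1 := by omega
  omega

end CfsgLib.SL2Table.McKay
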