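import Mathlib
import Cfsg.Prelude
import Cfsg.Agent.Lib.SL2Table.SL2Cusp

/-!
The normaliser of a cyclic subgroup of order `|F| + 1` of `SL(2, F)`, `|F|` odd.
-/

namespace CfsgLib.SL2Table

open Matrix

/-- Classes of a group with an abelian subgroup of index two, inverted outside. -/
theorem inverted_index_two_count {G : Type*} [Group G] [Finite G] (C N : Subgroup G) (w : G)
    (hcomm : ∀ x ∈ C, ∀ y ∈ C, x * y = y * x) (hw : ∀ x ∈ C, w * x = x⁻¹ * w) (hwC : w ∉ C)
    (hN : ∀ g, g ∈ N ↔ g ∈ C ∨ w⁻¹ * g ∈ C) (h2 : Nat.card {x : C // x * x = 1} = 2) :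
    Nat.card N = 2 * Nat.card C ∧
      Nat.card (ConjClasses N) * (2 * Nat.card C) = Nat.card C * Nat.card C + 6 * Nat.card C := by
  classical
  haveI : Fintype G := Fintype.ofFinite G
  haveI : Fintype C := Fintype.ofFinite _
  haveI : Fintype N := Fintype.ofFinite _
  have hbij : Function.Bijective (fun p : Bool × C => (⟨cond p.1 (p.2 : G) (w * p.2), (hN _).2 (by
      cases p.1
      · exact Or.inr (by simp)
      · exact Or.inl (by simp))⟩ : N)) := by
    constructor
    · rintro ⟨b, x⟩ ⟨b', y⟩ h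
      have h' := congrArg (fun g : N => (g : G)) h
      cases b <;> cases b' <;> simp at h'
      · rw [h']
      · refine absurd ?_ hwC
        rw [show w = (y : G) * (x : G)⁻¹ by rw [← h']; group]
        exact C.mul_mem y.2 (C.inv_mem x.2)
      · refine absurd ?_ hwC
        rw [show w = (x : G) * (y : G)⁻¹ by rw [h']; group]
        exact C.mul_mem x.2 (C.inv_mem y.2)
      · rw [h']
    · rintro ⟨g, hg⟩
      rcases (hN g).1 hg with h | h
      · exact ⟨(true, ⟨g, h⟩), rfl⟩
      · exact ⟨(false, ⟨_, h⟩), Subtype.ext (mul_inv_cancel_left w g)⟩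
  set e := Equiv.ofBijective _ hbij with he
  have hcardN : Nat.card N = 2 * Nat.card C := by
    rw [← Nat.card_congr e, Nat.card_prod]
    simp [Nat.card_eq_fintype_card]
  refine ⟨hcardN, ?_⟩
  have hsq : ∀ x : C, x * x = 1 ↔ (x : G) = (x : G)⁻¹ := fun x => by
    rw [Subtype.ext_iff, Subgroup.coe_mul, Subgroup.coe_one, mul_eq_one_iff_eq_inv]
  have hcv : ∀ x y : C, (x : G) * y = y * x := fun x y => hcomm _ x.2 _ y.2
  have hwv : ∀ x : C, w * x = (x : G)⁻¹ * w := fun x => hw _ x.2
  have hcom : ∀ b b' : Bool, ∀ x y : C, Commute (e (b, x)) (e (b', y)) ↔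
      (b = true ∧ b' = true) ∨ (b = true ∧ b' = false ∧ x * x = 1) ∨ (b = false ∧ b' = true ∧ y * y = 1) ∨
        (b = false ∧ b' = false ∧ (y⁻¹ * x) * (y⁻¹ * x) = 1) := by
    intro b b' x y
    rw [commute_iff_eq, Subtype.ext_iff, Subgroup.coe_mul, Subgroup.coe_mul, he, Equiv.ofBijective_apply,
      Equiv.ofBijective_apply]
    cases b <;> cases b' <;> simp only [cond_true, cond_false, Bool.false_eq_true, Bool.true_eq_false, false_and, and_false,
      true_and, and_true, false_or, or_false, hsq]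
    · have key : ∀ a c : C, w * (a : G) * (w * c) = w * w * ((a : G)⁻¹ * c) := fun a c => by
        have := hwv a⁻¹
        rw [Subgroup.coe_inv, inv_inv] at this
        rw [mul_assoc w (a : G), ← mul_assoc (a : G) w, ← this]
        group
      rw [key, key, mul_right_inj, Subgroup.coe_mul, Subgroup.coe_inv, _root_.mul_inv_rev, inv_inv, eq_comm]
    · have := hwv y⁻¹
      rw [Subgroup.coe_inv, inv_inv] at this
      rw [← mul_assoc (y : G) w, ← this, mul_assoc, mul_assoc, mul_right_inj, hcv, mul_left_inj]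
    · have := hwv x⁻¹
      rw [Subgroup.coe_inv, inv_inv] at this
      rw [← mul_assoc (x : G) w, ← this, mul_assoc, mul_assoc, mul_right_inj, hcv y x, mul_left_inj, eq_comm]
    · exact iff_of_true (hcv _ _) (by simp)
  have hpairs : Nat.card {p : N × N // Commute p.1 p.2} =
      Nat.card C * Nat.card C + 6 * Nat.card C := by
    rw [← Nat.card_congr (Equiv.subtypeEquiv (e.prodCongr e) (fun w => Iff.rfl) :
      {w : (Bool × C) × (Bool × C) // Commute (e w.1) (e w.2)} ≃ {p : N × N // Commute p.1 p.2})]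
    simp only [Nat.card_eq_fintype_card, Fintype.card_subtype, Finset.card_filter, Fintype.sum_prod_type,
      Fintype.sum_bool, hcom, Finset.sum_add_distrib]
    simp only [Bool.false_eq_true, false_and, and_false, or_false, false_or, true_and, if_true,
      Finset.sum_const, Finset.card_univ, smul_eq_mul, mul_one]
    have hF : (Finset.univ.filter fun x : C => x * x = 1).card = 2 := by
      rw [← Fintype.card_subtype, ← Nat.card_eq_fintype_card, h2]
    have hA : (∑ x : C, if x * x = 1 then 1 else 0 : ℕ) = 2 := by rw [← Finset.card_filter, hF]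
    have hB : ∀ a : C, (∑ x : C, if x⁻¹ * a * (x⁻¹ * a) = 1 then 1 else 0 : ℕ) = 2 := fun a => by
      rw [← hA]
      exact Fintype.sum_equiv ((Equiv.inv C).trans (Equiv.mulRight a)) _ _ fun x => rfl
    simp only [hB, hA, Finset.sum_const, Finset.card_univ, smul_eq_mul]
    simp [hF, apply_ite Finset.card, Finset.sum_ite, mul_comm]
    simp only [← Fintype.card_subtype, ← Nat.card_eq_fintype_card]
    ring
  have h := card_comm_eq_card_conjClasses_mul_card N
  rw [hpairs, hcardN] at h
  exact h.symm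

variable {F : Type*} [Field F] [Fintype F] [DecidableEq F]

local notation "S" => Matrix.SpecialLinearGroup (Fin 2) F
local notation "M2" => Matrix (Fin 2) (Fin 2) F

variable {C : Subgroup (Matrix.SpecialLinearGroup (Fin 2) F)} (hT : Torus C)

omit [Fintype F] in
theorem nonScalar_of_ne {g : S} (h1 : (g : M2) ≠ 1) (hm1 : (g : M2) ≠ -1) : NonScalar (g : M2) := by
  rintro ⟨a, ha⟩
  have h := g.2
  rw [ha, det_fin_two] at h
  simp at h
  rcases mul_self_eq_one_iff.1 h with e | e
  · exact h1 (by rw [ha, e, one_smul])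
  · exact hm1 (by rw [ha, e, neg_smul, one_smul])

include hT

theorem Torus.exists_inverter :
    ∃ w : S, w ∉ C ∧ ∀ x ∈ C, w * x = x⁻¹ * w := by
  have h2 := hT.two_ne
  obtain ⟨c, hc, hn⟩ := hT.exists_nonScalar
  have hell := hT.ell hc hn
  have ht : ((c⁻¹ : S) : M2).trace = (c : M2).trace := by
    rw [Matrix.SpecialLinearGroup.coe_inv, adjugate_fin_two, trace_fin_two, trace_fin_two]
    simp [add_comm]
  obtain ⟨v, hv⟩ := exists_qf_ne_zero hn
  obtain ⟨u, hu⟩ := exists_qf_eq h2 (M := ((c⁻¹ : S) : M2))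
    (by rw [ht, (c⁻¹).2, mul_one]; exact sub_ne_zero.2 (ell_trace h2 hell)) (qf (c : M2) v)
  obtain ⟨w, hw⟩ := isConj_iff.1 (sl_isConj c c⁻¹ ht.symm hv hu)
  have hwC : w ∉ C := fun h => by
    rw [hT.comm h hc, mul_inv_cancel_right] at hw
    exact CfsgLib.SL2Table.inv_ne_self hT hn hw.symm
  have hcn : NonScalar ((c⁻¹ : S) : M2) := fun h => hn (by
    obtain ⟨a, ha, ha1⟩ := sl_scalar_val (not_not.2 h : ¬ NonScalar ((c⁻¹ : S) : M2))
    refine not_not.1 (not_nonScalar_of_sq h2 (g := c) ?_)
    have h1 : c⁻¹ * c⁻¹ = 1 := Subtype.ext (by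
      rw [Matrix.SpecialLinearGroup.coe_mul, ha, Matrix.SpecialLinearGroup.coe_one]
      rcases ha1 with rfl | rfl <;> simp)
    rw [pow_two]
    simpa [← _root_.mul_inv_rev] using h1)
  have hcinv : Subgroup.centralizer ({c⁻¹} : Set S) = C :=
    hT.centralizer_eq (inv_mem hc) hcn
  refine ⟨w, hwC, fun x hx => ?_⟩
  by_cases hxn : NonScalar (x : M2)
  · have hmem : w * x * w⁻¹ ∈ C := by
      rw [← hcinv, Subgroup.mem_centralizer_singleton_iff, ← hw]
      calc w * x * w⁻¹ * (w * c * w⁻¹) = w * (x * c) * w⁻¹ := by group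
        _ = w * (c * x) * w⁻¹ := by rw [hT.comm hx hc]
        _ = w * c * w⁻¹ * (w * x * w⁻¹) := by group
    have htr : ((w * x * w⁻¹ : S) : M2).trace = (x : M2).trace := by
      rw [Matrix.SpecialLinearGroup.coe_mul, Matrix.SpecialLinearGroup.coe_mul, Matrix.trace_mul_cycle,
        ← Matrix.SpecialLinearGroup.coe_mul, inv_mul_cancel, Matrix.SpecialLinearGroup.coe_one, one_mul]
    rcases hT.eq_or_eq_inv hx hxn hmem htr with e | e
    · refine absurd ?_ hwC
      rw [← hT.centralizer_eq hx hxn, Subgroup.mem_centralizer_singleton_iff]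
      exact mul_inv_eq_iff_eq_mul.1 e
    · exact mul_inv_eq_iff_eq_mul.1 e
  · have hxx : x⁻¹ = x := by
      obtain ⟨a, ha, ha1⟩ := sl_scalar_val hxn
      refine inv_eq_of_mul_eq_one_right (Subtype.ext ?_)
      rw [Matrix.SpecialLinearGroup.coe_mul, ha, Matrix.SpecialLinearGroup.coe_one]
      rcases ha1 with rfl | rfl <;> simp
    rw [hxx, scalar_comm hxn w]

theorem Torus.centralizer_self : Subgroup.centralizer (C : Set S) = C := by
  obtain ⟨c, hc, hn⟩ := hT.exists_nonScalar
  refine le_antisymm (fun x hx => ?_) fun x hx => Subgroup.mem_centralizer_iff.2 fun y hy => hT.comm hy hx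
  rw [← hT.centralizer_eq hc hn]
  exact Subgroup.mem_centralizer_singleton_iff.2 (Subgroup.mem_centralizer_iff.1 hx c hc).symm

theorem Torus.normalizer_data :
    Nat.card (Subgroup.normalizer (C : Set S)) = 2 * (Fintype.card F + 1) ∧
    Nat.card (ConjClasses (Subgroup.normalizer (C : Set S))) = (Fintype.card F + 7) / 2 ∧
    ∀ g : S, g ∈ Subgroup.normalizer (C : Set S) → g ∉ C → g * g = -1 := by
  classical
  have h2 := hT.two_ne
  obtain ⟨w, hwC, hw⟩ := hT.exists_inverter
  obtain ⟨c, hc, hn⟩ := hT.exists_nonScalar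
  have hconj : ∀ x ∈ C, w * x * w⁻¹ = x⁻¹ := fun x hx => by rw [hw x hx, mul_inv_cancel_right]
  have hwN : w ∈ Subgroup.normalizer (C : Set S) := by
    refine Subgroup.mem_normalizer_iff.2 fun x => ⟨fun hx => by rw [hconj x hx]; exact inv_mem hx, fun hx => ?_⟩
    have h := hconj _ (inv_mem hx)
    have e : w * (w * x * w⁻¹)⁻¹ * w⁻¹ = w * x * w⁻¹ := by rw [h, inv_inv]
    have e' : (w * x * w⁻¹)⁻¹ = x := mul_left_cancel (mul_right_cancel e)
    exact e' ▸ inv_mem hx
  have hN : ∀ g : S, g ∈ Subgroup.normalizer (C : Set S) ↔ g ∈ C ∨ w⁻¹ * g ∈ C := by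
    intro g
    constructor
    · intro hg
      have hmem : g * c * g⁻¹ ∈ C := (Subgroup.mem_normalizer_iff.1 hg c).1 hc
      have htr : ((g * c * g⁻¹ : S) : M2).trace = (c : M2).trace := by
        rw [Matrix.SpecialLinearGroup.coe_mul, Matrix.SpecialLinearGroup.coe_mul, Matrix.trace_mul_cycle,
          ← Matrix.SpecialLinearGroup.coe_mul, inv_mul_cancel, Matrix.SpecialLinearGroup.coe_one, one_mul]
      rcases hT.eq_or_eq_inv hc hn hmem htr with e | e
      · left
        rw [← hT.centralizer_eq hc hn, Subgroup.mem_centralizer_singleton_iff]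
        exact mul_inv_eq_iff_eq_mul.1 e
      · right
        rw [← hT.centralizer_eq hc hn, Subgroup.mem_centralizer_singleton_iff]
        calc w⁻¹ * g * c = w⁻¹ * (g * c * g⁻¹) * g := by group
          _ = w⁻¹ * (w * c * w⁻¹) * g := by rw [e, hconj c hc]
          _ = c * (w⁻¹ * g) := by group
    · rintro (h | h)
      · exact Subgroup.le_normalizer h
      · rw [← mul_inv_cancel_left w g]
        exact mul_mem hwN (Subgroup.le_normalizer h)
  have hsq : Nat.card {x : C // x * x = 1} = 2 := by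
    rw [Nat.card_eq_two_iff]
    refine ⟨⟨1, by simp⟩, ⟨⟨-1, hT.neg_one_mem⟩, Subtype.ext (by simp)⟩, fun e => h2 ?_,
      Set.eq_univ_iff_forall.2 fun ⟨⟨x, hx⟩, hxx⟩ => ?_⟩
    · have h' := congrFun (congrFun (congrArg (fun a : {x : C // x * x = 1} => (((a : C) : S) : M2)) e) 0) 0
      simp at h'
      linear_combination h'
    · have hx2 : x ^ 2 = 1 := by rw [pow_two]; exact congrArg Subtype.val hxx
      obtain ⟨a, ha, ha1⟩ := sl_scalar_val (not_nonScalar_of_sq h2 hx2)
      rcases ha1 with rfl | rfl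
      · exact Or.inl (Subtype.ext (Subtype.ext (Subtype.ext (by simpa using ha))))
      · exact Or.inr (Subtype.ext (Subtype.ext (Subtype.ext (by simpa using ha))))
  obtain ⟨hcard, hk⟩ := inverted_index_two_count C _ w (fun x hx y hy => hT.comm hx hy) hw hwC hN hsq
  rw [hT.card] at hcard hk
  refine ⟨hcard, ?_, fun g hg hgC => ?_⟩
  · obtain ⟨k, hk'⟩ := hT.odd
    rw [hk'] at hk ⊢
    have : Nat.card (ConjClasses (Subgroup.normalizer (C : Set S))) = k + 4 :=
      Nat.eq_of_mul_eq_mul_right (show 0 < 2 * (2 * k + 1 + 1) by omega) (hk.trans (by ring))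
    omega
  · have hx := ((hN g).1 hg).resolve_left hgC
    set x := w⁻¹ * g with hxdef
    have hg' : g = w * x := by rw [hxdef, mul_inv_cancel_left]
    have hinv : ∀ y ∈ C, g * y = y⁻¹ * g := fun y hy => by
      rw [hg', mul_assoc, hT.comm hx hy, ← mul_assoc, hw y hy, mul_assoc]
    have hgg : g * g ∈ C := by
      rw [← hT.centralizer_self, Subgroup.mem_centralizer_iff]
      intro y hy
      calc y * (g * g) = y⁻¹⁻¹ * g * g := by rw [inv_inv, mul_assoc]
        _ = g * (y⁻¹ * g) := by rw [← hinv _ (inv_mem hy), mul_assoc]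
        _ = g * g * y := by rw [← hinv y hy, mul_assoc]
    have h4 : (g * g) ^ 2 = 1 := by
      have := hinv _ hgg
      rw [← mul_assoc] at this
      have e : g * g = (g * g)⁻¹ := mul_right_cancel this
      rw [pow_two]
      nth_rewrite 2 [e]
      exact mul_inv_cancel _
    obtain ⟨a, ha, ha1⟩ := sl_scalar_val (not_nonScalar_of_sq h2 h4)
    rcases ha1 with rfl | rfl
    · exfalso
      apply hgC
      exact hT.scalar_mem (not_nonScalar_of_sq h2 (by rw [pow_two]; exact Subtype.ext (by simpa using ha)))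
    · exact Subtype.ext (by simpa using ha)

end CfsgLib.SL2Table
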