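import Mathlib
import Cfsg.Prelude
import Cfsg.Agent.Lib.SL2Table.SL2McKayCount
import Cfsg.Agent.Lib.SL2Table.SL2TorusNormalizer
import Cfsg.Agent.Lib.CharNormal.ItoCoprime

/-!
Sylow normalisers inside the normaliser of a torus of `SL(2, F)`, and their characters of degree
prime to the Sylow prime.
-/

set_option autoImplicit false

namespace CfsgLib.SL2Table.McKay

open Matrix
open scoped commutatorElement

variable {F : Type*} [Field F] [Fintype F] [DecidableEq F]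

local notation "S" => Matrix.SpecialLinearGroup (Fin 2) F
local notation "M2" => Matrix (Fin 2) (Fin 2) F

/-- A maximal torus with its normaliser. -/
structure TorusData (T : Subgroup (Matrix.SpecialLinearGroup (Fin 2) F)) : Prop where
  two : (2 : F) ≠ 0
  comm : ∀ a ∈ T, ∀ b ∈ T, a * b = b * a
  cent : ∀ t ∈ T, NonScalar (t : M2) → Subgroup.centralizer ({t} : Set S) = T
  card_normalizer : Nat.card (Subgroup.normalizer (T : Set S)) = 2 * Nat.card T
  sq : ∀ g : S, g ∈ Subgroup.normalizer (T : Set S) → g ∉ T → g * g = -1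

omit [Fintype F] [DecidableEq F] in
theorem eq_one_or_neg_one (h2 : (2 : F) ≠ 0) {x : S} (h : x * x = 1) : x = 1 ∨ x = -1 := by
  obtain ⟨a, ha, ha1⟩ := sl_scalar_val (not_nonScalar_of_sq h2 (g := x) (by rw [pow_two, h]))
  rcases ha1 with rfl | rfl
  · exact Or.inl (Subtype.ext (by simpa using ha))
  · exact Or.inr (Subtype.ext (by simpa using ha))

omit [Fintype F] [DecidableEq F] in
theorem mul_self_of_scalar {x : S} (h : ¬ NonScalar (x : M2)) : x * x = 1 := by
  obtain ⟨a, ha, ha1⟩ := sl_scalar_val h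
  refine Subtype.ext ?_
  rw [Matrix.SpecialLinearGroup.coe_mul, ha, Matrix.SpecialLinearGroup.coe_one]
  rcases ha1 with rfl | rfl <;> simp

omit [Fintype F] [DecidableEq F] in
theorem neg_one_ne_one (h2 : (2 : F) ≠ 0) : (-1 : S) ≠ 1 := fun e => h2 (by
  have h := congrFun (congrFun (congrArg (fun x : S => (x : M2)) e) 0) 0
  simp at h
  linear_combination -h)

variable {T : Subgroup (Matrix.SpecialLinearGroup (Fin 2) F)}

/-- An element carrying a nonscalar element of `T` into `T` normalises `T`. -/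
theorem TorusData.mem_normalizer (hT : TorusData T) {g t : S} (ht : t ∈ T) (hn : NonScalar (t : M2))
    (h : g * t * g⁻¹ ∈ T) : g ∈ Subgroup.normalizer (T : Set S) := by
  refine CfsgLib.CharNormal.mem_normalizer_of_conj_le fun x hx => ?_
  rw [← hT.cent _ h ((sl_nonScalar_conj (isConj_iff.2 ⟨g, rfl⟩)).1 hn), Subgroup.mem_centralizer_singleton_iff]
  calc g * x * g⁻¹ * (g * t * g⁻¹) = g * (x * t) * g⁻¹ := by group
    _ = g * (t * x) * g⁻¹ := by rw [hT.comm x hx t ht]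
    _ = g * t * g⁻¹ * (g * x * g⁻¹) := by group

theorem TorusData.index_eq_two (hT : TorusData T) :
    (T.subgroupOf (Subgroup.normalizer (T : Set S))).index = 2 := by
  have h := (T.subgroupOf (Subgroup.normalizer (T : Set S))).card_mul_index
  rw [Nat.card_congr (Subgroup.subgroupOfEquivOfLe (H := T) Subgroup.le_normalizer).toEquiv,
    hT.card_normalizer, mul_comm 2] at h
  exact Nat.eq_of_mul_eq_mul_left Nat.card_pos h

omit [DecidableEq F] in
theorem exists_sylow_part (ℓ : ℕ) [Fact ℓ.Prime] (T : Subgroup S) (hcomm : ∀ a ∈ T, ∀ b ∈ T, a * b = b * a) :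
    ∃ P₀ : Subgroup S, P₀ ≤ T ∧ Nat.card P₀ = ℓ ^ (Nat.card T).factorization ℓ ∧ IsPGroup ℓ P₀ ∧
      ∀ x ∈ T, (∃ k : ℕ, x ^ ℓ ^ k = 1) → x ∈ P₀ := by
  obtain ⟨R⟩ := (inferInstance : Nonempty (Sylow ℓ T))
  refine ⟨(R : Subgroup T).map T.subtype, Subgroup.map_subtype_le _, ?_, R.isPGroup'.map _, fun x hx hk => ?_⟩
  · rw [Subgroup.card_map_of_injective T.subtype_injective]
    exact R.card_eq_multiplicity
  · obtain ⟨k, hk⟩ := hk
    have hp : IsPGroup ℓ (Subgroup.zpowers (⟨x, hx⟩ : T)) := by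
      obtain ⟨j, -, hj⟩ := (Nat.dvd_prime_pow (Fact.out : ℓ.Prime)).mp (orderOf_dvd_of_pow_eq_one hk)
      exact IsPGroup.of_card (n := j) (by rw [Nat.card_zpowers, Subgroup.orderOf_mk, hj])
    have : (R : Subgroup T).Normal :=
      ⟨fun a ha b => by
        rwa [show b * a = a * b from Subtype.ext (hcomm _ b.2 _ a.2), mul_inv_cancel_right]⟩
    obtain ⟨R', hR'⟩ := hp.exists_le_sylow
    have := Sylow.unique_of_normal R inferInstance
    exact ⟨⟨x, hx⟩, (Subsingleton.elim R' R) ▸ hR' (Subgroup.mem_zpowers _), rfl⟩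

theorem factorization_mul_of_not_dvd {ℓ a b : ℕ} (hℓ : ℓ.Prime) (ha : a ≠ 0) (hb : ¬ ℓ ∣ b) :
    (a * b).factorization ℓ = a.factorization ℓ := by
  rw [Nat.factorization_mul ha (by rintro rfl; exact hb (dvd_zero ℓ)), Finsupp.add_apply,
    Nat.factorization_eq_zero_of_not_dvd hb, add_zero]

/-- The odd prime dividing the order of a torus. -/
theorem torus_odd (hT : TorusData T) {ℓ : ℕ} [Fact ℓ.Prime] (hℓ2 : ℓ ≠ 2) (hdvd : ℓ ∣ Nat.card T) {X : ℕ}
    (hX : Nat.card S = Nat.card T * X) (hXℓ : ¬ ℓ ∣ X) :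
    ∃ P : Sylow ℓ S, pdCount ℓ (Subgroup.normalizer ((P : Subgroup S) : Set S)) =
      Nat.card (ConjClasses (Subgroup.normalizer (T : Set S))) := by
  have hℓ : ℓ.Prime := Fact.out
  obtain ⟨P₀, hle, hcard, hp, hmem⟩ := exists_sylow_part ℓ T hT.comm
  let P : Sylow ℓ S := Sylow.ofCard P₀ (by
    rw [hcard, hX, factorization_mul_of_not_dvd hℓ Nat.card_pos.ne' hXℓ])
  refine ⟨P, ?_⟩
  have hN : Subgroup.normalizer ((P : Subgroup S) : Set S) = Subgroup.normalizer (T : Set S) := by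
    show Subgroup.normalizer (P₀ : Set S) = _
    have hℓP : ℓ ∣ Nat.card P₀ := by
      rw [hcard]
      exact dvd_pow_self ℓ (hℓ.factorization_pos_of_dvd Nat.card_pos.ne' hdvd).ne'
    obtain ⟨c, hc⟩ := exists_prime_orderOf_dvd_card' (G := P₀) ℓ hℓP
    have hcn : NonScalar ((c : S) : M2) := by
      by_contra h
      have h1 : (c : S) ^ 2 = 1 := by rw [pow_two]; exact mul_self_of_scalar h
      have h2 := orderOf_dvd_of_pow_eq_one h1
      rw [Subgroup.orderOf_coe, hc] at h2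
      exact hℓ2 ((Nat.prime_dvd_prime_iff_eq hℓ Nat.prime_two).mp h2)
    refine le_antisymm (fun (g : S) (hg : g ∈ Subgroup.normalizer (P₀ : Set S)) => hT.mem_normalizer (hle c.2) hcn
      (hle ((Subgroup.mem_normalizer_iff.mp hg (c : S)).mp c.2))) fun g hg => ?_
    refine CfsgLib.CharNormal.mem_normalizer_of_conj_le fun x hx => hmem _
      ((Subgroup.mem_normalizer_iff.mp hg x).mp (hle hx)) ?_
    obtain ⟨k, hk⟩ := hp ⟨x, hx⟩
    refine ⟨k, ?_⟩
    rw [conj_pow, show x ^ ℓ ^ k = 1 from congrArg Subtype.val hk, mul_one, mul_inv_cancel]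
  rw [pdCount_equiv ℓ (MulEquiv.subgroupCongr hN)]
  refine pdCount_of_abelian_normal (T.subgroupOf (Subgroup.normalizer (T : Set S)))
    (fun a ha b hb => Subtype.ext (hT.comm _ ha _ hb)) ?_
  rw [hT.index_eq_two]
  exact fun h => hℓ2 ((Nat.prime_dvd_prime_iff_eq hℓ Nat.prime_two).mp h)

/-- The prime two. -/
theorem torus_two (hT : TorusData T) (h4 : 4 ∣ Nat.card T) {X : ℕ} (hX : Nat.card S = 2 * Nat.card T * X)
    (hXo : Odd X) :
    ∃ P : Sylow 2 S, pdCount 2 (Subgroup.normalizer ((P : Subgroup S) : Set S)) = 4 := by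
  classical
  have h2F := hT.two
  have hone := neg_one_ne_one (F := F) h2F
  set NT := Subgroup.normalizer (T : Set S) with hNT
  obtain ⟨P₀, hle, hcard, hp, hmem⟩ := exists_sylow_part 2 T hT.comm
  obtain ⟨a, ha2, ha⟩ : ∃ a, 2 ≤ a ∧ Nat.card P₀ = 2 ^ a :=
    ⟨_, (Nat.prime_two.pow_dvd_iff_le_factorization Nat.card_pos.ne').mp h4, hcard⟩
  have haT : (Nat.card T).factorization 2 = a := Nat.pow_right_injective le_rfl (hcard.symm.trans ha)
  -- an element outside
  obtain ⟨w, hwN, hwT⟩ : ∃ w, w ∈ NT ∧ w ∉ T := by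
    by_contra h
    push Not at h
    have h' := Subgroup.card_le_of_le (show NT ≤ T from h)
    rw [hT.card_normalizer] at h'
    have : 0 < Nat.card T := Nat.card_pos
    omega
  have hmulT : ∀ x y : S, x ∈ NT → x ∉ T → y ∈ NT → y ∉ T → x * y ∈ T := fun x y hx hxT hy hyT => by
    have := (Subgroup.mul_mem_iff_of_index_two hT.index_eq_two (a := (⟨x, hx⟩ : NT)) (b := ⟨y, hy⟩))
    simp only [Subgroup.mem_subgroupOf] at this
    exact this.mpr (iff_of_false hxT hyT)
  have hinv : ∀ x ∈ T, w * x * w⁻¹ = x⁻¹ := by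
    intro x hx
    have hwx : w * x ∈ NT := mul_mem hwN (Subgroup.le_normalizer hx)
    have hwxT : w * x ∉ T := fun h => hwT (by simpa using mul_mem h (inv_mem hx))
    have e : w * x * (w * x) = w * w := (hT.sq _ hwx hwxT).trans (hT.sq w hwN hwT).symm
    have e' : x * (w * x) = w := mul_left_cancel (a := w) (by rw [← e]; group)
    calc w * x * w⁻¹ = x⁻¹ * (x * (w * x)) * w⁻¹ := by group
      _ = x⁻¹ := by rw [e']; group
  have hw2 : w * w = -1 := hT.sq w hwN hwT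
  have hwP : ∀ k : S, k ∈ NT → k ∉ T → ∃ j : ℕ, k ^ 2 ^ j = 1 := fun k hk hkT =>
    ⟨2, by rw [show (2 : ℕ) ^ 2 = 2 * 2 by norm_num, pow_mul, pow_two k, hT.sq k hk hkT, pow_two]; simp⟩
  -- a Sylow 2-subgroup
  have hP₀N : P₀ ≤ NT := hle.trans Subgroup.le_normalizer
  have hP₀nN : (P₀.subgroupOf NT).Normal := ⟨fun x hx g => by
    rw [Subgroup.mem_subgroupOf] at hx ⊢
    simp only [Subgroup.coe_mul, Subgroup.coe_inv]
    obtain ⟨k, hk⟩ := hp ⟨_, hx⟩
    refine hmem _ ((Subgroup.mem_normalizer_iff.mp g.2 _).mp (hle hx)) ⟨k, ?_⟩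
    rw [conj_pow, show (x : S) ^ 2 ^ k = 1 from congrArg Subtype.val hk, mul_one, mul_inv_cancel]⟩
  obtain ⟨j, hj⟩ := hwP w hwN hwT
  have hzp : IsPGroup 2 (Subgroup.zpowers (⟨w, hwN⟩ : NT)) := by
    obtain ⟨i, -, hi⟩ := (Nat.dvd_prime_pow Nat.prime_two).mp (orderOf_dvd_of_pow_eq_one hj)
    exact IsPGroup.of_card (n := i) (by rw [Nat.card_zpowers, Subgroup.orderOf_mk, hi])
  obtain ⟨R, hR⟩ := hzp.exists_le_sylow
  have hPR : P₀.subgroupOf NT ≤ (R : Subgroup NT) := by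
    have h1 : IsPGroup 2 (P₀.subgroupOf NT) := hp.of_equiv (Subgroup.subgroupOfEquivOfLe hP₀N).symm
    have h2 := h1.to_sup_of_normal_left R.isPGroup'
    exact le_sup_left.trans_eq (R.is_maximal' h2 le_sup_right)
  set S₀ := (R : Subgroup NT).map NT.subtype with hS₀
  have hS₀N : S₀ ≤ NT := Subgroup.map_subtype_le _
  have hwS : w ∈ S₀ := ⟨⟨w, hwN⟩, hR (Subgroup.mem_zpowers _), rfl⟩
  have hPS : P₀ ≤ S₀ := fun x hx => ⟨⟨x, hP₀N hx⟩, hPR hx, rfl⟩
  have hS₀p : IsPGroup 2 S₀ := R.isPGroup'.map _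
  have hST : ∀ x ∈ S₀, x ∈ T → x ∈ P₀ := fun x hx hxT => by
    obtain ⟨k, hk⟩ := hS₀p ⟨x, hx⟩
    exact hmem x hxT ⟨k, congrArg Subtype.val hk⟩
  have hS₀c : Nat.card S₀ = 2 ^ (a + 1) := by
    rw [hS₀, Subgroup.card_map_of_injective NT.subtype_injective]
    refine R.card_eq_multiplicity.trans ?_
    rw [hT.card_normalizer, mul_comm, Nat.factorization_mul Nat.card_pos.ne' two_ne_zero, Finsupp.add_apply,
      Nat.prime_two.factorization_self, haT]
  let P : Sylow 2 S := Sylow.ofCard S₀ (by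
    rw [hS₀c, hX, factorization_mul_of_not_dvd Nat.prime_two (Nat.mul_ne_zero two_ne_zero Nat.card_pos.ne') hXo.not_two_dvd_nat,
      mul_comm 2, Nat.factorization_mul Nat.card_pos.ne' two_ne_zero, Finsupp.add_apply,
      Nat.prime_two.factorization_self, haT])
  refine ⟨P, ?_⟩
  show pdCount 2 (Subgroup.normalizer (S₀ : Set S)) = 4
  -- the squares
  let f : P₀ →* S := MonoidHom.mk' (fun y => (y : S) * y) fun y z => by
    show (y : S) * z * (y * z) = y * y * (z * z)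
    rw [mul_assoc, ← mul_assoc (z : S) y, hT.comm z (hle z.2) y (hle y.2)]
    group
  set K := f.range with hK
  have hmone : (-1 : S) ∈ P₀ := by
    refine hmem _ ?_ ⟨1, by rw [pow_one, pow_two]; simp⟩
    rw [← hw2]
    exact hmulT w w hwN hwT hwN hwT
  have hker : Nat.card f.ker = 2 := by
    rw [Nat.card_eq_two_iff]
    refine ⟨⟨1, one_mem _⟩, ⟨⟨-1, hmone⟩, by show (-1 : S) * (-1) = 1; simp⟩,
      fun e => hone (congrArg (fun z : f.ker => ((z : P₀) : S)) e).symm,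
      Set.eq_univ_iff_forall.2 fun ⟨⟨y, hy⟩, hyy⟩ => ?_⟩
    rcases eq_one_or_neg_one h2F (show y * y = 1 from hyy) with rfl | rfl
    · exact Or.inl rfl
    · exact Or.inr rfl
  have hKc : Nat.card K = 2 ^ (a - 1) := by
    have h := f.ker.card_mul_index
    rw [hker, Subgroup.index_ker, ha, ← hK] at h
    obtain ⟨b, rfl⟩ : ∃ b, a = b + 1 := ⟨a - 1, by omega⟩
    rw [Nat.add_sub_cancel]
    rw [pow_succ'] at h
    exact Nat.eq_of_mul_eq_mul_left two_pos h
  have hKP : K ≤ P₀ := by rintro _ ⟨y, rfl⟩; exact mul_mem y.2 y.2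
  have hKS : K ≤ S₀ := hKP.trans hPS
  have hKconj : ∀ x ∈ S₀, ∀ k ∈ K, x * k * x⁻¹ ∈ K := by
    rintro x hx k ⟨y, rfl⟩
    by_cases hxT : x ∈ T
    · rw [hT.comm x hxT _ (hle (hKP ⟨y, rfl⟩)), mul_inv_cancel_right]; exact ⟨y, rfl⟩
    · have hfy : f y ∈ T := hle (hKP ⟨y, rfl⟩)
      have hxw : x * w⁻¹ ∈ T := by
        refine hmulT x w⁻¹ (hS₀N hx) hxT (inv_mem hwN) fun h => hwT ?_
        simpa using inv_mem h
      refine ⟨y⁻¹, ?_⟩
      rw [map_inv]
      calc (f y)⁻¹ = (x * w⁻¹) * (f y)⁻¹ * (x * w⁻¹)⁻¹ := by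
            rw [hT.comm _ hxw _ (inv_mem hfy)]; group
        _ = (x * w⁻¹) * (w * f y * w⁻¹) * (x * w⁻¹)⁻¹ := by rw [hinv _ hfy]
        _ = x * f y * x⁻¹ := by group
  set KS := K.subgroupOf S₀ with hKS'
  have hKSn : KS.Normal := ⟨fun k hk x => by
    rw [hKS', Subgroup.mem_subgroupOf] at hk ⊢
    simp only [Subgroup.coe_mul, Subgroup.coe_inv]
    exact hKconj x x.2 k hk⟩
  have hKSi : KS.index = 4 := by
    have h := KS.card_mul_index
    rw [Nat.card_congr (Subgroup.subgroupOfEquivOfLe hKS).toEquiv, hKc, hS₀c] at h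
    obtain ⟨b, rfl⟩ : ∃ b, a = b + 1 := ⟨a - 1, by omega⟩
    rw [Nat.add_sub_cancel] at h
    exact Nat.eq_of_mul_eq_mul_left (pow_pos two_pos b) (h.trans (by ring))
  have hq4 : Nat.card (↥S₀ ⧸ KS) = 2 ^ 2 := hKSi
  have hqcomm : ∀ u v : ↥S₀ ⧸ KS, u * v = v * u :=
    (IsPGroup.isMulCommutative_of_card_eq_prime_sq (p := 2) hq4).is_comm.comm
  have hcK : ∀ u v : S, u ∈ S₀ → v ∈ S₀ → u * v * u⁻¹ * v⁻¹ ∈ K := fun u v hu hv => by
    let u' : ↥S₀ := ⟨u, hu⟩
    let v' : ↥S₀ := ⟨v, hv⟩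
    have h : QuotientGroup.mk' KS (u' * v' * u'⁻¹ * v'⁻¹) = 1 := by
      rw [map_mul, map_mul, map_mul, map_inv, map_inv, hqcomm (QuotientGroup.mk' KS u') (QuotientGroup.mk' KS v')]
      group
    exact Subgroup.mem_subgroupOf.mp ((QuotientGroup.eq_one_iff (N := KS) _).mp h)
  have hKeq : ∀ y : P₀, f y = (y : S) * w * (y : S)⁻¹ * w⁻¹ := fun y => by
    show (y : S) * y = _
    calc (y : S) * y = y * (w * (y : S)⁻¹ * w⁻¹) := by rw [hinv _ (inv_mem (hle y.2)), inv_inv]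
      _ = _ := by group
  have hcomm : (commutator ↥S₀).index = 4 := by
    rw [show commutator ↥S₀ = KS from le_antisymm ?_ ?_, hKSi]
    · rw [commutator_eq_closure, Subgroup.closure_le]
      rintro _ ⟨u, v, rfl⟩
      rw [SetLike.mem_coe, hKS', Subgroup.mem_subgroupOf, commutatorElement_def]
      simpa using hcK u v u.2 v.2
    · rintro ⟨x, hx⟩ hxK
      obtain ⟨y, hy⟩ : x ∈ K := hxK
      have : (⟨x, hx⟩ : ↥S₀) = ⁅(⟨y, hPS y.2⟩ : ↥S₀), ⟨w, hwS⟩⁆ := Subtype.ext (by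
        rw [commutatorElement_def]
        simpa using hy.symm.trans (hKeq y))
      rw [this]
      exact Subgroup.commutator_mem_commutator (Subgroup.mem_top _) (Subgroup.mem_top _)
  set NS := Subgroup.normalizer (S₀ : Set S) with hNS
  have hS₀NS : S₀ ≤ NS := Subgroup.le_normalizer
  -- inside the normaliser of the torus
  have hinside : ∀ g ∈ NS, g ∈ NT → g ∈ S₀ := by
    have haux : ∀ g ∈ NS, g ∈ T → g ∈ S₀ := by
      intro g hg hgT
      have h1 : g * w * g⁻¹ ∈ S₀ := (Subgroup.mem_normalizer_iff.mp hg w).mp hwS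
      have h2 : g * g ∈ S₀ := by
        have : g * g = g * w * g⁻¹ * w⁻¹ := by
          calc g * g = g * (w * g⁻¹ * w⁻¹) := by rw [hinv _ (inv_mem hgT), inv_inv]
            _ = _ := by group
        rw [this]
        exact mul_mem h1 (inv_mem hwS)
      obtain ⟨k, hk⟩ := hp ⟨_, hST _ h2 (mul_mem hgT hgT)⟩
      refine hPS (hmem g hgT ⟨k + 1, ?_⟩)
      rw [pow_succ', pow_mul, pow_two]
      exact congrArg Subtype.val hk
    intro g hg hgN
    by_cases hgT : g ∈ T
    · exact haux g hg hgT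
    · have h := haux _ (mul_mem hg (hS₀NS hwS)) (hmulT g w hgN hgT hwN hwT)
      simpa using mul_mem h (inv_mem hwS)
  by_cases hall : NS ≤ NT
  · have hNS' : NS = S₀ := le_antisymm (fun g hg => hinside g hg (hall hg)) hS₀NS
    rw [pdCount_equiv 2 (MulEquiv.subgroupCongr hNS'), pdCount_two_group hS₀p, hcomm]
  obtain ⟨g₀, hg₀, hg₀N⟩ := Set.not_subset.mp hall
  have hKNS : ∀ g ∈ NS, ∀ k ∈ K, g * k * g⁻¹ ∈ K := by
    rintro g hg k ⟨y, rfl⟩
    rw [hKeq y]
    have e : g * ((y : S) * w * (y : S)⁻¹ * w⁻¹) * g⁻¹ =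
        (g * y * g⁻¹) * (g * w * g⁻¹) * (g * y * g⁻¹)⁻¹ * (g * w * g⁻¹)⁻¹ := by group
    rw [e]
    exact hcK _ _ ((Subgroup.mem_normalizer_iff.mp hg _).mp (hPS y.2)) ((Subgroup.mem_normalizer_iff.mp hg _).mp hwS)
  have hKscal : ∀ k ∈ K, ¬ NonScalar (k : M2) := fun k hk hn =>
    hg₀N (hT.mem_normalizer (hle (hKP hk)) hn (hle (hKP (hKNS g₀ hg₀ k hk))))
  have hKsub : ∀ k ∈ K, k = 1 ∨ k = -1 := fun k hk => eq_one_or_neg_one h2F (mul_self_of_scalar (hKscal k hk))
  obtain rfl : a = 2 := by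
    have h1 : Nat.card K ≤ 2 := by
      rw [← SetLike.coe_sort_coe, Nat.card_coe_set_eq]
      refine (Set.ncard_le_ncard (t := ({1, -1} : Set S)) (fun k hk => ?_) (Set.toFinite _)).trans ?_
      · rcases hKsub k hk with rfl | rfl <;> simp
      · exact (Set.ncard_insert_le _ _).trans (by rw [Set.ncard_singleton])
    rw [hKc] at h1
    have : a - 1 ≤ 1 := by
      by_contra hc
      have := Nat.pow_le_pow_right two_pos (show 2 ≤ a - 1 by omega)
      omega
    omega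
  obtain ⟨t, htP, htn⟩ : ∃ t ∈ P₀, NonScalar (t : M2) := by
    by_contra h
    push Not at h
    have h1 : Nat.card P₀ ≤ 2 := by
      rw [← SetLike.coe_sort_coe, Nat.card_coe_set_eq]
      refine (Set.ncard_le_ncard (t := ({1, -1} : Set S)) (fun k hk => ?_) (Set.toFinite _)).trans ?_
      · rcases eq_one_or_neg_one h2F (mul_self_of_scalar (h k hk)) with rfl | rfl <;> simp
      · exact (Set.ncard_insert_le _ _).trans (by rw [Set.ncard_singleton])
    omega
  -- cosets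
  let cl : NS → ↥S₀ ⧸ KS := fun g =>
    ((⟨(g : S) * t * (g : S)⁻¹, (Subgroup.mem_normalizer_iff.mp g.2 t).mp (hPS htP)⟩ : ↥S₀) : ↥S₀ ⧸ KS)
  have hclne : ∀ g : NS, cl g ≠ 1 := fun g h => by
    exact hKscal _ (Subgroup.mem_subgroupOf.mp ((QuotientGroup.eq_one_iff (N := KS) _).mp h)) ((sl_nonScalar_conj (isConj_iff.2 ⟨(g : S), rfl⟩)).1 htn)
  have hclinj : ∀ g h : NS, cl g = cl h → (g : S)⁻¹ * h ∈ S₀ := by
    intro g h e
    have hk : ((g : S) * t * (g : S)⁻¹)⁻¹ * ((h : S) * t * (h : S)⁻¹) ∈ K := Subgroup.mem_subgroupOf.mp ((QuotientGroup.eq (s := KS)).mp e)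
    refine hinside _ (mul_mem (inv_mem g.2) h.2) (hT.mem_normalizer (hle htP) htn ?_)
    set u := ((g : S) * t * (g : S)⁻¹)⁻¹ * ((h : S) * t * (h : S)⁻¹) with hu
    have hu' : (g : S)⁻¹ * h * t * ((g : S)⁻¹ * h)⁻¹ = t * ((g : S)⁻¹ * u * g) := by rw [hu]; group
    have huK : (g : S)⁻¹ * u * g ∈ K := by
      have := hKNS _ (inv_mem g.2) u hk
      rwa [inv_inv] at this
    rw [hu']
    exact mul_mem (hle htP) (hle (hKP huK))
  set SX := S₀.subgroupOf NS with hSX
  have hSXn : SX.Normal := Subgroup.normal_in_normalizer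
  have hinj : Function.Injective fun q : ↥NS ⧸ SX => (⟨cl q.out, hclne _⟩ : {u : ↥S₀ ⧸ KS // u ≠ 1}) := by
    intro q r e
    rw [← q.out_eq, ← r.out_eq]
    exact QuotientGroup.eq.mpr (hclinj _ _ (congrArg Subtype.val e))
  have hle3 : SX.index ≤ 3 := by
    refine (Nat.card_le_card_of_injective _ hinj).trans (le_of_eq ?_)
    let _ := Fintype.ofFinite (↥S₀ ⧸ KS)
    rw [Nat.card_eq_fintype_card, Fintype.card_subtype_compl, Fintype.card_subtype_eq, ← Nat.card_eq_fintype_card, hq4]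
    norm_num
  have hne1 : SX.index ≠ 1 := fun h => hg₀N (hS₀N (by
    have := (Subgroup.index_eq_one.mp h) ▸ Subgroup.mem_top (⟨g₀, hg₀⟩ : NS)
    exact this))
  have hne2 : SX.index ≠ 2 := fun h => by
    have h' : SX.index ∣ (P : Subgroup S).index := (Subgroup.relIndex_dvd_index_of_le hS₀NS : _)
    rw [h] at h'
    exact P.not_dvd_index h'
  have h3 : SX.index = 3 := by
    have : SX.index ≠ 0 := Subgroup.index_ne_zero_of_finite
    omega
  have h24 : Nat.card NS = 24 := by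
    rw [← SX.card_mul_index, h3, Nat.card_congr (Subgroup.subgroupOfEquivOfLe hS₀NS).toEquiv, hS₀c]
    norm_num
  refine pdCount_twenty_four h24 (Or.inr ?_)
  -- the derived subgroup
  let X : Subgroup ↥S₀ := ((commutator NS).map NS.subtype).subgroupOf S₀
  have hKX : KS ≤ X := by
    rintro ⟨x, hx⟩ hxK
    obtain ⟨y, hy⟩ : x ∈ K := hxK
    show x ∈ (commutator NS).map NS.subtype
    refine ⟨⁅(⟨y, hS₀NS (hPS y.2)⟩ : NS), ⟨w, hS₀NS hwS⟩⁆,
      Subgroup.commutator_mem_commutator (Subgroup.mem_top _) (Subgroup.mem_top _), ?_⟩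
    rw [← hy, hKeq y, commutatorElement_def]
    rfl
  have hu : ∀ g : NS, cl g * (cl 1)⁻¹ ∈ X.map (QuotientGroup.mk' KS) := by
    intro g
    refine ⟨⟨(g : S) * t * (g : S)⁻¹, (Subgroup.mem_normalizer_iff.mp g.2 t).mp (hPS htP)⟩ *
      (⟨t, hPS htP⟩)⁻¹, ?_, ?_⟩
    · show (g : S) * t * (g : S)⁻¹ * t⁻¹ ∈ (commutator NS).map NS.subtype
      exact ⟨⁅g, (⟨t, hS₀NS (hPS htP)⟩ : NS)⁆,
        Subgroup.commutator_mem_commutator (Subgroup.mem_top _) (Subgroup.mem_top _), rfl⟩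
    · rw [map_mul, map_inv]
      show cl g * _ = cl g * _
      congr 2
      exact congrArg (QuotientGroup.mk (s := KS)) (Subtype.ext (by simp : t = ((1 : NS) : S) * t * ((1 : NS) : S)⁻¹))
  have hXtop : X = ⊤ := by
    have hcard : Nat.card (X.map (QuotientGroup.mk' KS)) = 4 := by
      have hle4 : Nat.card (X.map (QuotientGroup.mk' KS)) ∣ 4 := by
        have := Subgroup.card_subgroup_dvd_card (X.map (QuotientGroup.mk' KS))
        rwa [hq4] at this
      let ψ : ↥NS ⧸ SX → X.map (QuotientGroup.mk' KS) := fun q => ⟨cl q.out * (cl 1)⁻¹, hu _⟩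
      have hψ : Function.Injective ψ := fun q r e =>
        hinj (Subtype.ext (mul_right_cancel (congrArg Subtype.val e)))
      have h3' := Nat.card_le_card_of_injective ψ hψ
      rw [show Nat.card (↥NS ⧸ SX) = 3 from h3] at h3'
      have := Nat.le_of_dvd (by norm_num) hle4
      interval_cases hc : Nat.card (X.map (QuotientGroup.mk' KS))
      · norm_num at hle4
      · rfl
    have := Subgroup.eq_top_of_card_eq _ (hcard.trans hq4.symm)
    have h' := congrArg (Subgroup.comap (QuotientGroup.mk' KS)) this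
    rwa [Subgroup.comap_map_eq, QuotientGroup.ker_mk', sup_eq_left.mpr hKX, Subgroup.comap_top] at h'
  have hle' : SX ≤ commutator NS := fun x hx => by
    have : (⟨(x : S), hx⟩ : ↥S₀) ∈ X := hXtop ▸ Subgroup.mem_top _
    obtain ⟨z, hz, hzx⟩ : (x : S) ∈ (commutator NS).map NS.subtype := this
    exact Subtype.ext hzx ▸ hz
  have hge : commutator NS ≤ SX := by
    rw [commutator_eq_closure, Subgroup.closure_le]
    rintro _ ⟨u, v, rfl⟩
    have : Fact (Nat.Prime 3) := ⟨by norm_num⟩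
    have hc : IsCyclic (↥NS ⧸ SX) := isCyclic_of_prime_card (p := 3) h3
    rw [SetLike.mem_coe, ← QuotientGroup.eq_one_iff]
    show QuotientGroup.mk' SX ⁅u, v⁆ = 1
    rw [map_commutatorElement, commutatorElement_eq_one_iff_mul_comm]
    exact (IsCyclic.commutative (α := ↥NS ⧸ SX)).is_comm.comm _ _
  rw [le_antisymm hge hle', h3]

end CfsgLib.SL2Table.McKay
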