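import Mathlib
import Cfsg.Prelude
import Cfsg.Agent.Lib.SL2Table.SL2OddComplete
import Cfsg.Agent.Lib.SL2Table.SL2Even

/-!
Consequences of the character table of `SL(2, F)`.
-/

namespace CfsgLib.SL2Table

open Matrix

variable {F : Type*} [Field F] [Fintype F]

local notation "S" => Matrix.SpecialLinearGroup (Fin 2) F
local notation "M2" => Matrix (Fin 2) (Fin 2) F

omit [Fintype F] in
theorem diag_ne_of_sq {g : S} (h01 : (g : M2) 0 1 = 0) (ha : (g : M2) 0 0 ^ 2 ≠ 1) :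
    (g : M2) 0 0 ≠ (g : M2) 1 1 := by
  intro e
  apply ha
  have hd := g.2
  rw [det_fin_two, h01, zero_mul, sub_zero, ← e] at hd
  rw [pow_two, hd]

omit [Fintype F] in
theorem diag_ne_zero {g : S} (h01 : (g : M2) 0 1 = 0) : (g : M2) 0 0 ≠ 0 ∧ (g : M2) 1 1 = ((g : M2) 0 0)⁻¹ := by
  have hd := g.2
  rw [det_fin_two, h01, zero_mul, sub_zero] at hd
  exact ⟨left_ne_zero_of_mul_eq_one hd, (inv_eq_of_mul_eq_one_right hd).symm⟩

theorem five_le_of_sq_ne (hodd : Odd (Fintype.card F)) {a : F} (ha : a ≠ 0) (ha2 : a ^ 2 ≠ 1) :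
    5 ≤ Fintype.card F := by
  by_contra hlt
  obtain ⟨k, hk⟩ := hodd
  have := Fintype.one_lt_card (α := F)
  have h3 : Fintype.card F = 3 := by omega
  apply ha2
  have := FiniteField.pow_card_sub_one_eq_one a ha
  rwa [h3] at this

theorem charP_two_of_even (h : Even (Fintype.card F)) : CharP F 2 :=
  ringChar.of_eq (FiniteField.even_card_iff_char_two.2 (Nat.even_iff.1 h))

/-- An element of `GL(2, F)` of nonsquare determinant commuting with an elliptic element. -/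
theorem exists_comm_nonsquare (h2 : (2 : F) ≠ 0) {g : S} (hg : Ell (g : M2)) :
    ∃ x : GL (Fin 2) F, ¬ IsSquare (x : M2).det ∧ slConj x g = g := by
  obtain ⟨ν, hν⟩ := Spectrum.exists_nonsquare' h2
  have hν0 : ν ≠ 0 := fun e => hν (e ▸ IsSquare.zero)
  have hd : (comp (g : M2).trace 1).trace * (comp (g : M2).trace 1).trace -
      4 * (comp (g : M2).trace 1).det ≠ 0 := by
    have := ell_trace h2 hg
    simp [comp, trace_fin_two, det_fin_two] at this ⊢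
    exact sub_ne_zero.2 this
  obtain ⟨w, hw⟩ := exists_qf_eq h2 hd ν
  have hdet : (w 0 • (1 : M2) + w 1 • (g : M2)).det = ν := by
    rw [det_add_smul, g.2, ← hw]
    simp [qf, comp]
  obtain ⟨x, hx⟩ : ∃ x : GL (Fin 2) F, (x : M2) = w 0 • (1 : M2) + w 1 • (g : M2) :=
    ⟨GeneralLinearGroup.mkOfDetNeZero _ (by rw [hdet]; exact hν0), rfl⟩
  refine ⟨x, by rw [hx, hdet]; exact hν, (eq_slConj (Units.ext ?_)).symm⟩
  have hc : (x : M2) * (g : M2) = (g : M2) * (x : M2) := by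
    rw [hx, add_mul, mul_add, smul_mul_assoc, mul_smul_comm, one_mul, mul_one, smul_mul_assoc, mul_smul_comm]
  change (g : M2) = (x : M2) * (g : M2) * ((x⁻¹ : GL (Fin 2) F) : M2)
  rw [hc, mul_assoc, Units.mul_inv, mul_one]

variable [DecidableEq F]

theorem halves_eq_at_elliptic {χ ψ : S → ℂ} (h2 : (2 : F) ≠ 0)
    (hswap : ∀ (x : GL (Fin 2) F), ¬ IsSquare (x : M2).det → ∀ g, χ (slConj x g) = ψ g ∧ ψ (slConj x g) = χ g)
    {g : S} (hg : Ell (g : M2)) : χ g = ψ g := by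
  obtain ⟨x, hx, hxg⟩ := exists_comm_nonsquare h2 hg
  simpa [hxg] using (hswap x hx g).1

theorem halves_eq_at_split {χ ψ : S → ℂ} (h2 : (2 : F) ≠ 0)
    (hswap : ∀ (x : GL (Fin 2) F), ¬ IsSquare (x : M2).det → ∀ g, χ (slConj x g) = ψ g ∧ ψ (slConj x g) = χ g)
    {g : S} (h01 : (g : M2) 0 1 = 0) (h10 : (g : M2) 1 0 = 0) : χ g = ψ g := by
  obtain ⟨ν, hν⟩ := Spectrum.exists_nonsquare' h2
  have hν0 : ν ≠ 0 := fun e => hν (e ▸ IsSquare.zero)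
  have hxg : slConj (diagGL ν hν0) g = g := by
    refine (eq_slConj (Units.ext ?_)).symm
    have hc : (diagGL ν hν0 : M2) * (g : M2) = (g : M2) * (diagGL ν hν0 : M2) := by
      change !![ν, 0; 0, 1] * (g : M2) = (g : M2) * !![ν, 0; 0, 1]
      ext i j
      fin_cases i <;> fin_cases j <;> simp [Matrix.mul_apply, Fin.sum_univ_two, h01, h10, mul_comm]
    change (g : M2) = (diagGL ν hν0 : M2) * (g : M2) * (((diagGL ν hν0)⁻¹ : GL (Fin 2) F) : M2)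
    rw [hc, mul_assoc, Units.mul_inv, mul_one]
  have := hswap (diagGL ν hν0) (by change ¬ IsSquare (!![ν, 0; 0, 1] : M2).det; simpa [det_fin_two] using hν) g
  simpa [hxg] using this.1

variable {C : Subgroup (Matrix.SpecialLinearGroup (Fin 2) F)} {hT : Torus C}
  {θ₀ : C →* ℂˣ} {χ₁ χ₂ χ₃ χ₄ : Matrix.SpecialLinearGroup (Fin 2) F → ℂ}

theorem Table.degree_cases (hTb : Table hT θ₀ χ₁ χ₂ χ₃ χ₄) {φ : S → ℂ} (hφ : Cfsg.IsIrrCharacter S φ) :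
    ∃ n : ℕ, φ 1 = n ∧
      ((n = 1 ∧ φ = fun _ => 1) ∨ (n = Fintype.card F ∧ φ = stS) ∨
        (n = Fintype.card F + 1 ∧ ∃ α : MulChar F ℂ, α ^ 2 ≠ 1 ∧ φ = pr α) ∨
        (n = (Fintype.card F + 1) / 2 ∧ (φ = χ₁ ∨ φ = χ₂)) ∨
        (n = Fintype.card F - 1 ∧ ∃ θ : C →* ℂˣ, θ ≠ θ⁻¹ ∧ φ = wFun hT θ) ∨
        (n = (Fintype.card F - 1) / 2 ∧ (φ = χ₃ ∨ φ = χ₄))) := by
  obtain ⟨-, -, -, -, ⟨d1, d2⟩, -⟩ := hTb.prHalves
  obtain ⟨-, -, -, -, -, ⟨d3, d4⟩, -⟩ := hTb.wHalves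
  rcases hTb.complete φ hφ with (h | h | ⟨α, hα, h⟩ | h | h) | ⟨θ, hθ, h⟩ | h | h
  · exact ⟨1, by rw [h]; simp, Or.inl ⟨rfl, h⟩⟩
  · exact ⟨_, by rw [h, stS_one], Or.inr (Or.inl ⟨rfl, h⟩)⟩
  · exact ⟨_, by rw [h, pr_one]; push_cast; rfl, Or.inr (Or.inr (Or.inl ⟨rfl, α, hα, h⟩))⟩
  · exact ⟨_, by rw [h, d1], Or.inr (Or.inr (Or.inr (Or.inl ⟨rfl, Or.inl h⟩)))⟩
  · exact ⟨_, by rw [h, d2], Or.inr (Or.inr (Or.inr (Or.inl ⟨rfl, Or.inr h⟩)))⟩
  · refine ⟨_, ?_, Or.inr (Or.inr (Or.inr (Or.inr (Or.inl ⟨rfl, θ, hθ, h⟩))))⟩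
    rw [h, wFun_one, Nat.cast_sub Fintype.card_pos, Nat.cast_one]
  · exact ⟨_, by rw [h, d3], Or.inr (Or.inr (Or.inr (Or.inr (Or.inr ⟨rfl, Or.inl h⟩))))⟩
  · exact ⟨_, by rw [h, d4], Or.inr (Or.inr (Or.inr (Or.inr (Or.inr ⟨rfl, Or.inr h⟩))))⟩

omit [DecidableEq F] in
theorem cast_card_pred : (((Fintype.card F - 1 : ℕ)) : ℂ) = (Fintype.card F : ℂ) - 1 := by
  rw [Nat.cast_sub Fintype.card_pos, Nat.cast_one]

omit [DecidableEq F] in
theorem two_lt_card (hodd : Odd (Fintype.card F)) : 3 ≤ Fintype.card F := by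
  obtain ⟨k, hk⟩ := hodd
  have := Fintype.one_lt_card (α := F)
  omega

theorem Table.of_deg_q (hTb : Table hT θ₀ χ₁ χ₂ χ₃ χ₄) {φ : S → ℂ} (hφ : Cfsg.IsIrrCharacter S φ)
    (hd : φ 1 = (Fintype.card F : ℂ)) : φ = stS := by
  obtain ⟨n, hn, h⟩ := hTb.degree_cases hφ
  have e : n = Fintype.card F := by rw [hd] at hn; exact_mod_cast hn.symm
  have := two_lt_card (F := F) hT.odd
  rcases h with h | h | h | h | h | h
  all_goals first
    | exact h.2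
    | (exfalso; obtain ⟨k, hk⟩ := hT.odd; have := h.1; omega)

theorem Table.of_deg_q_add_one (hTb : Table hT θ₀ χ₁ χ₂ χ₃ χ₄) {φ : S → ℂ} (hφ : Cfsg.IsIrrCharacter S φ)
    (hd : φ 1 = (Fintype.card F : ℂ) + 1) : ∃ α : MulChar F ℂ, α ^ 2 ≠ 1 ∧ φ = pr α := by
  obtain ⟨n, hn, h⟩ := hTb.degree_cases hφ
  have e : n = Fintype.card F + 1 := by rw [hd] at hn; exact_mod_cast hn.symm
  have := two_lt_card (F := F) hT.odd
  rcases h with h | h | h | h | h | h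
  all_goals first
    | exact h.2
    | (exfalso; obtain ⟨k, hk⟩ := hT.odd; have := h.1; omega)

theorem Table.of_deg_one (hTb : Table hT θ₀ χ₁ χ₂ χ₃ χ₄) (hq : 5 ≤ Fintype.card F) {φ : S → ℂ}
    (hφ : Cfsg.IsIrrCharacter S φ) (hd : φ 1 = 1) : φ = fun _ => 1 := by
  obtain ⟨n, hn, h⟩ := hTb.degree_cases hφ
  have e : n = 1 := by rw [hd] at hn; exact_mod_cast hn.symm
  rcases h with h | h | h | h | h | h
  all_goals first
    | exact h.2
    | (exfalso; obtain ⟨k, hk⟩ := hT.odd; have := h.1; omega)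

theorem Table.of_deg_half_plus (hTb : Table hT θ₀ χ₁ χ₂ χ₃ χ₄) (hq : 5 ≤ Fintype.card F) {φ : S → ℂ}
    (hφ : Cfsg.IsIrrCharacter S φ) (hd : φ 1 = (((Fintype.card F + 1) / 2 : ℕ) : ℂ)) : φ = χ₁ ∨ φ = χ₂ := by
  obtain ⟨n, hn, h⟩ := hTb.degree_cases hφ
  have e : n = (Fintype.card F + 1) / 2 := by rw [hd] at hn; exact_mod_cast hn.symm
  rcases h with h | h | h | h | h | h
  all_goals first
    | exact h.2
    | (exfalso; obtain ⟨k, hk⟩ := hT.odd; have := h.1; omega)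

theorem Table.of_deg_half_minus (hTb : Table hT θ₀ χ₁ χ₂ χ₃ χ₄) (hq : 5 ≤ Fintype.card F) {φ : S → ℂ}
    (hφ : Cfsg.IsIrrCharacter S φ) (hd : φ 1 = (((Fintype.card F - 1) / 2 : ℕ) : ℂ)) : φ = χ₃ ∨ φ = χ₄ := by
  obtain ⟨n, hn, h⟩ := hTb.degree_cases hφ
  have e : n = (Fintype.card F - 1) / 2 := by rw [hd] at hn; exact_mod_cast hn.symm
  rcases h with h | h | h | h | h | h
  all_goals first
    | exact h.2
    | (exfalso; obtain ⟨k, hk⟩ := hT.odd; have := h.1; omega)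

theorem Table.of_deg_q_sub_one (hTb : Table hT θ₀ χ₁ χ₂ χ₃ χ₄) (hq : 5 ≤ Fintype.card F) {φ : S → ℂ}
    (hφ : Cfsg.IsIrrCharacter S φ) (hd : φ 1 = (Fintype.card F : ℂ) - 1) :
    ∃ θ : C →* ℂˣ, θ ≠ θ⁻¹ ∧ φ = wFun hT θ := by
  obtain ⟨n, hn, h⟩ := hTb.degree_cases hφ
  have e : n = Fintype.card F - 1 := by
    rw [hd, ← cast_card_pred] at hn; exact_mod_cast hn.symm
  rcases h with h | h | h | h | h | h
  all_goals first
    | exact h.2
    | (exfalso; obtain ⟨k, hk⟩ := hT.odd; have := h.1; omega)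

theorem Table.q_sub_one_cases (hTb : Table hT θ₀ χ₁ χ₂ χ₃ χ₄) {φ : S → ℂ} (hφ : Cfsg.IsIrrCharacter S φ)
    (hd : φ 1 = (Fintype.card F : ℂ) - 1) :
    (∃ θ : C →* ℂˣ, θ ≠ θ⁻¹ ∧ φ = wFun hT θ) ∨ (Fintype.card F = 3 ∧ (φ = χ₁ ∨ φ = χ₂)) := by
  obtain ⟨n, hn, h⟩ := hTb.degree_cases hφ
  have e : n = Fintype.card F - 1 := by
    rw [hd, ← cast_card_pred] at hn; exact_mod_cast hn.symm
  have := two_lt_card (F := F) hT.odd
  rcases h with h | h | h | h | h | h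
  all_goals first
    | exact Or.inl h.2
    | (refine Or.inr ⟨?_, h.2⟩; obtain ⟨k, hk⟩ := hT.odd; have := h.1; omega)
    | (exfalso; obtain ⟨k, hk⟩ := hT.odd; have := h.1; omega)

theorem Table.half_plus_cases (hTb : Table hT θ₀ χ₁ χ₂ χ₃ χ₄) {φ : S → ℂ} (hφ : Cfsg.IsIrrCharacter S φ)
    (hd : φ 1 = (((Fintype.card F + 1) / 2 : ℕ) : ℂ)) :
    (φ = χ₁ ∨ φ = χ₂) ∨ (Fintype.card F = 3 ∧ ∃ θ : C →* ℂˣ, θ ≠ θ⁻¹ ∧ φ = wFun hT θ) := by
  obtain ⟨n, hn, h⟩ := hTb.degree_cases hφ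
  have e : n = (Fintype.card F + 1) / 2 := by rw [hd] at hn; exact_mod_cast hn.symm
  have := two_lt_card (F := F) hT.odd
  rcases h with h | h | h | h | h | h
  all_goals first
    | exact Or.inl h.2
    | (refine Or.inr ⟨?_, h.2⟩; obtain ⟨k, hk⟩ := hT.odd; have := h.1; omega)
    | (exfalso; obtain ⟨k, hk⟩ := hT.odd; have := h.1; omega)

include hT in
/-- Over three elements the discrete series vanishes at elliptic elements. -/
theorem theta_sum_three (h3 : Fintype.card F = 3) {θ : C →* ℂˣ} (hθ : θ ≠ θ⁻¹) {c : C}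
    (hn : NonScalar ((c : S) : M2)) : (θ c : ℂ) + ((θ c)⁻¹ : ℂˣ) = 0 := by
  have hcard : Nat.card C = 4 := by rw [hT.card, h3]
  have h4 : c ^ 4 = 1 := by rw [← hcard]; exact pow_card_eq_one'
  have h2c : c ^ 2 ≠ 1 := fun e => not_nonScalar_of_sq hT.two_ne
    (by simpa using congrArg Subtype.val e) hn
  have hord : orderOf c = 4 := by
    have hd : orderOf c ∣ 4 := orderOf_dvd_of_pow_eq_one h4
    have hnd : ¬ orderOf c ∣ 2 := fun h => h2c (orderOf_dvd_iff_pow_eq_one.1 h)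
    have hle := Nat.le_of_dvd (by norm_num) hd
    interval_cases orderOf c <;> simp_all
  have hgen : Subgroup.zpowers c = ⊤ :=
    Subgroup.eq_top_of_card_eq _ (by rw [Nat.card_zpowers, hord, hcard])
  have hne : θ c ^ 2 ≠ 1 := by
    intro e
    apply hθ
    ext d
    obtain ⟨k, hk⟩ := Subgroup.mem_zpowers_iff.1 (hgen.symm ▸ Subgroup.mem_top d : d ∈ Subgroup.zpowers c)
    have hinv : θ c = (θ c)⁻¹ := eq_inv_of_mul_eq_one_left (by rw [← pow_two]; exact e)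
    change ((θ d : ℂˣ) : ℂ) = (((θ d)⁻¹ : ℂˣ) : ℂ)
    rw [← hk, map_zpow, ← _root_.inv_zpow, ← hinv]
  have hsq : (θ c : ℂ) ^ 2 = -1 := by
    have h' : ((θ c : ℂ) ^ 2) * ((θ c : ℂ) ^ 2) = 1 := by
      rw [← pow_add, ← Units.val_pow_eq_pow_val, ← map_pow]
      simp [show 2 + 2 = 4 from rfl, h4]
    refine (mul_self_eq_one_iff.1 h').resolve_left fun e => hne (Units.ext ?_)
    simpa using e
  rw [Units.val_inv_eq_inv_val]
  have h0 : (θ c : ℂ) ≠ 0 := Units.ne_zero _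
  field_simp
  linear_combination hsq

theorem Table.split_zero (hTb : Table hT θ₀ χ₁ χ₂ χ₃ χ₄) {φ : S → ℂ} (hφ : Cfsg.IsIrrCharacter S φ) {g : S}
    (hd : φ 1 = (Fintype.card F : ℂ) - 1 ∨ φ 1 = (((Fintype.card F - 1) / 2 : ℕ) : ℂ))
    (h01 : (g : M2) 0 1 = 0) (h10 : (g : M2) 1 0 = 0) (ha : (g : M2) 0 0 ^ 2 ≠ 1) : φ g = 0 := by
  have hq := five_le_of_sq_ne hT.odd (diag_ne_zero h01).1 ha
  have hcl := Char.isClassFunction_of_isCharacter (Char.isCharacter_of_isIrr hφ)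
  refine cuspS_split hcl ?_ h01 h10 (diag_ne_of_sq h01 ha)
  rcases hd with hd | hd
  · obtain ⟨θ, -, rfl⟩ := hTb.of_deg_q_sub_one hq hφ hd
    exact classInner_wFun_pr hT θ
  · obtain ⟨-, -, -, -, ⟨hc3, hc4⟩, -⟩ := hTb.wHalves
    rcases hTb.of_deg_half_minus hq hφ hd with rfl | rfl
    · exact hc3
    · exact hc4

theorem Table.elliptic_zero (hTb : Table hT θ₀ χ₁ χ₂ χ₃ χ₄) {φ : S → ℂ} (hφ : Cfsg.IsIrrCharacter S φ) {g : S}
    (hd : φ 1 = (Fintype.card F : ℂ) + 1 ∨ φ 1 = (((Fintype.card F + 1) / 2 : ℕ) : ℂ))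
    (hg : Ell (g : M2)) : φ g = 0 := by
  rcases hd with hd | hd
  · obtain ⟨α, -, rfl⟩ := hTb.of_deg_q_add_one hφ hd
    exact pr_elliptic α hg
  · rcases hTb.half_plus_cases hφ hd with h | ⟨h3, θ, hθ, rfl⟩
    · obtain ⟨-, -, -, heq, -, hswap, -⟩ := hTb.prHalves
      have he := halves_eq_at_elliptic hT.two_ne hswap hg
      have hs := congrFun heq g
      rw [pr_elliptic eta hg, Pi.add_apply] at hs
      rcases h with rfl | rfl
      · rw [← he] at hs; linear_combination -hs / 2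
      · rw [he] at hs; linear_combination -hs / 2
    · obtain ⟨c, hc, hn, hcj⟩ := hT.exists_conj hg
      rw [Char.isClassFunction_iff.mp (isClassFunction_wFun hT θ) _ _ hcj, wFun_torus hT θ hc hn,
        theta_sum_three (hT := hT) h3 hθ (c := ⟨c, hc⟩) hn, neg_zero]

theorem Table.half_plus_split (hTb : Table hT θ₀ χ₁ χ₂ χ₃ χ₄) (hq : 5 ≤ Fintype.card F) {φ : S → ℂ}
    (hφ : Cfsg.IsIrrCharacter S φ) (hd : φ 1 = (((Fintype.card F + 1) / 2 : ℕ) : ℂ)) {g : S}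
    (h01 : (g : M2) 0 1 = 0) (h10 : (g : M2) 1 0 = 0) (ha : (g : M2) 0 0 ^ 2 ≠ 1) :
    φ g = eta ((g : M2) 0 0) := by
  obtain ⟨-, -, -, heq, -, hswap, -⟩ := hTb.prHalves
  have he := halves_eq_at_split hT.two_ne hswap h01 h10
  have hs := congrFun heq g
  obtain ⟨hne, hinv⟩ := diag_ne_zero h01
  rw [pr_split eta h01 h10 (diag_ne_of_sq h01 ha), Pi.add_apply, hinv, ← MulChar.inv_apply', eta_inv] at hs
  rcases hTb.of_deg_half_plus hq hφ hd with rfl | rfl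
  · rw [← he] at hs; linear_combination -hs / 2
  · rw [he] at hs; linear_combination -hs / 2

theorem Table.half_minus_elliptic (hTb : Table hT θ₀ χ₁ χ₂ χ₃ χ₄) (hq : 5 ≤ Fintype.card F) {φ : S → ℂ}
    (hφ : Cfsg.IsIrrCharacter S φ) (hd : φ 1 = (((Fintype.card F - 1) / 2 : ℕ) : ℂ)) {g : S}
    (hg : Ell (g : M2)) :
    φ g = if g ^ ((Fintype.card F + 1) / 2) = 1 then -1 else 1 := by
  obtain ⟨θ, h1, h2, huniq, hval⟩ := exists_theta0 hT
  have e0 : θ₀ = θ := (huniq θ₀ hTb.theta_real).resolve_left hTb.theta_ne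
  obtain ⟨c, hc, hn, hcj⟩ := hT.exists_conj hg
  obtain ⟨-, -, -, heq, -, -, hswap, -⟩ := hTb.wHalves
  have he := halves_eq_at_elliptic hT.two_ne hswap hg
  have hs := congrFun heq g
  rw [Char.isClassFunction_iff.mp (isClassFunction_wFun hT θ₀) _ _ hcj, wFun_torus hT θ₀ hc hn,
    Pi.add_apply] at hs
  have hr : ((θ₀ ⟨c, hc⟩)⁻¹ : ℂˣ) = θ₀ ⟨c, hc⟩ := by
    conv_rhs => rw [hTb.theta_real]
    rfl
  have hpow : c ^ ((Fintype.card F + 1) / 2) = 1 ↔ g ^ ((Fintype.card F + 1) / 2) = 1 := by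
    obtain ⟨a, rfl⟩ := isConj_iff.1 hcj
    rw [conj_pow]
    exact ⟨fun h => conj_eq_one_iff.1 h, fun h => by rw [h]; group⟩
  rw [hr, e0, hval] at hs
  simp only [hpow] at hs
  rcases hTb.of_deg_half_minus hq hφ hd with rfl | rfl
  · rw [← he] at hs
    split_ifs at hs ⊢ <;> linear_combination -hs / 2
  · rw [he] at hs
    split_ifs at hs ⊢ <;> linear_combination -hs / 2

/-- Sum over the unipotent upper triangular group. -/
theorem sum_unitriangular (χ : S → ℂ) :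
    (∑ g : S, if (g : M2) 1 0 = 0 ∧ (g : M2) 0 0 = 1 ∧ (g : M2) 1 1 = 1 then χ g else 0) =
      ∑ x : F, χ (pSL (1 : F) x (mul_one 1)) := by
  classical
  rw [← Finset.sum_filter]
  refine Finset.sum_bij' (fun g _ => (g : M2) 0 1) (fun x _ => pSL (1 : F) x (mul_one 1))
    (fun g _ => Finset.mem_univ _) (fun x _ => by simp [pSL_mat]) (fun g hg => ?_)
    (fun x _ => by simp [pSL_mat]) (fun g hg => ?_)
  all_goals
    obtain ⟨e1, e2, e3⟩ := (Finset.mem_filter.1 hg).2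
    have e : pSL (1 : F) ((g : M2) 0 1) (mul_one 1) = g := Subtype.ext (by
      rw [pSL_mat]; ext i j; fin_cases i <;> fin_cases j <;> simp [e1, e2, e3])
  · exact e
  · rw [e]

theorem Table.unipotent_values (hTb : Table hT θ₀ χ₁ χ₂ χ₃ χ₄) (hq : 5 ≤ Fintype.card F) {φ : S → ℂ}
    (hφ : Cfsg.IsIrrCharacter S φ) {ν : F} (hν : ¬ IsSquare ν) :
    (φ 1 = (Fintype.card F : ℂ) → φ (pSL 1 1 (mul_one 1)) + φ (pSL 1 ν (mul_one 1)) = 0) ∧
    (φ 1 = (Fintype.card F : ℂ) + 1 → φ (pSL 1 1 (mul_one 1)) + φ (pSL 1 ν (mul_one 1)) = 2) ∧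
    (φ 1 = (Fintype.card F : ℂ) - 1 → φ (pSL 1 1 (mul_one 1)) + φ (pSL 1 ν (mul_one 1)) = -2) ∧
    (φ 1 = (((Fintype.card F + 1) / 2 : ℕ) : ℂ) →
      φ (pSL 1 1 (mul_one 1)) + φ (pSL 1 ν (mul_one 1)) = 1 ∧
        (2 * φ (pSL 1 1 (mul_one 1)) - 1) ^ 2 = eta (-1 : F) * Fintype.card F) ∧
    (φ 1 = (((Fintype.card F - 1) / 2 : ℕ) : ℂ) →
      φ (pSL 1 1 (mul_one 1)) + φ (pSL 1 ν (mul_one 1)) = -1 ∧
        (2 * φ (pSL 1 1 (mul_one 1)) + 1) ^ 2 = eta (-1 : F) * Fintype.card F) := by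
  have hν0 : ν ≠ 0 := fun e => hν (e ▸ IsSquare.zero)
  have htr : ∀ (α : MulChar F ℂ) (x : F), x ≠ 0 → pr α (pSL 1 x (mul_one 1)) = 1 := fun α x hx => by
    rw [pr_transvection α (by simp [pSL_mat]) (by simp [pSL_mat]) (by simp [pSL_mat, hx])]
    simp [pSL_mat]
  refine ⟨fun hd => ?_, fun hd => ?_, fun hd => ?_, fun hd => ?_, fun hd => ?_⟩
  · rw [hTb.of_deg_q hφ hd, stS_apply, stS_apply, htr 1 1 one_ne_zero, htr 1 ν hν0]; ring
  · obtain ⟨α, -, rfl⟩ := hTb.of_deg_q_add_one hφ hd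
    rw [htr α 1 one_ne_zero, htr α ν hν0]; norm_num
  · obtain ⟨θ, -, rfl⟩ := hTb.of_deg_q_sub_one hq hφ hd
    rw [wFun_pSL hT θ 1 1 _ one_ne_zero, wFun_pSL hT θ 1 ν _ hν0]
    simp [pSL_zero, show (⟨1, C.one_mem⟩ : C) = 1 from rfl]
    norm_num
  · obtain ⟨-, -, -, -, -, -, hval⟩ := hTb.prHalves
    obtain ⟨⟨a1, a2⟩, ⟨b1, b2⟩⟩ := hval ν hν
    rcases hTb.of_deg_half_plus hq hφ hd with rfl | rfl
    · exact ⟨a1, by rw [← a2]; congr 1; linear_combination a1⟩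
    · exact ⟨b1, by rw [← b2]; congr 1; linear_combination b1⟩
  · obtain ⟨-, -, -, -, -, -, -, hval⟩ := hTb.wHalves
    obtain ⟨⟨a1, a2⟩, ⟨b1, b2⟩⟩ := hval ν hν
    rcases hTb.of_deg_half_minus hq hφ hd with rfl | rfl
    · exact ⟨a1, by rw [← a2]; congr 1; linear_combination a1⟩
    · exact ⟨b1, by rw [← b2]; congr 1; linear_combination b1⟩

theorem Table.degree_counts (hTb : Table hT θ₀ χ₁ χ₂ χ₃ χ₄) (hq : 5 ≤ Fintype.card F) :
    Nat.card {χ : Cfsg.IrrCharacter S // (χ : S → ℂ) 1 = 1} = 1 ∧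
    Nat.card {χ : Cfsg.IrrCharacter S // (χ : S → ℂ) 1 = (Fintype.card F : ℂ)} = 1 ∧
    Nat.card {χ : Cfsg.IrrCharacter S // (χ : S → ℂ) 1 = (Fintype.card F : ℂ) + 1} = (Fintype.card F - 3) / 2 ∧
    Nat.card {χ : Cfsg.IrrCharacter S // (χ : S → ℂ) 1 = (Fintype.card F : ℂ) - 1} = (Fintype.card F - 1) / 2 ∧
    Nat.card {χ : Cfsg.IrrCharacter S // (χ : S → ℂ) 1 = (((Fintype.card F + 1) / 2 : ℕ) : ℂ)} = 2 ∧
    Nat.card {χ : Cfsg.IrrCharacter S // (χ : S → ℂ) 1 = (((Fintype.card F - 1) / 2 : ℕ) : ℂ)} = 2 := by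
  obtain ⟨i1, i2, hne12, -, ⟨d1, d2⟩, -⟩ := id hTb.prHalves
  obtain ⟨i3, i4, hne34, -, -, ⟨d3, d4⟩, -⟩ := id hTb.wHalves
  refine ⟨?_, ?_, ?_, ?_, ?_, ?_⟩
  · rw [Nat.card_eq_one_iff_unique]
    exact ⟨⟨fun a b => Subtype.ext (Subtype.ext ((hTb.of_deg_one hq a.1.2 a.2).trans
      (hTb.of_deg_one hq b.1.2 b.2).symm))⟩, ⟨⟨⟨_, Char.isIrrCharacter_one⟩, rfl⟩⟩⟩
  · rw [Nat.card_eq_one_iff_unique]
    exact ⟨⟨fun a b => Subtype.ext (Subtype.ext ((hTb.of_deg_q a.1.2 a.2).trans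
      (hTb.of_deg_q b.1.2 b.2).symm))⟩, ⟨⟨⟨_, isIrr_stS⟩, stS_one⟩⟩⟩
  · refine Eq.trans (Nat.card_congr (Equiv.subtypeEquivRight fun χ => ?_)) hTb.card_pr
    exact ⟨fun h => hTb.of_deg_q_add_one χ.2 h, fun ⟨α, _, h⟩ => by rw [h, pr_one]⟩
  · refine Eq.trans (Nat.card_congr (Equiv.subtypeEquivRight fun χ => ?_)) hTb.card_w
    exact ⟨fun h => hTb.of_deg_q_sub_one hq χ.2 h, fun ⟨θ, _, h⟩ => by rw [h, wFun_one]⟩
  · rw [Nat.card_eq_two_iff]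
    refine ⟨⟨⟨χ₁, i1⟩, d1⟩, ⟨⟨χ₂, i2⟩, d2⟩, fun e => hne12 (congrArg (fun a => a.1.1) e),
      Set.eq_univ_iff_forall.2 fun ⟨⟨φ, hφ⟩, hd⟩ => ?_⟩
    rcases hTb.of_deg_half_plus hq hφ hd with rfl | rfl <;> simp
  · rw [Nat.card_eq_two_iff]
    refine ⟨⟨⟨χ₃, i3⟩, d3⟩, ⟨⟨χ₄, i4⟩, d4⟩, fun e => hne34 (congrArg (fun a => a.1.1) e),
      Set.eq_univ_iff_forall.2 fun ⟨⟨φ, hφ⟩, hd⟩ => ?_⟩
    rcases hTb.of_deg_half_minus hq hφ hd with rfl | rfl <;> simp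

theorem Table.half_sums (hTb : Table hT θ₀ χ₁ χ₂ χ₃ χ₄) (hq : 5 ≤ Fintype.card F) {φ φ' : S → ℂ}
    (hφ : Cfsg.IsIrrCharacter S φ) (hφ' : Cfsg.IsIrrCharacter S φ') (hne : φ ≠ φ') :
    (φ 1 = (((Fintype.card F + 1) / 2 : ℕ) : ℂ) → φ' 1 = (((Fintype.card F + 1) / 2 : ℕ) : ℂ) →
      φ + φ' = pr eta) ∧
    (φ 1 = (((Fintype.card F - 1) / 2 : ℕ) : ℂ) → φ' 1 = (((Fintype.card F - 1) / 2 : ℕ) : ℂ) →
      φ + φ' = wFun hT θ₀) := by
  obtain ⟨-, -, -, heq, -⟩ := hTb.prHalves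
  obtain ⟨-, -, -, heq', -⟩ := hTb.wHalves
  refine ⟨fun h h' => ?_, fun h h' => ?_⟩
  · rcases hTb.of_deg_half_plus hq hφ h with rfl | rfl <;>
      rcases hTb.of_deg_half_plus hq hφ' h' with rfl | rfl
    all_goals first
      | exact absurd rfl hne
      | exact heq.symm
      | exact (add_comm _ _).trans heq.symm
  · rcases hTb.of_deg_half_minus hq hφ h with rfl | rfl <;>
      rcases hTb.of_deg_half_minus hq hφ' h' with rfl | rfl
    all_goals first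
      | exact absurd rfl hne
      | exact heq'.symm
      | exact (add_comm _ _).trans heq'.symm

theorem even_degree_counts [CharP F 2] (hq : 4 ≤ Fintype.card F) :
    Nat.card {χ : Cfsg.IrrCharacter S // (χ : S → ℂ) 1 = 1} = 1 ∧
    Nat.card {χ : Cfsg.IrrCharacter S // (χ : S → ℂ) 1 = (Fintype.card F : ℂ)} = 1 ∧
    Nat.card {χ : Cfsg.IrrCharacter S // (χ : S → ℂ) 1 = (Fintype.card F : ℂ) + 1} = (Fintype.card F - 2) / 2 ∧
    Nat.card {χ : Cfsg.IrrCharacter S // (χ : S → ℂ) 1 = (Fintype.card F : ℂ) - 1} = Fintype.card F / 2 := by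
  have h4 : (4 : ℝ) ≤ Fintype.card F := by exact_mod_cast hq
  have key : ∀ {φ : S → ℂ}, Cfsg.IsIrrCharacter S φ →
      (φ 1 = 1 → φ = fun _ => 1) ∧ (φ 1 = (Fintype.card F : ℂ) → φ = stS) ∧
      (φ 1 = (Fintype.card F : ℂ) + 1 → ∃ α : MulChar F ℂ, α ≠ 1 ∧ φ = pr α) ∧
      (φ 1 = (Fintype.card F : ℂ) - 1 → IsCuspS φ) := by
    intro φ hφ
    rcases degreeE_cases hφ with ⟨h, e⟩ | ⟨h, e⟩ | ⟨h, e⟩ | ⟨h, e⟩ <;>
      refine ⟨fun hd => ?_, fun hd => ?_, fun hd => ?_, fun hd => ?_⟩ <;>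
      first
        | exact e
        | (exfalso; rw [h] at hd; have := congrArg Complex.re hd; simp at this <;> linarith)
  refine ⟨?_, ?_, ?_, ?_⟩
  · rw [Nat.card_eq_one_iff_unique]
    exact ⟨⟨fun a b => Subtype.ext (Subtype.ext (((key a.1.2).1 a.2).trans ((key b.1.2).1 b.2).symm))⟩,
      ⟨⟨⟨_, Char.isIrrCharacter_one⟩, rfl⟩⟩⟩
  · rw [Nat.card_eq_one_iff_unique]
    exact ⟨⟨fun a b => Subtype.ext (Subtype.ext (((key a.1.2).2.1 a.2).trans ((key b.1.2).2.1 b.2).symm))⟩,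
      ⟨⟨⟨_, isIrr_stS⟩, stS_one⟩⟩⟩
  · refine Eq.trans (Nat.card_congr (Equiv.subtypeEquivRight fun χ => ?_)) even_counts.1
    exact ⟨fun h => (key χ.2).2.2.1 h, fun ⟨α, _, h⟩ => by rw [h, pr_one]⟩
  · refine Eq.trans (Nat.card_congr (Equiv.subtypeEquivRight fun χ => ?_)) even_counts.2.1
    exact ⟨fun h => (key χ.2).2.2.2 h, fun h => (even_counts.2.2 _ χ.2 h).1⟩

omit [DecidableEq F] in
theorem exists_all (hodd : Odd (Fintype.card F)) [DecidableEq F] :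
    ∃ (C : Subgroup S) (hT : Torus C) (θ₀ : C →* ℂˣ) (χ₁ χ₂ χ₃ χ₄ : S → ℂ), Table hT θ₀ χ₁ χ₂ χ₃ χ₄ := by
  obtain ⟨C, hT⟩ := exists_torus (F := F) hodd
  exact ⟨C, hT, exists_table hT⟩

/-- A character of degree `|F|` is the Steinberg character. -/
theorem eq_stS_of_deg {φ : S → ℂ} (hφ : Cfsg.IsIrrCharacter S φ) (hd : φ 1 = (Fintype.card F : ℂ)) :
    φ = stS := by
  rcases Nat.even_or_odd (Fintype.card F) with he | ho
  · haveI := charP_two_of_even he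
    have hq : (2 : ℝ) ≤ Fintype.card F := by exact_mod_cast Fintype.one_lt_card (α := F)
    rcases degreeE_cases hφ with ⟨h, e⟩ | ⟨h, e⟩ | ⟨h, e⟩ | ⟨h, e⟩ <;>
      first
        | exact e
        | (exfalso; rw [h] at hd; have := congrArg Complex.re hd; simp at this <;> linarith)
  · obtain ⟨C, hT, θ₀, χ₁, χ₂, χ₃, χ₄, hTb⟩ := exists_all (F := F) ho
    exact hTb.of_deg_q hφ hd

theorem unipotent_value_pm {φ : S → ℂ} (hq : 4 ≤ Fintype.card F) (hφ : Cfsg.IsIrrCharacter S φ) :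
    (φ 1 = (Fintype.card F : ℂ) + 1 → φ (pSL 1 1 (mul_one 1)) = 1) ∧
    (φ 1 = (Fintype.card F : ℂ) - 1 → φ (pSL 1 1 (mul_one 1)) = -1) := by
  have htr : ∀ (α : MulChar F ℂ), pr α (pSL (1 : F) 1 (mul_one 1)) = 1 := fun α => by
    rw [pr_transvection α (by simp [pSL_mat]) (by simp [pSL_mat]) (by simp [pSL_mat])]
    simp [pSL_mat]
  rcases Nat.even_or_odd (Fintype.card F) with he | ho
  · haveI := charP_two_of_even he
    have hq' : (4 : ℝ) ≤ Fintype.card F := by exact_mod_cast hq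
    refine ⟨fun hd => ?_, fun hd => ?_⟩
    · rcases degreeE_cases hφ with ⟨h, e⟩ | ⟨h, e⟩ | ⟨h, e⟩ | ⟨h, e⟩ <;>
        first
          | (obtain ⟨α, -, rfl⟩ := e; exact htr α)
          | (exfalso; rw [h] at hd; have := congrArg Complex.re hd; simp at this <;> linarith)
    · rcases degreeE_cases hφ with ⟨h, e⟩ | ⟨h, e⟩ | ⟨h, e⟩ | ⟨h, e⟩ <;>
        first
          | exact (even_counts.2.2 φ hφ e).2
          | (exfalso; rw [h] at hd; have := congrArg Complex.re hd; simp at this <;> linarith)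
  · obtain ⟨C, hT, θ₀, χ₁, χ₂, χ₃, χ₄, hTb⟩ := exists_all (F := F) ho
    refine ⟨fun hd => ?_, fun hd => ?_⟩
    · obtain ⟨α, -, rfl⟩ := hTb.of_deg_q_add_one hφ hd
      exact htr α
    · obtain ⟨k, hk⟩ := ho
      obtain ⟨θ, -, rfl⟩ := hTb.of_deg_q_sub_one (by omega) hφ hd
      rw [wFun_pSL hT θ 1 1 _ one_ne_zero]
      simp [pSL_zero, show (⟨1, C.one_mem⟩ : C) = 1 from rfl]

theorem torus_center_iff (hT : Torus C) {c : S} (hc : c ∈ C) :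
    c ∈ Subgroup.center S ↔ ¬ NonScalar (c : M2) := by
  refine ⟨fun h hn => ?_, fun h => Subgroup.mem_center_iff.2 fun x => scalar_comm h x⟩
  have htop : C = ⊤ := by
    rw [← hT.centralizer_eq hc hn]
    refine Subgroup.eq_top_iff' _ |>.2 fun x => Subgroup.mem_centralizer_singleton_iff.2 ?_
    exact Subgroup.mem_center_iff.1 h x
  have h1 := hT.card
  rw [htop, Subgroup.card_top, card_sl_two] at h1
  have h3 := two_lt_card (F := F) hT.odd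
  have h2 : 3 * 3 ≤ Fintype.card F ^ 2 := by rw [pow_two]; exact Nat.mul_le_mul h3 h3
  have h4 : Fintype.card F * 8 ≤ Fintype.card F * (Fintype.card F ^ 2 - 1) :=
    Nat.mul_le_mul_left _ (by omega)
  omega

theorem discrete_series (hT : Torus C) :
    (∀ θ : C →* ℂˣ, (∃ c : C, θ c ^ 2 ≠ 1) →
      ∃ χ : S → ℂ, Cfsg.IsIrrCharacter S χ ∧ χ 1 = (Fintype.card F : ℂ) - 1 ∧
        (∀ c : C, (c : S) ∉ Subgroup.center S → χ c = -((θ c).val + (θ c)⁻¹.val)) ∧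
        (∀ c : C, (c : S) ∈ Subgroup.center S → ∀ g : S, χ ((c : S) * g) = (θ c).val * χ g) ∧
        (∀ g : S, (g : M2) 0 1 = 0 → (g : M2) 1 0 = 0 → (g : M2) 0 0 ^ 2 ≠ 1 → χ g = 0) ∧
        (∀ g : S, (g : M2) 1 0 = 0 → (g : M2) 0 0 = 1 → (g : M2) 1 1 = 1 → (g : M2) 0 1 ≠ 0 → χ g = -1)) ∧
    (∀ χ : S → ℂ, Cfsg.IsIrrCharacter S χ → χ 1 = (Fintype.card F : ℂ) - 1 →
      ∃ θ : C →* ℂˣ, (∃ c : C, θ c ^ 2 ≠ 1) ∧
        ∀ c : C, (c : S) ∉ Subgroup.center S → χ c = -((θ c).val + (θ c)⁻¹.val)) := by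
  have hne : ∀ θ : C →* ℂˣ, (∃ c : C, θ c ^ 2 ≠ 1) ↔ θ ≠ θ⁻¹ := by
    intro θ
    constructor
    · rintro ⟨c, hc⟩ e
      apply hc
      have : θ c = (θ c)⁻¹ := DFunLike.congr_fun e c
      rw [pow_two]
      nth_rewrite 2 [this]
      exact mul_inv_cancel _
    · intro h
      by_contra h'
      push Not at h'
      exact h (MonoidHom.ext fun c => eq_inv_of_mul_eq_one_left (by rw [← pow_two]; exact h' c))
  have hns : ∀ c : C, (c : S) ∉ Subgroup.center S → NonScalar ((c : S) : M2) := fun c h =>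
    not_not.1 fun h' => h ((torus_center_iff hT c.2).2 h')
  refine ⟨fun θ hθ => ⟨wFun hT θ, isIrr_wFun hT ((hne θ).1 hθ), wFun_one hT θ,
    fun c hc => wFun_torus hT θ c.2 (hns c hc),
    fun c hc g => wFun_scalar_mul hT θ ((torus_center_iff hT c.2).1 hc) g,
    fun g h01 h10 ha => cuspS_split (isClassFunction_wFun hT θ) (classInner_wFun_pr hT θ) h01 h10
      (diag_ne_of_sq h01 ha),
    fun g h10 h00 h11 h01 => ?_⟩, fun χ hχ hd => ?_⟩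
  · have e : g = pSL (1 : F) ((g : M2) 0 1) (mul_one 1) := Subtype.ext (by
      rw [pSL_mat]; ext i j; fin_cases i <;> fin_cases j <;> simp [h10, h00, h11])
    rw [e, wFun_pSL hT θ 1 _ _ h01]
    simp [pSL_zero, show (⟨1, C.one_mem⟩ : C) = 1 from rfl]
  · obtain ⟨θ₀, χ₁, χ₂, χ₃, χ₄, hTb⟩ := exists_table hT
    rcases hTb.q_sub_one_cases hχ hd with ⟨θ, hθ, rfl⟩ | ⟨h3, h⟩
    · exact ⟨θ, (hne θ).2 hθ, fun c hc => wFun_torus hT θ c.2 (hns c hc)⟩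
    · have hw := hTb.card_w
      rw [h3] at hw
      obtain ⟨-, ⟨φ, θ, hθ, -⟩⟩ := Nat.card_eq_one_iff_unique.1 hw
      refine ⟨θ, (hne θ).2 hθ, fun c hc => ?_⟩
      rw [theta_sum_three (hT := hT) h3 hθ (hns c hc), neg_zero]
      refine hTb.elliptic_zero hχ (Or.inr ?_) (hT.ell c.2 (hns c hc))
      obtain ⟨-, -, -, -, ⟨d1, d2⟩, -⟩ := hTb.prHalves
      rcases h with rfl | rfl
      · exact d1
      · exact d2

end CfsgLib.SL2Table
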