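import Mathlib
import Cfsg.Prelude
import Cfsg.Agent.Lib.SL2Table.SL2McKayTorus
import Cfsg.Agent.Lib.SL2Table.SL2ClassResults
import Cfsg.Agent.Lib.SL2Table.SL2Results

/-!
The McKay equality for `SL(2, F)`, `|F|` odd.
-/

set_option autoImplicit false

namespace CfsgLib.SL2Table.McKay

open Matrix

variable {F : Type*} [Field F] [Fintype F] [DecidableEq F]

local notation "S" => Matrix.SpecialLinearGroup (Fin 2) F
local notation "M2" => Matrix (Fin 2) (Fin 2) F
local notation "BS" => Subgroup.comap (Matrix.SpecialLinearGroup.toGL (n := Fin 2) (R := F)) (Cfsg.upperTriangularGL 2 F)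

/-- The degrees of `SL(2, F)`. -/
theorem deg_cases (hodd : Odd (Fintype.card F)) (χ : Cfsg.IrrCharacter S) :
    Cfsg.charDegree (χ : S → ℂ) = 1 ∨ Cfsg.charDegree (χ : S → ℂ) = Fintype.card F ∨
      Cfsg.charDegree (χ : S → ℂ) = Fintype.card F + 1 ∨
      Cfsg.charDegree (χ : S → ℂ) = (Fintype.card F + 1) / 2 ∨
      Cfsg.charDegree (χ : S → ℂ) = Fintype.card F - 1 ∨
      Cfsg.charDegree (χ : S → ℂ) = (Fintype.card F - 1) / 2 := by
  obtain ⟨C, hT, θ₀, χ₁, χ₂, χ₃, χ₄, hTb⟩ := exists_all (F := F) hodd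
  obtain ⟨n, hn, h⟩ := hTb.degree_cases χ.2
  rw [(deg_iff χ n).mpr hn]
  rcases h with ⟨h, -⟩ | ⟨h, -⟩ | ⟨h, -⟩ | ⟨h, -⟩ | ⟨h, -⟩ | ⟨h, -⟩ <;> simp [h]

/-- The number of characters of a given degree. -/
noncomputable def cnt (n : ℕ) : ℕ :=
  Nat.card {χ : Cfsg.IrrCharacter S // Cfsg.charDegree (χ : S → ℂ) = n}

theorem cnt_eq (n : ℕ) :
    cnt (F := F) n = Nat.card {χ : Cfsg.IrrCharacter S // (χ : S → ℂ) 1 = (n : ℂ)} :=
  Nat.card_congr (Equiv.subtypeEquivRight fun χ => deg_iff χ n)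

omit [DecidableEq F] in
theorem card_or (a b : ℕ) (hab : a ≠ b) :
    Nat.card {χ : Cfsg.IrrCharacter S // Cfsg.charDegree (χ : S → ℂ) = a ∨ Cfsg.charDegree (χ : S → ℂ) = b} =
      cnt (F := F) a + cnt (F := F) b := by
  classical
  let _ := Fintype.ofFinite S
  simp only [cnt, Nat.card_eq_fintype_card, Fintype.card_subtype]
  rw [Finset.filter_or, Finset.card_union_of_disjoint]
  exact Finset.disjoint_filter.mpr fun χ _ h1 h2 => hab (h1.symm.trans h2)

/-- The count by complement. -/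
theorem pdCount_compl (hodd : Odd (Fintype.card F)) (ℓ : ℕ) :
    pdCount ℓ S + Nat.card {χ : Cfsg.IrrCharacter S // ℓ ∣ Cfsg.charDegree (χ : S → ℂ)} = Fintype.card F + 4 := by
  classical
  let _ := Fintype.ofFinite S
  rw [← card_conjClasses_sl_odd hodd, ← Char.card_irr_eq_card_conjClasses, pdCount]
  simp only [Nat.card_eq_fintype_card]
  rw [Fintype.card_subtype_compl, Nat.sub_add_cancel (Fintype.card_subtype_le _)]

theorem steinberg_unique (hodd : Odd (Fintype.card F)) : cnt (F := F) (Fintype.card F) = 1 := by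
  rw [cnt_eq, Nat.card_eq_one_iff_unique]
  exact ⟨⟨fun a b => Subtype.ext (Subtype.ext ((eq_stS_of_deg a.1.2 a.2).trans (eq_stS_of_deg b.1.2 b.2).symm))⟩,
    ⟨⟨⟨_, isIrr_stS⟩, stS_one⟩⟩⟩

theorem cnt_values (hodd : Odd (Fintype.card F)) (hq : 5 ≤ Fintype.card F) :
    cnt (F := F) 1 = 1 ∧ cnt (F := F) (Fintype.card F + 1) = (Fintype.card F - 3) / 2 ∧
      cnt (F := F) (Fintype.card F - 1) = (Fintype.card F - 1) / 2 ∧
      cnt (F := F) ((Fintype.card F + 1) / 2) = 2 ∧ cnt (F := F) ((Fintype.card F - 1) / 2) = 2 := by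
  obtain ⟨C, hT, θ₀, χ₁, χ₂, χ₃, χ₄, hTb⟩ := exists_all (F := F) hodd
  obtain ⟨h1, -, h3, h4, h5, h6⟩ := hTb.degree_counts hq
  refine ⟨?_, ?_, ?_, ?_, ?_⟩
  · rw [cnt_eq, Nat.cast_one]; exact h1
  · rw [cnt_eq, Nat.cast_add, Nat.cast_one]; exact h3
  · rw [cnt_eq, cast_card_pred]; exact h4
  · rw [cnt_eq]; exact h5
  · rw [cnt_eq]; exact h6

/-! ### The defining characteristic -/

/-- The upper unitriangular subgroup. -/
def uni : Subgroup (Matrix.SpecialLinearGroup (Fin 2) F) where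
  carrier := {g | (g : M2) 1 0 = 0 ∧ (g : M2) 0 0 = 1}
  one_mem' := by simp
  mul_mem' := fun {g h} ⟨g1, g2⟩ ⟨h1, h2⟩ => by
    simp [Matrix.mul_apply, Fin.sum_univ_two, g1, g2, h1, h2]
  inv_mem' := fun {g} ⟨g1, g2⟩ => by
    have hd := g.2
    rw [det_fin_two, g1, g2, mul_zero, sub_zero, one_mul] at hd
    simp [Matrix.SpecialLinearGroup.coe_inv, adjugate_fin_two, g1, hd]

omit [Fintype F] [DecidableEq F] in
theorem mem_uni {g : S} : g ∈ uni (F := F) ↔ (g : M2) 1 0 = 0 ∧ (g : M2) 0 0 = 1 := Iff.rfl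

omit [DecidableEq F] in
theorem card_uni : Nat.card (uni (F := F)) = Fintype.card F := by
  rw [← Nat.card_eq_fintype_card]
  refine Nat.card_congr
    { toFun := fun g => ((g : S) : M2) 0 1
      invFun := fun x => ⟨pSL 1 x (mul_one 1), by simp [mem_uni, pSL_mat]⟩
      left_inv := fun g => by
        have hd := (g : S).2
        obtain ⟨g1, g2⟩ := g.2
        rw [det_fin_two, g1, g2, mul_zero, sub_zero, one_mul] at hd
        refine Subtype.ext (Subtype.ext ?_)
        rw [pSL_mat]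
        ext i j
        fin_cases i <;> fin_cases j <;> simp [g1, g2, hd]
      right_inv := fun x => by simp [pSL_mat] }

theorem defining_case (hodd : Odd (Fintype.card F)) (p : ℕ) [Fact p.Prime] (hp : p ∣ Fintype.card F) :
    ∃ P : Sylow p S, pdCount p S = pdCount p (Subgroup.normalizer ((P : Subgroup S) : Set S)) := by
  have hpp : p.Prime := Fact.out
  have h3 := two_lt_card (F := F) hodd
  obtain ⟨n, hn, hn0⟩ := FiniteField.card F (ringChar F)
  obtain rfl : ringChar F = p := ((Nat.prime_dvd_prime_iff_eq hpp hn).mp (hpp.dvd_of_dvd_pow (hn0 ▸ hp))).symm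
  set p := ringChar F
  set q := Fintype.card F with hqd
  have hpq : ¬ p ∣ q ^ 2 - 1 := fun h => by
    have h1 : p ∣ q ^ 2 := dvd_pow hp two_ne_zero
    have h2 : 1 ≤ q ^ 2 := Nat.one_le_pow _ _ (by omega)
    have := Nat.dvd_sub h1 h
    rw [show q ^ 2 - (q ^ 2 - 1) = 1 by omega] at this
    exact hpp.not_dvd_one this
  have hpq1 : ¬ p ∣ q + 1 := fun h => hpp.not_dvd_one ((Nat.dvd_add_right hp).mp h)
  have hpq2 : ¬ p ∣ q - 1 := fun h => hpp.not_dvd_one (by
    have := Nat.dvd_sub hp h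
    rwa [show q - (q - 1) = 1 by omega] at this)
  let P : Sylow p S := Sylow.ofCard (uni (F := F)) (by
    rw [card_uni, card_sl_two, ← hqd, factorization_mul_of_not_dvd hpp (by omega) hpq, hn0, hpp.factorization_pow, Finsupp.single_eq_same])
  refine ⟨P, ?_⟩
  have hN : Subgroup.normalizer ((uni (F := F) : Subgroup S) : Set S) = BS := by
    ext g
    rw [mem_borelSL]
    refine ⟨fun hg => ?_, fun hg => CfsgLib.CharNormal.mem_normalizer_of_conj_le fun u ⟨u1, u2⟩ => ?_⟩
    · have h := ((Subgroup.mem_normalizer_iff.mp hg (pSL 1 1 (mul_one 1))).mp (by simp [mem_uni, pSL_mat])).1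
      rw [Matrix.SpecialLinearGroup.coe_mul, Matrix.SpecialLinearGroup.coe_mul, Matrix.SpecialLinearGroup.coe_inv,
        pSL_mat, adjugate_fin_two] at h
      have hd := g.2
      rw [det_fin_two] at hd
      simp [Matrix.mul_apply, Fin.sum_univ_two] at h
      have : (g : M2) 1 0 * (g : M2) 1 0 = 0 := by linear_combination -h
      exact mul_self_eq_zero.mp this
    · have hd := g.2
      have hu := u.2
      rw [det_fin_two, hg, mul_zero, sub_zero] at hd
      rw [det_fin_two, u1, u2, mul_zero, sub_zero, one_mul] at hu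
      refine ⟨?_, ?_⟩ <;>
        rw [Matrix.SpecialLinearGroup.coe_mul, Matrix.SpecialLinearGroup.coe_mul, Matrix.SpecialLinearGroup.coe_inv,
          adjugate_fin_two] <;>
        simp [Matrix.mul_apply, Fin.sum_univ_two, hg, u1, u2, hu, hd]
  have huB : uni (F := F) ≤ BS := fun g hg => (mem_borelSL g).mpr hg.1
  have hidx : ((uni (F := F)).subgroupOf BS).index = q - 1 := by
    have h := ((uni (F := F)).subgroupOf BS).card_mul_index
    rw [Nat.card_congr (Subgroup.subgroupOfEquivOfLe huB).toEquiv, card_uni, ← Nat.card_congr slBorelEquiv,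
      Nat.card_prod, Nat.card_units, Nat.card_eq_fintype_card, mul_comm (Fintype.card F - 1)] at h
    exact Nat.eq_of_mul_eq_mul_left (by omega) h
  show _ = pdCount p (Subgroup.normalizer ((uni (F := F) : Subgroup S) : Set S))
  rw [pdCount_equiv p (MulEquiv.subgroupCongr hN)]
  have hn1 : ((uni (F := F)).subgroupOf BS).Normal := hN ▸ Subgroup.normal_in_normalizer
  rw [pdCount_of_abelian_normal ((uni (F := F)).subgroupOf BS) (fun a ⟨a1, a2⟩ b ⟨b1, b2⟩ => Subtype.ext (Subtype.ext (by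
    have ha := (a : S).2
    have hb := (b : S).2
    rw [det_fin_two] at ha hb
    simp only [Subgroup.coe_subtype] at a1 a2 b1 b2
    rw [a1, a2, mul_zero, sub_zero, one_mul] at ha
    rw [b1, b2, mul_zero, sub_zero, one_mul] at hb
    show ((a : S) : M2) * ((b : S) : M2) = (b : S) * ((a : S) : M2)
    ext i j
    fin_cases i <;> fin_cases j <;> simp [Matrix.mul_apply, Fin.sum_univ_two, a1, a2, b1, b2, ha, hb, add_comm])))
    (by rw [hidx]; exact hpq2), card_conjClasses_borel hodd]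
  have hbad : Nat.card {χ : Cfsg.IrrCharacter S // p ∣ Cfsg.charDegree (χ : S → ℂ)} = cnt (F := F) q := by
    refine Nat.card_congr (Equiv.subtypeEquivRight fun χ => ⟨fun h => ?_, fun h => h.symm ▸ hp⟩)
    have hhalf : ∀ a : ℕ, 2 ∣ a → p ∣ a / 2 → p ∣ a := fun a h2 h' => h'.trans (Nat.div_dvd_of_dvd h2)
    obtain ⟨k, hk⟩ := hodd
    rcases deg_cases ⟨k, hk⟩ χ with e | e | e | e | e | e <;> rw [e] at h
    · exact absurd h hpp.not_dvd_one
    · exact e
    · exact absurd h hpq1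
    · exact absurd (hhalf _ (by omega) h) hpq1
    · exact absurd h hpq2
    · exact absurd (hhalf _ (by omega) h) hpq2
  have := pdCount_compl (F := F) hodd p
  rw [hbad, steinberg_unique hodd] at this
  omega

/-! ### The split torus -/

theorem exists_split (hodd : Odd (Fintype.card F)) (hq : 5 ≤ Fintype.card F) :
    ∃ T : Subgroup S, TorusData T ∧ Nat.card T = Fintype.card F - 1 ∧
      Nat.card (ConjClasses (Subgroup.normalizer (T : Set S))) = (Fintype.card F + 5) / 2 := by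
  classical
  obtain ⟨a, ha⟩ := (inferInstance : IsCyclic Fˣ).exists_generator
  have hao : orderOf a = Fintype.card F - 1 := by
    rw [orderOf_eq_card_of_forall_mem_zpowers ha, Nat.card_units, Nat.card_eq_fintype_card]
  have ha2 : (a : F) ^ 2 ≠ 1 := fun h => by
    have := orderOf_dvd_of_pow_eq_one (Units.ext (by simpa using h) : a ^ 2 = 1)
    rw [hao] at this
    have := Nat.le_of_dvd two_pos this
    omega
  let d : S := ⟨!![(a : F), 0; 0, ((a⁻¹ : Fˣ) : F)], by simp [det_fin_two]⟩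
  have hd01 : (d : M2) 0 1 = 0 := by simp [d]
  have hd10 : (d : M2) 1 0 = 0 := by simp [d]
  obtain ⟨hmem, hcard, hk, hsq⟩ := split_torus_normalizer hodd d hd01 hd10 (by simpa [d] using ha2)
  set T := Subgroup.centralizer ({d} : Set S) with hT
  have hcardT : Nat.card T = Fintype.card F - 1 := by
    rw [← Fintype.card_units, ← Nat.card_eq_fintype_card]
    have hdet : ∀ g : T, ((g : S) : M2) 0 0 * ((g : S) : M2) 1 1 = 1 := fun g => by
      have hg := (g : S).2
      rw [det_fin_two, ((hmem _).mp g.2).1, zero_mul, sub_zero] at hg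
      exact hg
    refine Nat.card_congr
      { toFun := fun g => Units.mk0 (((g : S) : M2) 0 0) (left_ne_zero_of_mul_eq_one (hdet g))
        invFun := fun u => ⟨⟨!![(u : F), 0; 0, ((u⁻¹ : Fˣ) : F)], by simp [det_fin_two]⟩, (hmem _).mpr (by simp)⟩
        left_inv := fun g => by
          obtain ⟨g1, g2⟩ := (hmem _).mp g.2
          refine Subtype.ext (Subtype.ext ?_)
          ext i j
          fin_cases i <;> fin_cases j <;> simp [g1, g2]
          exact inv_eq_of_mul_eq_one_right (hdet g)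
        right_inv := fun u => Units.ext (by simp) }
  refine ⟨T, ⟨two_ne_zero_of_odd hodd, fun x hx y hy => ?_, fun t ht hn => ?_, by rw [hcard, hcardT],
    fun g hg hgT => Subtype.ext ?_⟩, hcardT, hk⟩
  · obtain ⟨x1, x2⟩ := (hmem x).mp hx
    obtain ⟨y1, y2⟩ := (hmem y).mp hy
    refine Subtype.ext ?_
    rw [Matrix.SpecialLinearGroup.coe_mul, Matrix.SpecialLinearGroup.coe_mul]
    ext i j
    fin_cases i <;> fin_cases j <;> simp [Matrix.mul_apply, Fin.sum_univ_two, x1, x2, y1, y2, mul_comm]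
  · obtain ⟨t1, t2⟩ := (hmem t).mp ht
    have ht00 : (t : M2) 0 0 ^ 2 ≠ 1 := fun h => hn (by
      have hdt := t.2
      rw [det_fin_two, t1, zero_mul, sub_zero] at hdt
      have h0 : (t : M2) 0 0 ≠ 0 := left_ne_zero_of_mul_eq_one hdt
      refine ⟨(t : M2) 0 0, ?_⟩
      have : (t : M2) 1 1 = (t : M2) 0 0 := mul_left_cancel₀ h0 (by rw [hdt, ← pow_two, h])
      ext i j
      fin_cases i <;> fin_cases j <;> simp [t1, t2, this])
    ext g
    rw [(split_torus_normalizer hodd t t1 t2 ht00).1, hmem]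
  · rw [Matrix.SpecialLinearGroup.coe_mul, hsq g hg hgT]
    simp

theorem torusData_of_torus {C : Subgroup (Matrix.SpecialLinearGroup (Fin 2) F)} (hT : Torus C) : TorusData C :=
  ⟨hT.two_ne, fun _ ha _ hb => hT.comm ha hb, fun _ hc hn => hT.centralizer_eq hc hn,
    by rw [hT.normalizer_data.1, hT.card], hT.normalizer_data.2.2⟩

/-! ### The equality -/

theorem mckay (hodd : Odd (Fintype.card F)) (ℓ : ℕ) [Fact ℓ.Prime] (P : Sylow ℓ S) :
    pdCount ℓ S = pdCount ℓ (Subgroup.normalizer ((P : Subgroup S) : Set S)) := by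
  classical
  have hℓ : ℓ.Prime := Fact.out
  set q := Fintype.card F with hqd
  have hq3 := two_lt_card (F := F) hodd
  obtain ⟨k, hk⟩ := hodd
  have hodd : Odd q := ⟨k, hk⟩
  have hcardS : Nat.card S = q * ((q - 1) * (q + 1)) := by
    rw [card_sl_two, ← hqd, show q ^ 2 - 1 = (q + 1) * (q - 1) by rw [← Nat.sq_sub_sq, one_pow], mul_comm (q + 1)]
  by_cases hdiv : ℓ ∣ Nat.card S
  swap
  · have hbot : (P : Subgroup S) = ⊥ := Subgroup.card_eq_one.mp (by
      rw [P.card_eq_multiplicity, Nat.factorization_eq_zero_of_not_dvd hdiv, pow_zero])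
    have : (P : Subgroup S).Normal := by rw [hbot]; infer_instance
    exact mckay_of_normal _
  by_cases hℓq : ℓ ∣ q
  · obtain ⟨Q, hQ⟩ := defining_case hodd ℓ hℓq
    exact mckay_of_sylow P Q hQ
  by_cases hℓ2 : ℓ = 2
  · subst hℓ2
    have h4 : 4 ∣ q - 1 ∨ 4 ∣ q + 1 := by
      rcases Nat.even_or_odd k with ⟨j, rfl⟩ | ⟨j, rfl⟩ <;> omega
    obtain ⟨T, hT, hT4, X, hX, hXo⟩ : ∃ T : Subgroup S, TorusData T ∧ 4 ∣ Nat.card T ∧
        ∃ X, Nat.card S = 2 * Nat.card T * X ∧ Odd X := by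
      rcases h4 with h | h
      · obtain ⟨T, hT, hTc, -⟩ := exists_split (F := F) hodd (by omega)
        obtain ⟨j, hj⟩ := h
        refine ⟨T, hT, hTc ▸ ⟨j, hj⟩, q * (2 * j + 1), ?_, hodd.mul ⟨j, rfl⟩⟩
        rw [hTc, hcardS, ← hqd, show q + 1 = 2 * (2 * j + 1) by omega]
        ring
      · obtain ⟨C, hC⟩ := exists_torus (F := F) hodd
        obtain ⟨j, hj⟩ := h
        refine ⟨C, torusData_of_torus hC, hC.card ▸ ⟨j, hj⟩, q * (2 * j - 1), ?_,
          hodd.mul ⟨j - 1, by omega⟩⟩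
        rw [hC.card, hcardS, ← hqd, show q - 1 = 2 * (2 * j - 1) by omega]
        ring
    obtain ⟨Q, hQ⟩ := torus_two hT hT4 hX hXo
    refine mckay_of_sylow P Q ?_
    rw [hQ]
    by_cases hq5 : 5 ≤ q
    · obtain ⟨c1, c2, c3, c4, c5⟩ := cnt_values hodd hq5
      have hst := steinberg_unique (F := F) hodd
      -- the odd degrees
      obtain ⟨h, hh, hh2, hhd⟩ : ∃ h, cnt (F := F) h = 2 ∧ 1 < h ∧ h < q ∧ ∀ χ : Cfsg.IrrCharacter S,
          ¬ 2 ∣ Cfsg.charDegree (χ : S → ℂ) ↔
            Cfsg.charDegree (χ : S → ℂ) = 1 ∨ Cfsg.charDegree (χ : S → ℂ) = q ∨ Cfsg.charDegree (χ : S → ℂ) = h := by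
        rcases h4 with h | h
        · refine ⟨_, c4, by omega, by omega, fun χ => ?_⟩
          rcases deg_cases hodd χ with e | e | e | e | e | e <;> omega
        · refine ⟨_, c5, by omega, by omega, fun χ => ?_⟩
          rcases deg_cases hodd χ with e | e | e | e | e | e <;> omega
      let _ := Fintype.ofFinite S
      rw [pdCount, Nat.card_eq_fintype_card, Fintype.card_subtype]
      simp only [hhd.2]
      rw [Finset.filter_or, Finset.filter_or, Finset.card_union_of_disjoint, Finset.card_union_of_disjoint]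
      · simp only [cnt, Nat.card_eq_fintype_card, Fintype.card_subtype] at c1 hst hh
        rw [c1, hst, hh]
      · exact Finset.disjoint_filter.mpr fun χ _ h1 h2 => by omega
      · rw [Finset.disjoint_union_right]
        exact ⟨Finset.disjoint_filter.mpr fun χ _ h1 h2 => by omega,
          Finset.disjoint_filter.mpr fun χ _ h1 h2 => by omega⟩
    · have h3 : q = 3 := by omega
      exact pdCount_twenty_four (by rw [hcardS, h3]) (Or.inl (by rw [card_conjClasses_sl_odd hodd, ← hqd, h3]))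
  -- odd prime dividing one of the tori
  have hmain : ∀ (T : Subgroup S) (hT : TorusData T) (Y a b : ℕ), Nat.card S = Nat.card T * Y → ¬ ℓ ∣ Y →
      ℓ ∣ Nat.card T → a ≠ b → (∀ χ : Cfsg.IrrCharacter S, ℓ ∣ Cfsg.charDegree (χ : S → ℂ) ↔
        Cfsg.charDegree (χ : S → ℂ) = a ∨ Cfsg.charDegree (χ : S → ℂ) = b) →
      cnt (F := F) a + cnt (F := F) b + Nat.card (ConjClasses (Subgroup.normalizer (T : Set S))) = q + 4 →
      pdCount ℓ S = pdCount ℓ (Subgroup.normalizer ((P : Subgroup S) : Set S)) := by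
    intro T hT Y a b hY hYℓ hTℓ hab hdeg hsum
    obtain ⟨Q, hQ⟩ := torus_odd hT hℓ2 hTℓ hY hYℓ
    refine mckay_of_sylow P Q ?_
    rw [hQ]
    have h := pdCount_compl (F := F) hodd ℓ
    rw [Nat.card_congr (Equiv.subtypeEquivRight hdeg), card_or a b hab] at h
    omega
  have hℓodd : ¬ ℓ ∣ 2 := fun h => hℓ2 ((Nat.prime_dvd_prime_iff_eq hℓ Nat.prime_two).mp h)
  have hℓ1 := hℓ.not_dvd_one
  have hℓ3 : 3 ≤ ℓ := by have := hℓ.two_le; omega
  have hnot : ℓ ∣ q - 1 → ¬ ℓ ∣ q + 1 := fun h h' => hℓodd (by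
    have := Nat.dvd_sub h' h
    rwa [show q + 1 - (q - 1) = 2 by omega] at this)
  have hhalf : ∀ a : ℕ, 2 ∣ a → (ℓ ∣ a / 2 ↔ ℓ ∣ a) := fun a ⟨c, hc⟩ => by
    rw [hc, Nat.mul_div_cancel_left _ two_pos]
    exact ⟨fun h => dvd_mul_of_dvd_right h 2, fun h => (hℓ.dvd_mul.mp h).resolve_left hℓodd⟩
  have hq5 : 5 ≤ q := by
    by_contra hlt
    rw [hcardS, show q = 3 by omega] at hdiv
    rw [show q = 3 by omega] at hℓq
    norm_num at hdiv
    have h24 : ℓ ∣ 3 * (2 * (2 * 2)) := by norm_num; exact hdiv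
    rcases hℓ.dvd_mul.mp h24 with h | h
    · exact hℓq h
    · exact hℓodd (hℓ.dvd_of_dvd_pow (n := 3) (by norm_num; exact h))
  obtain ⟨c1, c2, c3, c4, c5⟩ := cnt_values hodd hq5
  rw [hcardS] at hdiv
  rcases hℓ.dvd_mul.mp ((hℓ.dvd_mul.mp hdiv).resolve_left hℓq) with h | h
  · obtain ⟨T, hT, hTc, hkN⟩ := exists_split (F := F) hodd hq5
    refine hmain T hT (q * (q + 1)) _ _ (by rw [hTc, hcardS]; ring)
      (fun h' => (hℓ.dvd_mul.mp h').elim hℓq (hnot h)) (hTc ▸ h) (show q - 1 ≠ (q - 1) / 2 by omega)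
      (fun χ => ?_) (by rw [c3, c5, hkN]; omega)
    refine ⟨fun h' => ?_, fun h' => ?_⟩
    · rcases deg_cases hodd χ with e | e | e | e | e | e <;> rw [e] at h'
      · exact absurd h' hℓ1
      · exact absurd h' hℓq
      · exact absurd h' (hnot h)
      · exact absurd ((hhalf _ (by omega)).mp h') (hnot h)
      · exact Or.inl e
      · exact Or.inr e
    · rcases h' with e | e <;> rw [e]
      · exact h
      · exact (hhalf _ (by omega)).mpr h
  · obtain ⟨C, hC⟩ := exists_torus (F := F) hodd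
    have hn' : ¬ ℓ ∣ q - 1 := fun h' => hnot h' h
    refine hmain C (torusData_of_torus hC) (q * (q - 1)) _ _ (by rw [hC.card, hcardS]; ring)
      (fun h' => (hℓ.dvd_mul.mp h').elim hℓq hn') (hC.card ▸ h) (show q + 1 ≠ (q + 1) / 2 by omega)
      (fun χ => ?_) (by rw [c2, c4, hC.normalizer_data.2.1]; omega)
    refine ⟨fun h' => ?_, fun h' => ?_⟩
    · rcases deg_cases hodd χ with e | e | e | e | e | e <;> rw [e] at h'
      · exact absurd h' hℓ1
      · exact absurd h' hℓq
      · exact Or.inl e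
      · exact Or.inr e
      · exact absurd h' hn'
      · exact absurd ((hhalf _ (by omega)).mp h') hn'
    · rcases h' with e | e <;> rw [e]
      · exact h
      · exact (hhalf _ (by omega)).mpr h

end CfsgLib.SL2Table.McKay
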